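import Cfsg.Agent.Lib.Helper9.TCData.X1692.Main

set_option autoImplicit false
set_option maxRecDepth 1000000

namespace Cfsg.Agent.Helper9.TCData.X1692
open Cfsg.Agent.Helper9.TC2

theorem e1_19 : allRange 55111 3005 (fun u => chkE tab 1 u) = true := by decide +kernel

theorem e1_20 : allRange 58116 3152 (fun u => chkE tab 1 u) = true := by decide +kernel

theorem e1_21 : allRange 61268 2776 (fun u => chkE tab 1 u) = true := by decide +kernel

theorem e1_22 : allRange 64044 3020 (fun u => chkE tab 1 u) = true := by decide +kernel

theorem e1_23 : allRange 67064 3158 (fun u => chkE tab 1 u) = true := by decide +kernel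

theorem e1_24 : allRange 70222 3133 (fun u => chkE tab 1 u) = true := by decide +kernel

theorem e1_25 : allRange 73355 3155 (fun u => chkE tab 1 u) = true := by decide +kernel

theorem e1_26 : allRange 76510 3139 (fun u => chkE tab 1 u) = true := by decide +kernel

theorem e1_27 : allRange 79649 2837 (fun u => chkE tab 1 u) = true := by decide +kernel

theorem e1_28 : allRange 82486 2690 (fun u => chkE tab 1 u) = true := by decide +kernel


end Cfsg.Agent.Helper9.TCData.X1692
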