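import Cfsg.Agent.Lib.Helper9.TCData.X1692.Main

set_option autoImplicit false
set_option maxRecDepth 1000000

namespace Cfsg.Agent.Helper9.TCData.X1692
open Cfsg.Agent.Helper9.TC2

theorem f_360 : allRange 110880 308 (fun u => chkFin tab u) = true := by decide +kernel

theorem f_361 : allRange 111188 308 (fun u => chkFin tab u) = true := by decide +kernel

theorem f_362 : allRange 111496 308 (fun u => chkFin tab u) = true := by decide +kernel

theorem f_363 : allRange 111804 308 (fun u => chkFin tab u) = true := by decide +kernel

theorem f_364 : allRange 112112 308 (fun u => chkFin tab u) = true := by decide +kernel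

theorem f_365 : allRange 112420 308 (fun u => chkFin tab u) = true := by decide +kernel

theorem f_366 : allRange 112728 308 (fun u => chkFin tab u) = true := by decide +kernel

theorem f_367 : allRange 113036 308 (fun u => chkFin tab u) = true := by decide +kernel

theorem f_368 : allRange 113344 308 (fun u => chkFin tab u) = true := by decide +kernel

theorem f_369 : allRange 113652 308 (fun u => chkFin tab u) = true := by decide +kernel


end Cfsg.Agent.Helper9.TCData.X1692
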