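import Cfsg.Agent.Lib.Helper9.TCData.X1692.Main

set_option autoImplicit false
set_option maxRecDepth 1000000

namespace Cfsg.Agent.Helper9.TCData.X1692
open Cfsg.Agent.Helper9.TC2

theorem c_81 : allRange 216027 2667 (fun u => chkCls tab u) = true := by decide +kernel

theorem c_82 : allRange 218694 2667 (fun u => chkCls tab u) = true := by decide +kernel

theorem c_83 : allRange 221361 2667 (fun u => chkCls tab u) = true := by decide +kernel

theorem c_84 : allRange 224028 2667 (fun u => chkCls tab u) = true := by decide +kernel

theorem c_85 : allRange 226695 2667 (fun u => chkCls tab u) = true := by decide +kernel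

theorem c_86 : allRange 229362 2232 (fun u => chkCls tab u) = true := by decide +kernel


end Cfsg.Agent.Helper9.TCData.X1692
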