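import Cfsg.Agent.Lib.Helper9.TCData.X1692.Main

set_option autoImplicit false
set_option maxRecDepth 1000000

namespace Cfsg.Agent.Helper9.TCData.X1692
open Cfsg.Agent.Helper9.TC2

theorem m1_30 : allRange 23790 793 (fun u => chkM1 tab u) = true := by decide +kernel

theorem m1_31 : allRange 24583 793 (fun u => chkM1 tab u) = true := by decide +kernel

theorem m1_32 : allRange 25376 793 (fun u => chkM1 tab u) = true := by decide +kernel

theorem m1_33 : allRange 26169 793 (fun u => chkM1 tab u) = true := by decide +kernel

theorem m1_34 : allRange 26962 793 (fun u => chkM1 tab u) = true := by decide +kernel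

theorem m1_35 : allRange 27755 793 (fun u => chkM1 tab u) = true := by decide +kernel

theorem m1_36 : allRange 28548 793 (fun u => chkM1 tab u) = true := by decide +kernel

theorem m1_37 : allRange 29341 793 (fun u => chkM1 tab u) = true := by decide +kernel

theorem m1_38 : allRange 30134 793 (fun u => chkM1 tab u) = true := by decide +kernel

theorem m1_39 : allRange 30927 793 (fun u => chkM1 tab u) = true := by decide +kernel


end Cfsg.Agent.Helper9.TCData.X1692
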