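import Cfsg.Agent.Lib.Helper9.TCData.X1692.Main

set_option autoImplicit false
set_option maxRecDepth 1000000

namespace Cfsg.Agent.Helper9.TCData.X1692
open Cfsg.Agent.Helper9.TC2

theorem m1_40 : allRange 31720 793 (fun u => chkM1 tab u) = true := by decide +kernel

theorem m1_41 : allRange 32513 793 (fun u => chkM1 tab u) = true := by decide +kernel

theorem m1_42 : allRange 33306 793 (fun u => chkM1 tab u) = true := by decide +kernel

theorem m1_43 : allRange 34099 793 (fun u => chkM1 tab u) = true := by decide +kernel

theorem m1_44 : allRange 34892 793 (fun u => chkM1 tab u) = true := by decide +kernel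

theorem m1_45 : allRange 35685 793 (fun u => chkM1 tab u) = true := by decide +kernel

theorem m1_46 : allRange 36478 793 (fun u => chkM1 tab u) = true := by decide +kernel

theorem m1_47 : allRange 37271 793 (fun u => chkM1 tab u) = true := by decide +kernel

theorem m1_48 : allRange 38064 793 (fun u => chkM1 tab u) = true := by decide +kernel

theorem m1_49 : allRange 38857 793 (fun u => chkM1 tab u) = true := by decide +kernel


end Cfsg.Agent.Helper9.TCData.X1692
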