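import Cfsg.Agent.Lib.Helper9.TCData.X1692.Main

set_option autoImplicit false
set_option maxRecDepth 1000000

namespace Cfsg.Agent.Helper9.TCData.X1692
open Cfsg.Agent.Helper9.TC2

theorem m1_90 : allRange 71370 793 (fun u => chkM1 tab u) = true := by decide +kernel

theorem m1_91 : allRange 72163 793 (fun u => chkM1 tab u) = true := by decide +kernel

theorem m1_92 : allRange 72956 793 (fun u => chkM1 tab u) = true := by decide +kernel

theorem m1_93 : allRange 73749 793 (fun u => chkM1 tab u) = true := by decide +kernel

theorem m1_94 : allRange 74542 793 (fun u => chkM1 tab u) = true := by decide +kernel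

theorem m1_95 : allRange 75335 793 (fun u => chkM1 tab u) = true := by decide +kernel

theorem m1_96 : allRange 76128 793 (fun u => chkM1 tab u) = true := by decide +kernel

theorem m1_97 : allRange 76921 793 (fun u => chkM1 tab u) = true := by decide +kernel

theorem m1_98 : allRange 77714 793 (fun u => chkM1 tab u) = true := by decide +kernel

theorem m1_99 : allRange 78507 793 (fun u => chkM1 tab u) = true := by decide +kernel


end Cfsg.Agent.Helper9.TCData.X1692
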