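import Cfsg.Agent.Lib.Helper9.TCData.X1692.Main

set_option autoImplicit false
set_option maxRecDepth 1000000

namespace Cfsg.Agent.Helper9.TCData.X1692
open Cfsg.Agent.Helper9.TC2

theorem m1_100 : allRange 79300 793 (fun u => chkM1 tab u) = true := by decide +kernel

theorem m1_101 : allRange 80093 793 (fun u => chkM1 tab u) = true := by decide +kernel

theorem m1_102 : allRange 80886 793 (fun u => chkM1 tab u) = true := by decide +kernel

theorem m1_103 : allRange 81679 793 (fun u => chkM1 tab u) = true := by decide +kernel

theorem m1_104 : allRange 82472 793 (fun u => chkM1 tab u) = true := by decide +kernel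

theorem m1_105 : allRange 83265 793 (fun u => chkM1 tab u) = true := by decide +kernel

theorem m1_106 : allRange 84058 793 (fun u => chkM1 tab u) = true := by decide +kernel

theorem m1_107 : allRange 84851 793 (fun u => chkM1 tab u) = true := by decide +kernel

theorem m1_108 : allRange 85644 793 (fun u => chkM1 tab u) = true := by decide +kernel

theorem m1_109 : allRange 86437 793 (fun u => chkM1 tab u) = true := by decide +kernel


end Cfsg.Agent.Helper9.TCData.X1692
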