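import Cfsg.Agent.Lib.Helper9.TCData.X1692.Main

set_option autoImplicit false
set_option maxRecDepth 1000000

namespace Cfsg.Agent.Helper9.TCData.X1692
open Cfsg.Agent.Helper9.TC2

theorem m1_120 : allRange 95160 793 (fun u => chkM1 tab u) = true := by decide +kernel

theorem m1_121 : allRange 95953 793 (fun u => chkM1 tab u) = true := by decide +kernel

theorem m1_122 : allRange 96746 793 (fun u => chkM1 tab u) = true := by decide +kernel

theorem m1_123 : allRange 97539 793 (fun u => chkM1 tab u) = true := by decide +kernel

theorem m1_124 : allRange 98332 793 (fun u => chkM1 tab u) = true := by decide +kernel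

theorem m1_125 : allRange 99125 793 (fun u => chkM1 tab u) = true := by decide +kernel

theorem m1_126 : allRange 99918 793 (fun u => chkM1 tab u) = true := by decide +kernel

theorem m1_127 : allRange 100711 793 (fun u => chkM1 tab u) = true := by decide +kernel

theorem m1_128 : allRange 101504 793 (fun u => chkM1 tab u) = true := by decide +kernel

theorem m1_129 : allRange 102297 793 (fun u => chkM1 tab u) = true := by decide +kernel


end Cfsg.Agent.Helper9.TCData.X1692
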