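import Cfsg.Agent.Lib.Helper9.TCData.X1692.Main

set_option autoImplicit false
set_option maxRecDepth 1000000

namespace Cfsg.Agent.Helper9.TCData.X1692
open Cfsg.Agent.Helper9.TC2

theorem m1_130 : allRange 103090 793 (fun u => chkM1 tab u) = true := by decide +kernel

theorem m1_131 : allRange 103883 793 (fun u => chkM1 tab u) = true := by decide +kernel

theorem m1_132 : allRange 104676 793 (fun u => chkM1 tab u) = true := by decide +kernel

theorem m1_133 : allRange 105469 793 (fun u => chkM1 tab u) = true := by decide +kernel

theorem m1_134 : allRange 106262 793 (fun u => chkM1 tab u) = true := by decide +kernel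

theorem m1_135 : allRange 107055 793 (fun u => chkM1 tab u) = true := by decide +kernel

theorem m1_136 : allRange 107848 793 (fun u => chkM1 tab u) = true := by decide +kernel

theorem m1_137 : allRange 108641 793 (fun u => chkM1 tab u) = true := by decide +kernel

theorem m1_138 : allRange 109434 793 (fun u => chkM1 tab u) = true := by decide +kernel

theorem m1_139 : allRange 110227 793 (fun u => chkM1 tab u) = true := by decide +kernel


end Cfsg.Agent.Helper9.TCData.X1692
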