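import Cfsg.Agent.Lib.Helper9.TCData.X1692.Main

set_option autoImplicit false
set_option maxRecDepth 1000000

namespace Cfsg.Agent.Helper9.TCData.X1692
open Cfsg.Agent.Helper9.TC2

theorem e1_49 : allRange 147864 3876 (fun u => chkE tab 1 u) = true := by decide +kernel

theorem e1_50 : allRange 151740 3546 (fun u => chkE tab 1 u) = true := by decide +kernel

theorem e1_51 : allRange 155286 3801 (fun u => chkE tab 1 u) = true := by decide +kernel

theorem e1_52 : allRange 159087 3564 (fun u => chkE tab 1 u) = true := by decide +kernel

theorem e1_53 : allRange 162651 3920 (fun u => chkE tab 1 u) = true := by decide +kernel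

theorem e1_54 : allRange 166571 4588 (fun u => chkE tab 1 u) = true := by decide +kernel

theorem e1_55 : allRange 171159 5522 (fun u => chkE tab 1 u) = true := by decide +kernel

theorem e1_56 : allRange 176681 4684 (fun u => chkE tab 1 u) = true := by decide +kernel

theorem e1_57 : allRange 181365 5120 (fun u => chkE tab 1 u) = true := by decide +kernel

theorem e1_58 : allRange 186485 4116 (fun u => chkE tab 1 u) = true := by decide +kernel


end Cfsg.Agent.Helper9.TCData.X1692
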