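import Cfsg.Agent.Lib.Helper9.TCData.X1692.Main

set_option autoImplicit false
set_option maxRecDepth 1000000

namespace Cfsg.Agent.Helper9.TCData.X1692
open Cfsg.Agent.Helper9.TC2

theorem m2_55 : allRange 4730 86 (fun u => chkFix tab mwords u) = true := by decide +kernel

theorem m2_56 : allRange 4816 86 (fun u => chkFix tab mwords u) = true := by decide +kernel

theorem m2_57 : allRange 4902 86 (fun u => chkFix tab mwords u) = true := by decide +kernel

theorem m2_58 : allRange 4988 86 (fun u => chkFix tab mwords u) = true := by decide +kernel

theorem m2_59 : allRange 5074 86 (fun u => chkFix tab mwords u) = true := by decide +kernel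

theorem m2_60 : allRange 5160 86 (fun u => chkFix tab mwords u) = true := by decide +kernel

theorem m2_61 : allRange 5246 86 (fun u => chkFix tab mwords u) = true := by decide +kernel

theorem m2_62 : allRange 5332 86 (fun u => chkFix tab mwords u) = true := by decide +kernel

theorem m2_63 : allRange 5418 86 (fun u => chkFix tab mwords u) = true := by decide +kernel

theorem m2_64 : allRange 5504 86 (fun u => chkFix tab mwords u) = true := by decide +kernel


end Cfsg.Agent.Helper9.TCData.X1692
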