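import Cfsg.Agent.Lib.Helper9.TCData.X1692.Main

set_option autoImplicit false
set_option maxRecDepth 1000000

namespace Cfsg.Agent.Helper9.TCData.X1692
open Cfsg.Agent.Helper9.TC2

theorem m2_85 : allRange 7310 86 (fun u => chkFix tab mwords u) = true := by decide +kernel

theorem m2_86 : allRange 7396 86 (fun u => chkFix tab mwords u) = true := by decide +kernel

theorem m2_87 : allRange 7482 86 (fun u => chkFix tab mwords u) = true := by decide +kernel

theorem m2_88 : allRange 7568 86 (fun u => chkFix tab mwords u) = true := by decide +kernel

theorem m2_89 : allRange 7654 86 (fun u => chkFix tab mwords u) = true := by decide +kernel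

theorem m2_90 : allRange 7740 86 (fun u => chkFix tab mwords u) = true := by decide +kernel

theorem m2_91 : allRange 7826 86 (fun u => chkFix tab mwords u) = true := by decide +kernel

theorem m2_92 : allRange 7912 86 (fun u => chkFix tab mwords u) = true := by decide +kernel

theorem m2_93 : allRange 7998 86 (fun u => chkFix tab mwords u) = true := by decide +kernel

theorem m2_94 : allRange 8084 86 (fun u => chkFix tab mwords u) = true := by decide +kernel


end Cfsg.Agent.Helper9.TCData.X1692
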