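import Cfsg.Agent.Lib.Helper9.TCData.X1692.Main

set_option autoImplicit false
set_option maxRecDepth 1000000

namespace Cfsg.Agent.Helper9.TCData.X1692
open Cfsg.Agent.Helper9.TC2

theorem m2_95 : allRange 8170 86 (fun u => chkFix tab mwords u) = true := by decide +kernel

theorem m2_96 : allRange 8256 86 (fun u => chkFix tab mwords u) = true := by decide +kernel

theorem m2_97 : allRange 8342 86 (fun u => chkFix tab mwords u) = true := by decide +kernel

theorem m2_98 : allRange 8428 86 (fun u => chkFix tab mwords u) = true := by decide +kernel

theorem m2_99 : allRange 8514 86 (fun u => chkFix tab mwords u) = true := by decide +kernel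

theorem m2_100 : allRange 8600 86 (fun u => chkFix tab mwords u) = true := by decide +kernel

theorem m2_101 : allRange 8686 86 (fun u => chkFix tab mwords u) = true := by decide +kernel

theorem m2_102 : allRange 8772 86 (fun u => chkFix tab mwords u) = true := by decide +kernel

theorem m2_103 : allRange 8858 86 (fun u => chkFix tab mwords u) = true := by decide +kernel

theorem m2_104 : allRange 8944 86 (fun u => chkFix tab mwords u) = true := by decide +kernel


end Cfsg.Agent.Helper9.TCData.X1692
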