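import Cfsg.Agent.Lib.Helper9.TCData.X1692.Main

set_option autoImplicit false
set_option maxRecDepth 1000000

namespace Cfsg.Agent.Helper9.TCData.X1692
open Cfsg.Agent.Helper9.TC2

theorem m2_125 : allRange 10750 86 (fun u => chkFix tab mwords u) = true := by decide +kernel

theorem m2_126 : allRange 10836 86 (fun u => chkFix tab mwords u) = true := by decide +kernel

theorem m2_127 : allRange 10922 86 (fun u => chkFix tab mwords u) = true := by decide +kernel

theorem m2_128 : allRange 11008 86 (fun u => chkFix tab mwords u) = true := by decide +kernel

theorem m2_129 : allRange 11094 86 (fun u => chkFix tab mwords u) = true := by decide +kernel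

theorem m2_130 : allRange 11180 86 (fun u => chkFix tab mwords u) = true := by decide +kernel

theorem m2_131 : allRange 11266 86 (fun u => chkFix tab mwords u) = true := by decide +kernel

theorem m2_132 : allRange 11352 86 (fun u => chkFix tab mwords u) = true := by decide +kernel

theorem m2_133 : allRange 11438 86 (fun u => chkFix tab mwords u) = true := by decide +kernel

theorem m2_134 : allRange 11524 86 (fun u => chkFix tab mwords u) = true := by decide +kernel


end Cfsg.Agent.Helper9.TCData.X1692
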