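import Cfsg.Agent.Lib.Helper9.TCData.X1692.Main

set_option autoImplicit false
set_option maxRecDepth 1000000

namespace Cfsg.Agent.Helper9.TCData.X1692
open Cfsg.Agent.Helper9.TC2

theorem m2_165 : allRange 14190 86 (fun u => chkFix tab mwords u) = true := by decide +kernel

theorem m2_166 : allRange 14276 86 (fun u => chkFix tab mwords u) = true := by decide +kernel

theorem m2_167 : allRange 14362 86 (fun u => chkFix tab mwords u) = true := by decide +kernel

theorem m2_168 : allRange 14448 86 (fun u => chkFix tab mwords u) = true := by decide +kernel

theorem m2_169 : allRange 14534 86 (fun u => chkFix tab mwords u) = true := by decide +kernel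

theorem m2_170 : allRange 14620 86 (fun u => chkFix tab mwords u) = true := by decide +kernel

theorem m2_171 : allRange 14706 86 (fun u => chkFix tab mwords u) = true := by decide +kernel

theorem m2_172 : allRange 14792 86 (fun u => chkFix tab mwords u) = true := by decide +kernel

theorem m2_173 : allRange 14878 86 (fun u => chkFix tab mwords u) = true := by decide +kernel

theorem m2_174 : allRange 14964 86 (fun u => chkFix tab mwords u) = true := by decide +kernel


end Cfsg.Agent.Helper9.TCData.X1692
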