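import Cfsg.Agent.Lib.Helper9.TCData.X1692.Main

set_option autoImplicit false
set_option maxRecDepth 1000000

namespace Cfsg.Agent.Helper9.TCData.X1692
open Cfsg.Agent.Helper9.TC2

theorem m2_185 : allRange 15910 86 (fun u => chkFix tab mwords u) = true := by decide +kernel

theorem m2_186 : allRange 15996 86 (fun u => chkFix tab mwords u) = true := by decide +kernel

theorem m2_187 : allRange 16082 86 (fun u => chkFix tab mwords u) = true := by decide +kernel

theorem m2_188 : allRange 16168 86 (fun u => chkFix tab mwords u) = true := by decide +kernel

theorem m2_189 : allRange 16254 86 (fun u => chkFix tab mwords u) = true := by decide +kernel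

theorem m2_190 : allRange 16340 86 (fun u => chkFix tab mwords u) = true := by decide +kernel

theorem m2_191 : allRange 16426 86 (fun u => chkFix tab mwords u) = true := by decide +kernel

theorem m2_192 : allRange 16512 86 (fun u => chkFix tab mwords u) = true := by decide +kernel

theorem m2_193 : allRange 16598 86 (fun u => chkFix tab mwords u) = true := by decide +kernel

theorem m2_194 : allRange 16684 86 (fun u => chkFix tab mwords u) = true := by decide +kernel


end Cfsg.Agent.Helper9.TCData.X1692
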