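import Cfsg.Agent.Lib.Helper9.TCData.X1692.Main

set_option autoImplicit false
set_option maxRecDepth 1000000

namespace Cfsg.Agent.Helper9.TCData.X1692
open Cfsg.Agent.Helper9.TC2

theorem m2_205 : allRange 17630 86 (fun u => chkFix tab mwords u) = true := by decide +kernel

theorem m2_206 : allRange 17716 86 (fun u => chkFix tab mwords u) = true := by decide +kernel

theorem m2_207 : allRange 17802 86 (fun u => chkFix tab mwords u) = true := by decide +kernel

theorem m2_208 : allRange 17888 86 (fun u => chkFix tab mwords u) = true := by decide +kernel

theorem m2_209 : allRange 17974 86 (fun u => chkFix tab mwords u) = true := by decide +kernel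

theorem m2_210 : allRange 18060 86 (fun u => chkFix tab mwords u) = true := by decide +kernel

theorem m2_211 : allRange 18146 86 (fun u => chkFix tab mwords u) = true := by decide +kernel

theorem m2_212 : allRange 18232 86 (fun u => chkFix tab mwords u) = true := by decide +kernel

theorem m2_213 : allRange 18318 86 (fun u => chkFix tab mwords u) = true := by decide +kernel

theorem m2_214 : allRange 18404 86 (fun u => chkFix tab mwords u) = true := by decide +kernel


end Cfsg.Agent.Helper9.TCData.X1692
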