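import Cfsg.Agent.Lib.Helper9.TCData.X1692.Main

set_option autoImplicit false
set_option maxRecDepth 1000000

namespace Cfsg.Agent.Helper9.TCData.X1692
open Cfsg.Agent.Helper9.TC2

theorem e1_69 : allRange 212353 2168 (fun u => chkE tab 1 u) = true := by decide +kernel

theorem e1_70 : allRange 214521 2084 (fun u => chkE tab 1 u) = true := by decide +kernel

theorem e1_71 : allRange 216605 2176 (fun u => chkE tab 1 u) = true := by decide +kernel

theorem e1_72 : allRange 218781 2316 (fun u => chkE tab 1 u) = true := by decide +kernel

theorem e1_73 : allRange 221097 2135 (fun u => chkE tab 1 u) = true := by decide +kernel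

theorem e1_74 : allRange 223232 2443 (fun u => chkE tab 1 u) = true := by decide +kernel

theorem e1_75 : allRange 225675 2576 (fun u => chkE tab 1 u) = true := by decide +kernel

theorem e1_76 : allRange 228251 2728 (fun u => chkE tab 1 u) = true := by decide +kernel

theorem e1_77 : allRange 230979 615 (fun u => chkE tab 1 u) = true := by decide +kernel

theorem e2_0 : allRange 0 2774 (fun u => chkE tab 2 u) = true := by decide +kernel


end Cfsg.Agent.Helper9.TCData.X1692
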