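import Cfsg.Agent.Lib.Helper9.TCData.X1692.Main

set_option autoImplicit false
set_option maxRecDepth 1000000

namespace Cfsg.Agent.Helper9.TCData.X1692
open Cfsg.Agent.Helper9.TC2

theorem m2_215 : allRange 18490 86 (fun u => chkFix tab mwords u) = true := by decide +kernel

theorem m2_216 : allRange 18576 86 (fun u => chkFix tab mwords u) = true := by decide +kernel

theorem m2_217 : allRange 18662 86 (fun u => chkFix tab mwords u) = true := by decide +kernel

theorem m2_218 : allRange 18748 86 (fun u => chkFix tab mwords u) = true := by decide +kernel

theorem m2_219 : allRange 18834 86 (fun u => chkFix tab mwords u) = true := by decide +kernel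

theorem m2_220 : allRange 18920 86 (fun u => chkFix tab mwords u) = true := by decide +kernel

theorem m2_221 : allRange 19006 86 (fun u => chkFix tab mwords u) = true := by decide +kernel

theorem m2_222 : allRange 19092 86 (fun u => chkFix tab mwords u) = true := by decide +kernel

theorem m2_223 : allRange 19178 86 (fun u => chkFix tab mwords u) = true := by decide +kernel

theorem m2_224 : allRange 19264 86 (fun u => chkFix tab mwords u) = true := by decide +kernel


end Cfsg.Agent.Helper9.TCData.X1692
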