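import Cfsg.Agent.Lib.Helper9.TCData.X1692.Main

set_option autoImplicit false
set_option maxRecDepth 1000000

namespace Cfsg.Agent.Helper9.TCData.X1692
open Cfsg.Agent.Helper9.TC2

theorem m2_225 : allRange 19350 86 (fun u => chkFix tab mwords u) = true := by decide +kernel

theorem m2_226 : allRange 19436 86 (fun u => chkFix tab mwords u) = true := by decide +kernel

theorem m2_227 : allRange 19522 86 (fun u => chkFix tab mwords u) = true := by decide +kernel

theorem m2_228 : allRange 19608 86 (fun u => chkFix tab mwords u) = true := by decide +kernel

theorem m2_229 : allRange 19694 86 (fun u => chkFix tab mwords u) = true := by decide +kernel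

theorem m2_230 : allRange 19780 86 (fun u => chkFix tab mwords u) = true := by decide +kernel

theorem m2_231 : allRange 19866 86 (fun u => chkFix tab mwords u) = true := by decide +kernel

theorem m2_232 : allRange 19952 86 (fun u => chkFix tab mwords u) = true := by decide +kernel

theorem m2_233 : allRange 20038 86 (fun u => chkFix tab mwords u) = true := by decide +kernel

theorem m2_234 : allRange 20124 86 (fun u => chkFix tab mwords u) = true := by decide +kernel


end Cfsg.Agent.Helper9.TCData.X1692
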