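import Cfsg.Agent.Lib.Helper9.TCData.X1692.Main

set_option autoImplicit false
set_option maxRecDepth 1000000

namespace Cfsg.Agent.Helper9.TCData.X1692
open Cfsg.Agent.Helper9.TC2

theorem m2_305 : allRange 26230 86 (fun u => chkFix tab mwords u) = true := by decide +kernel

theorem m2_306 : allRange 26316 86 (fun u => chkFix tab mwords u) = true := by decide +kernel

theorem m2_307 : allRange 26402 86 (fun u => chkFix tab mwords u) = true := by decide +kernel

theorem m2_308 : allRange 26488 86 (fun u => chkFix tab mwords u) = true := by decide +kernel

theorem m2_309 : allRange 26574 86 (fun u => chkFix tab mwords u) = true := by decide +kernel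

theorem m2_310 : allRange 26660 86 (fun u => chkFix tab mwords u) = true := by decide +kernel

theorem m2_311 : allRange 26746 86 (fun u => chkFix tab mwords u) = true := by decide +kernel

theorem m2_312 : allRange 26832 86 (fun u => chkFix tab mwords u) = true := by decide +kernel

theorem m2_313 : allRange 26918 86 (fun u => chkFix tab mwords u) = true := by decide +kernel

theorem m2_314 : allRange 27004 86 (fun u => chkFix tab mwords u) = true := by decide +kernel


end Cfsg.Agent.Helper9.TCData.X1692
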