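import Cfsg.Agent.Lib.Helper9.TCData.X1692.Main

set_option autoImplicit false
set_option maxRecDepth 1000000

namespace Cfsg.Agent.Helper9.TCData.X1692
open Cfsg.Agent.Helper9.TC2

theorem e2_1 : allRange 2774 3057 (fun u => chkE tab 2 u) = true := by decide +kernel

theorem e2_2 : allRange 5831 2666 (fun u => chkE tab 2 u) = true := by decide +kernel

theorem e2_3 : allRange 8497 2862 (fun u => chkE tab 2 u) = true := by decide +kernel

theorem e2_4 : allRange 11359 2883 (fun u => chkE tab 2 u) = true := by decide +kernel

theorem e2_5 : allRange 14242 2797 (fun u => chkE tab 2 u) = true := by decide +kernel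

theorem e2_6 : allRange 17039 2590 (fun u => chkE tab 2 u) = true := by decide +kernel

theorem e2_7 : allRange 19629 2983 (fun u => chkE tab 2 u) = true := by decide +kernel

theorem e2_8 : allRange 22612 2955 (fun u => chkE tab 2 u) = true := by decide +kernel

theorem e2_9 : allRange 25567 2851 (fun u => chkE tab 2 u) = true := by decide +kernel

theorem e2_10 : allRange 28418 2703 (fun u => chkE tab 2 u) = true := by decide +kernel


end Cfsg.Agent.Helper9.TCData.X1692
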