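import Cfsg.Agent.Lib.Helper9.TCData.X1692.Main

set_option autoImplicit false
set_option maxRecDepth 1000000

namespace Cfsg.Agent.Helper9.TCData.X1692
open Cfsg.Agent.Helper9.TC2

theorem m2_345 : allRange 29670 86 (fun u => chkFix tab mwords u) = true := by decide +kernel

theorem m2_346 : allRange 29756 86 (fun u => chkFix tab mwords u) = true := by decide +kernel

theorem m2_347 : allRange 29842 86 (fun u => chkFix tab mwords u) = true := by decide +kernel

theorem m2_348 : allRange 29928 86 (fun u => chkFix tab mwords u) = true := by decide +kernel

theorem m2_349 : allRange 30014 86 (fun u => chkFix tab mwords u) = true := by decide +kernel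

theorem m2_350 : allRange 30100 86 (fun u => chkFix tab mwords u) = true := by decide +kernel

theorem m2_351 : allRange 30186 86 (fun u => chkFix tab mwords u) = true := by decide +kernel

theorem m2_352 : allRange 30272 86 (fun u => chkFix tab mwords u) = true := by decide +kernel

theorem m2_353 : allRange 30358 86 (fun u => chkFix tab mwords u) = true := by decide +kernel

theorem m2_354 : allRange 30444 86 (fun u => chkFix tab mwords u) = true := by decide +kernel


end Cfsg.Agent.Helper9.TCData.X1692
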