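import Cfsg.Agent.Lib.Helper9.TCData.X1692.Main

set_option autoImplicit false
set_option maxRecDepth 1000000

namespace Cfsg.Agent.Helper9.TCData.X1692
open Cfsg.Agent.Helper9.TC2

theorem m2_405 : allRange 34830 86 (fun u => chkFix tab mwords u) = true := by decide +kernel

theorem m2_406 : allRange 34916 86 (fun u => chkFix tab mwords u) = true := by decide +kernel

theorem m2_407 : allRange 35002 86 (fun u => chkFix tab mwords u) = true := by decide +kernel

theorem m2_408 : allRange 35088 86 (fun u => chkFix tab mwords u) = true := by decide +kernel

theorem m2_409 : allRange 35174 86 (fun u => chkFix tab mwords u) = true := by decide +kernel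

theorem m2_410 : allRange 35260 86 (fun u => chkFix tab mwords u) = true := by decide +kernel

theorem m2_411 : allRange 35346 86 (fun u => chkFix tab mwords u) = true := by decide +kernel

theorem m2_412 : allRange 35432 86 (fun u => chkFix tab mwords u) = true := by decide +kernel

theorem m2_413 : allRange 35518 86 (fun u => chkFix tab mwords u) = true := by decide +kernel

theorem m2_414 : allRange 35604 86 (fun u => chkFix tab mwords u) = true := by decide +kernel


end Cfsg.Agent.Helper9.TCData.X1692
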