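import Cfsg.Agent.Lib.Helper9.TCData.X1692.Main

set_option autoImplicit false
set_option maxRecDepth 1000000

namespace Cfsg.Agent.Helper9.TCData.X1692
open Cfsg.Agent.Helper9.TC2

theorem m2_415 : allRange 35690 86 (fun u => chkFix tab mwords u) = true := by decide +kernel

theorem m2_416 : allRange 35776 86 (fun u => chkFix tab mwords u) = true := by decide +kernel

theorem m2_417 : allRange 35862 86 (fun u => chkFix tab mwords u) = true := by decide +kernel

theorem m2_418 : allRange 35948 86 (fun u => chkFix tab mwords u) = true := by decide +kernel

theorem m2_419 : allRange 36034 86 (fun u => chkFix tab mwords u) = true := by decide +kernel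

theorem m2_420 : allRange 36120 86 (fun u => chkFix tab mwords u) = true := by decide +kernel

theorem m2_421 : allRange 36206 86 (fun u => chkFix tab mwords u) = true := by decide +kernel

theorem m2_422 : allRange 36292 86 (fun u => chkFix tab mwords u) = true := by decide +kernel

theorem m2_423 : allRange 36378 86 (fun u => chkFix tab mwords u) = true := by decide +kernel

theorem m2_424 : allRange 36464 86 (fun u => chkFix tab mwords u) = true := by decide +kernel


end Cfsg.Agent.Helper9.TCData.X1692
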