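import Cfsg.Agent.Lib.Helper9.TCData.X1692.Main

set_option autoImplicit false
set_option maxRecDepth 1000000

namespace Cfsg.Agent.Helper9.TCData.X1692
open Cfsg.Agent.Helper9.TC2

theorem m2_455 : allRange 39130 86 (fun u => chkFix tab mwords u) = true := by decide +kernel

theorem m2_456 : allRange 39216 86 (fun u => chkFix tab mwords u) = true := by decide +kernel

theorem m2_457 : allRange 39302 86 (fun u => chkFix tab mwords u) = true := by decide +kernel

theorem m2_458 : allRange 39388 86 (fun u => chkFix tab mwords u) = true := by decide +kernel

theorem m2_459 : allRange 39474 86 (fun u => chkFix tab mwords u) = true := by decide +kernel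

theorem m2_460 : allRange 39560 86 (fun u => chkFix tab mwords u) = true := by decide +kernel

theorem m2_461 : allRange 39646 86 (fun u => chkFix tab mwords u) = true := by decide +kernel

theorem m2_462 : allRange 39732 86 (fun u => chkFix tab mwords u) = true := by decide +kernel

theorem m2_463 : allRange 39818 86 (fun u => chkFix tab mwords u) = true := by decide +kernel

theorem m2_464 : allRange 39904 86 (fun u => chkFix tab mwords u) = true := by decide +kernel


end Cfsg.Agent.Helper9.TCData.X1692
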