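import Cfsg.Agent.Lib.Helper9.TCData.X1692.Main

set_option autoImplicit false
set_option maxRecDepth 1000000

namespace Cfsg.Agent.Helper9.TCData.X1692
open Cfsg.Agent.Helper9.TC2

theorem m2_465 : allRange 39990 86 (fun u => chkFix tab mwords u) = true := by decide +kernel

theorem m2_466 : allRange 40076 86 (fun u => chkFix tab mwords u) = true := by decide +kernel

theorem m2_467 : allRange 40162 86 (fun u => chkFix tab mwords u) = true := by decide +kernel

theorem m2_468 : allRange 40248 86 (fun u => chkFix tab mwords u) = true := by decide +kernel

theorem m2_469 : allRange 40334 86 (fun u => chkFix tab mwords u) = true := by decide +kernel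

theorem m2_470 : allRange 40420 86 (fun u => chkFix tab mwords u) = true := by decide +kernel

theorem m2_471 : allRange 40506 86 (fun u => chkFix tab mwords u) = true := by decide +kernel

theorem m2_472 : allRange 40592 86 (fun u => chkFix tab mwords u) = true := by decide +kernel

theorem m2_473 : allRange 40678 86 (fun u => chkFix tab mwords u) = true := by decide +kernel

theorem m2_474 : allRange 40764 86 (fun u => chkFix tab mwords u) = true := by decide +kernel


end Cfsg.Agent.Helper9.TCData.X1692
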