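import Cfsg.Agent.Lib.Helper9.TCData.X1692.Main

set_option autoImplicit false
set_option maxRecDepth 1000000

namespace Cfsg.Agent.Helper9.TCData.X1692
open Cfsg.Agent.Helper9.TC2

theorem m2_485 : allRange 41710 86 (fun u => chkFix tab mwords u) = true := by decide +kernel

theorem m2_486 : allRange 41796 86 (fun u => chkFix tab mwords u) = true := by decide +kernel

theorem m2_487 : allRange 41882 86 (fun u => chkFix tab mwords u) = true := by decide +kernel

theorem m2_488 : allRange 41968 86 (fun u => chkFix tab mwords u) = true := by decide +kernel

theorem m2_489 : allRange 42054 86 (fun u => chkFix tab mwords u) = true := by decide +kernel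

theorem m2_490 : allRange 42140 86 (fun u => chkFix tab mwords u) = true := by decide +kernel

theorem m2_491 : allRange 42226 86 (fun u => chkFix tab mwords u) = true := by decide +kernel

theorem m2_492 : allRange 42312 86 (fun u => chkFix tab mwords u) = true := by decide +kernel

theorem m2_493 : allRange 42398 86 (fun u => chkFix tab mwords u) = true := by decide +kernel

theorem m2_494 : allRange 42484 86 (fun u => chkFix tab mwords u) = true := by decide +kernel


end Cfsg.Agent.Helper9.TCData.X1692
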