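import Cfsg.Agent.Lib.Helper9.TCData.X1692.Main

set_option autoImplicit false
set_option maxRecDepth 1000000

namespace Cfsg.Agent.Helper9.TCData.X1692
open Cfsg.Agent.Helper9.TC2

theorem m2_495 : allRange 42570 86 (fun u => chkFix tab mwords u) = true := by decide +kernel

theorem m2_496 : allRange 42656 86 (fun u => chkFix tab mwords u) = true := by decide +kernel

theorem m2_497 : allRange 42742 86 (fun u => chkFix tab mwords u) = true := by decide +kernel

theorem m2_498 : allRange 42828 86 (fun u => chkFix tab mwords u) = true := by decide +kernel

theorem m2_499 : allRange 42914 86 (fun u => chkFix tab mwords u) = true := by decide +kernel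

theorem m2_500 : allRange 43000 86 (fun u => chkFix tab mwords u) = true := by decide +kernel

theorem m2_501 : allRange 43086 86 (fun u => chkFix tab mwords u) = true := by decide +kernel

theorem m2_502 : allRange 43172 86 (fun u => chkFix tab mwords u) = true := by decide +kernel

theorem m2_503 : allRange 43258 86 (fun u => chkFix tab mwords u) = true := by decide +kernel

theorem m2_504 : allRange 43344 86 (fun u => chkFix tab mwords u) = true := by decide +kernel


end Cfsg.Agent.Helper9.TCData.X1692
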