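import Cfsg.Agent.Lib.Helper9.TCData.X1692.Main

set_option autoImplicit false
set_option maxRecDepth 1000000

namespace Cfsg.Agent.Helper9.TCData.X1692
open Cfsg.Agent.Helper9.TC2

theorem m2_505 : allRange 43430 86 (fun u => chkFix tab mwords u) = true := by decide +kernel

theorem m2_506 : allRange 43516 86 (fun u => chkFix tab mwords u) = true := by decide +kernel

theorem m2_507 : allRange 43602 86 (fun u => chkFix tab mwords u) = true := by decide +kernel

theorem m2_508 : allRange 43688 86 (fun u => chkFix tab mwords u) = true := by decide +kernel

theorem m2_509 : allRange 43774 86 (fun u => chkFix tab mwords u) = true := by decide +kernel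

theorem m2_510 : allRange 43860 86 (fun u => chkFix tab mwords u) = true := by decide +kernel

theorem m2_511 : allRange 43946 86 (fun u => chkFix tab mwords u) = true := by decide +kernel

theorem m2_512 : allRange 44032 86 (fun u => chkFix tab mwords u) = true := by decide +kernel

theorem m2_513 : allRange 44118 86 (fun u => chkFix tab mwords u) = true := by decide +kernel

theorem m2_514 : allRange 44204 86 (fun u => chkFix tab mwords u) = true := by decide +kernel


end Cfsg.Agent.Helper9.TCData.X1692
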