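import Cfsg.Agent.Lib.Helper9.TCData.X1692.Main

set_option autoImplicit false
set_option maxRecDepth 1000000

namespace Cfsg.Agent.Helper9.TCData.X1692
open Cfsg.Agent.Helper9.TC2

theorem m2_525 : allRange 45150 86 (fun u => chkFix tab mwords u) = true := by decide +kernel

theorem m2_526 : allRange 45236 86 (fun u => chkFix tab mwords u) = true := by decide +kernel

theorem m2_527 : allRange 45322 86 (fun u => chkFix tab mwords u) = true := by decide +kernel

theorem m2_528 : allRange 45408 86 (fun u => chkFix tab mwords u) = true := by decide +kernel

theorem m2_529 : allRange 45494 86 (fun u => chkFix tab mwords u) = true := by decide +kernel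

theorem m2_530 : allRange 45580 86 (fun u => chkFix tab mwords u) = true := by decide +kernel

theorem m2_531 : allRange 45666 86 (fun u => chkFix tab mwords u) = true := by decide +kernel

theorem m2_532 : allRange 45752 86 (fun u => chkFix tab mwords u) = true := by decide +kernel

theorem m2_533 : allRange 45838 86 (fun u => chkFix tab mwords u) = true := by decide +kernel

theorem m2_534 : allRange 45924 86 (fun u => chkFix tab mwords u) = true := by decide +kernel


end Cfsg.Agent.Helper9.TCData.X1692
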