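import Cfsg.Agent.Lib.Helper9.TCData.X1692.Main

set_option autoImplicit false
set_option maxRecDepth 1000000

namespace Cfsg.Agent.Helper9.TCData.X1692
open Cfsg.Agent.Helper9.TC2

theorem m2_545 : allRange 46870 86 (fun u => chkFix tab mwords u) = true := by decide +kernel

theorem m2_546 : allRange 46956 86 (fun u => chkFix tab mwords u) = true := by decide +kernel

theorem m2_547 : allRange 47042 86 (fun u => chkFix tab mwords u) = true := by decide +kernel

theorem m2_548 : allRange 47128 86 (fun u => chkFix tab mwords u) = true := by decide +kernel

theorem m2_549 : allRange 47214 86 (fun u => chkFix tab mwords u) = true := by decide +kernel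

theorem m2_550 : allRange 47300 86 (fun u => chkFix tab mwords u) = true := by decide +kernel

theorem m2_551 : allRange 47386 86 (fun u => chkFix tab mwords u) = true := by decide +kernel

theorem m2_552 : allRange 47472 86 (fun u => chkFix tab mwords u) = true := by decide +kernel

theorem m2_553 : allRange 47558 86 (fun u => chkFix tab mwords u) = true := by decide +kernel

theorem m2_554 : allRange 47644 86 (fun u => chkFix tab mwords u) = true := by decide +kernel


end Cfsg.Agent.Helper9.TCData.X1692
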