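import Cfsg.Agent.Lib.Helper9.TCData.X1692.Main

set_option autoImplicit false
set_option maxRecDepth 1000000

namespace Cfsg.Agent.Helper9.TCData.X1692
open Cfsg.Agent.Helper9.TC2

theorem m2_555 : allRange 47730 86 (fun u => chkFix tab mwords u) = true := by decide +kernel

theorem m2_556 : allRange 47816 86 (fun u => chkFix tab mwords u) = true := by decide +kernel

theorem m2_557 : allRange 47902 86 (fun u => chkFix tab mwords u) = true := by decide +kernel

theorem m2_558 : allRange 47988 86 (fun u => chkFix tab mwords u) = true := by decide +kernel

theorem m2_559 : allRange 48074 86 (fun u => chkFix tab mwords u) = true := by decide +kernel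

theorem m2_560 : allRange 48160 86 (fun u => chkFix tab mwords u) = true := by decide +kernel

theorem m2_561 : allRange 48246 86 (fun u => chkFix tab mwords u) = true := by decide +kernel

theorem m2_562 : allRange 48332 86 (fun u => chkFix tab mwords u) = true := by decide +kernel

theorem m2_563 : allRange 48418 86 (fun u => chkFix tab mwords u) = true := by decide +kernel

theorem m2_564 : allRange 48504 86 (fun u => chkFix tab mwords u) = true := by decide +kernel


end Cfsg.Agent.Helper9.TCData.X1692
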