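import Cfsg.Agent.Lib.Helper9.TCData.X1692.Main

set_option autoImplicit false
set_option maxRecDepth 1000000

namespace Cfsg.Agent.Helper9.TCData.X1692
open Cfsg.Agent.Helper9.TC2

theorem m2_565 : allRange 48590 86 (fun u => chkFix tab mwords u) = true := by decide +kernel

theorem m2_566 : allRange 48676 86 (fun u => chkFix tab mwords u) = true := by decide +kernel

theorem m2_567 : allRange 48762 86 (fun u => chkFix tab mwords u) = true := by decide +kernel

theorem m2_568 : allRange 48848 86 (fun u => chkFix tab mwords u) = true := by decide +kernel

theorem m2_569 : allRange 48934 86 (fun u => chkFix tab mwords u) = true := by decide +kernel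

theorem m2_570 : allRange 49020 86 (fun u => chkFix tab mwords u) = true := by decide +kernel

theorem m2_571 : allRange 49106 86 (fun u => chkFix tab mwords u) = true := by decide +kernel

theorem m2_572 : allRange 49192 86 (fun u => chkFix tab mwords u) = true := by decide +kernel

theorem m2_573 : allRange 49278 86 (fun u => chkFix tab mwords u) = true := by decide +kernel

theorem m2_574 : allRange 49364 86 (fun u => chkFix tab mwords u) = true := by decide +kernel


end Cfsg.Agent.Helper9.TCData.X1692
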