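import Cfsg.Agent.Lib.Helper9.TCData.X1692.Main

set_option autoImplicit false
set_option maxRecDepth 1000000

namespace Cfsg.Agent.Helper9.TCData.X1692
open Cfsg.Agent.Helper9.TC2

theorem m2_585 : allRange 50310 86 (fun u => chkFix tab mwords u) = true := by decide +kernel

theorem m2_586 : allRange 50396 86 (fun u => chkFix tab mwords u) = true := by decide +kernel

theorem m2_587 : allRange 50482 86 (fun u => chkFix tab mwords u) = true := by decide +kernel

theorem m2_588 : allRange 50568 86 (fun u => chkFix tab mwords u) = true := by decide +kernel

theorem m2_589 : allRange 50654 86 (fun u => chkFix tab mwords u) = true := by decide +kernel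

theorem m2_590 : allRange 50740 86 (fun u => chkFix tab mwords u) = true := by decide +kernel

theorem m2_591 : allRange 50826 86 (fun u => chkFix tab mwords u) = true := by decide +kernel

theorem m2_592 : allRange 50912 86 (fun u => chkFix tab mwords u) = true := by decide +kernel

theorem m2_593 : allRange 50998 86 (fun u => chkFix tab mwords u) = true := by decide +kernel

theorem m2_594 : allRange 51084 86 (fun u => chkFix tab mwords u) = true := by decide +kernel


end Cfsg.Agent.Helper9.TCData.X1692
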