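import Cfsg.Agent.Lib.Helper9.TCData.X1692.Main

set_option autoImplicit false
set_option maxRecDepth 1000000

namespace Cfsg.Agent.Helper9.TCData.X1692
open Cfsg.Agent.Helper9.TC2

theorem m2_605 : allRange 52030 86 (fun u => chkFix tab mwords u) = true := by decide +kernel

theorem m2_606 : allRange 52116 86 (fun u => chkFix tab mwords u) = true := by decide +kernel

theorem m2_607 : allRange 52202 86 (fun u => chkFix tab mwords u) = true := by decide +kernel

theorem m2_608 : allRange 52288 86 (fun u => chkFix tab mwords u) = true := by decide +kernel

theorem m2_609 : allRange 52374 86 (fun u => chkFix tab mwords u) = true := by decide +kernel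

theorem m2_610 : allRange 52460 86 (fun u => chkFix tab mwords u) = true := by decide +kernel

theorem m2_611 : allRange 52546 86 (fun u => chkFix tab mwords u) = true := by decide +kernel

theorem m2_612 : allRange 52632 86 (fun u => chkFix tab mwords u) = true := by decide +kernel

theorem m2_613 : allRange 52718 86 (fun u => chkFix tab mwords u) = true := by decide +kernel

theorem m2_614 : allRange 52804 86 (fun u => chkFix tab mwords u) = true := by decide +kernel


end Cfsg.Agent.Helper9.TCData.X1692
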