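import Cfsg.Agent.Lib.Helper9.TCData.X1692.Main

set_option autoImplicit false
set_option maxRecDepth 1000000

namespace Cfsg.Agent.Helper9.TCData.X1692
open Cfsg.Agent.Helper9.TC2

theorem m2_625 : allRange 53750 86 (fun u => chkFix tab mwords u) = true := by decide +kernel

theorem m2_626 : allRange 53836 86 (fun u => chkFix tab mwords u) = true := by decide +kernel

theorem m2_627 : allRange 53922 86 (fun u => chkFix tab mwords u) = true := by decide +kernel

theorem m2_628 : allRange 54008 86 (fun u => chkFix tab mwords u) = true := by decide +kernel

theorem m2_629 : allRange 54094 86 (fun u => chkFix tab mwords u) = true := by decide +kernel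

theorem m2_630 : allRange 54180 86 (fun u => chkFix tab mwords u) = true := by decide +kernel

theorem m2_631 : allRange 54266 86 (fun u => chkFix tab mwords u) = true := by decide +kernel

theorem m2_632 : allRange 54352 86 (fun u => chkFix tab mwords u) = true := by decide +kernel

theorem m2_633 : allRange 54438 86 (fun u => chkFix tab mwords u) = true := by decide +kernel

theorem m2_634 : allRange 54524 86 (fun u => chkFix tab mwords u) = true := by decide +kernel


end Cfsg.Agent.Helper9.TCData.X1692
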