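import Cfsg.Agent.Lib.Helper9.TCData.X1692.Main

set_option autoImplicit false
set_option maxRecDepth 1000000

namespace Cfsg.Agent.Helper9.TCData.X1692
open Cfsg.Agent.Helper9.TC2

theorem m2_665 : allRange 57190 86 (fun u => chkFix tab mwords u) = true := by decide +kernel

theorem m2_666 : allRange 57276 86 (fun u => chkFix tab mwords u) = true := by decide +kernel

theorem m2_667 : allRange 57362 86 (fun u => chkFix tab mwords u) = true := by decide +kernel

theorem m2_668 : allRange 57448 86 (fun u => chkFix tab mwords u) = true := by decide +kernel

theorem m2_669 : allRange 57534 86 (fun u => chkFix tab mwords u) = true := by decide +kernel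

theorem m2_670 : allRange 57620 86 (fun u => chkFix tab mwords u) = true := by decide +kernel

theorem m2_671 : allRange 57706 86 (fun u => chkFix tab mwords u) = true := by decide +kernel

theorem m2_672 : allRange 57792 86 (fun u => chkFix tab mwords u) = true := by decide +kernel

theorem m2_673 : allRange 57878 86 (fun u => chkFix tab mwords u) = true := by decide +kernel

theorem m2_674 : allRange 57964 86 (fun u => chkFix tab mwords u) = true := by decide +kernel


end Cfsg.Agent.Helper9.TCData.X1692
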