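import Cfsg.Agent.Lib.Helper9.TCData.X1692.Main

set_option autoImplicit false
set_option maxRecDepth 1000000

namespace Cfsg.Agent.Helper9.TCData.X1692
open Cfsg.Agent.Helper9.TC2

theorem m2_675 : allRange 58050 86 (fun u => chkFix tab mwords u) = true := by decide +kernel

theorem m2_676 : allRange 58136 86 (fun u => chkFix tab mwords u) = true := by decide +kernel

theorem m2_677 : allRange 58222 86 (fun u => chkFix tab mwords u) = true := by decide +kernel

theorem m2_678 : allRange 58308 86 (fun u => chkFix tab mwords u) = true := by decide +kernel

theorem m2_679 : allRange 58394 86 (fun u => chkFix tab mwords u) = true := by decide +kernel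

theorem m2_680 : allRange 58480 86 (fun u => chkFix tab mwords u) = true := by decide +kernel

theorem m2_681 : allRange 58566 86 (fun u => chkFix tab mwords u) = true := by decide +kernel

theorem m2_682 : allRange 58652 86 (fun u => chkFix tab mwords u) = true := by decide +kernel

theorem m2_683 : allRange 58738 86 (fun u => chkFix tab mwords u) = true := by decide +kernel

theorem m2_684 : allRange 58824 86 (fun u => chkFix tab mwords u) = true := by decide +kernel


end Cfsg.Agent.Helper9.TCData.X1692
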