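import Cfsg.Agent.Lib.Helper9.TCData.X1692.Main

set_option autoImplicit false
set_option maxRecDepth 1000000

namespace Cfsg.Agent.Helper9.TCData.X1692
open Cfsg.Agent.Helper9.TC2

theorem m2_695 : allRange 59770 86 (fun u => chkFix tab mwords u) = true := by decide +kernel

theorem m2_696 : allRange 59856 86 (fun u => chkFix tab mwords u) = true := by decide +kernel

theorem m2_697 : allRange 59942 86 (fun u => chkFix tab mwords u) = true := by decide +kernel

theorem m2_698 : allRange 60028 86 (fun u => chkFix tab mwords u) = true := by decide +kernel

theorem m2_699 : allRange 60114 86 (fun u => chkFix tab mwords u) = true := by decide +kernel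

theorem m2_700 : allRange 60200 86 (fun u => chkFix tab mwords u) = true := by decide +kernel

theorem m2_701 : allRange 60286 86 (fun u => chkFix tab mwords u) = true := by decide +kernel

theorem m2_702 : allRange 60372 86 (fun u => chkFix tab mwords u) = true := by decide +kernel

theorem m2_703 : allRange 60458 86 (fun u => chkFix tab mwords u) = true := by decide +kernel

theorem m2_704 : allRange 60544 86 (fun u => chkFix tab mwords u) = true := by decide +kernel


end Cfsg.Agent.Helper9.TCData.X1692
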