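import Cfsg.Agent.Lib.Helper9.TCData.X1692.Main

set_option autoImplicit false
set_option maxRecDepth 1000000

namespace Cfsg.Agent.Helper9.TCData.X1692
open Cfsg.Agent.Helper9.TC2

theorem m2_705 : allRange 60630 86 (fun u => chkFix tab mwords u) = true := by decide +kernel

theorem m2_706 : allRange 60716 86 (fun u => chkFix tab mwords u) = true := by decide +kernel

theorem m2_707 : allRange 60802 86 (fun u => chkFix tab mwords u) = true := by decide +kernel

theorem m2_708 : allRange 60888 86 (fun u => chkFix tab mwords u) = true := by decide +kernel

theorem m2_709 : allRange 60974 86 (fun u => chkFix tab mwords u) = true := by decide +kernel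

theorem m2_710 : allRange 61060 86 (fun u => chkFix tab mwords u) = true := by decide +kernel

theorem m2_711 : allRange 61146 86 (fun u => chkFix tab mwords u) = true := by decide +kernel

theorem m2_712 : allRange 61232 86 (fun u => chkFix tab mwords u) = true := by decide +kernel

theorem m2_713 : allRange 61318 86 (fun u => chkFix tab mwords u) = true := by decide +kernel

theorem m2_714 : allRange 61404 86 (fun u => chkFix tab mwords u) = true := by decide +kernel


end Cfsg.Agent.Helper9.TCData.X1692
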