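import Cfsg.Agent.Lib.Helper9.TCData.X1692.Main

set_option autoImplicit false
set_option maxRecDepth 1000000

namespace Cfsg.Agent.Helper9.TCData.X1692
open Cfsg.Agent.Helper9.TC2

theorem e0_20 : allRange 64688 3867 (fun u => chkE tab 0 u) = true := by decide +kernel

theorem e0_21 : allRange 68555 3187 (fun u => chkE tab 0 u) = true := by decide +kernel

theorem e0_22 : allRange 71742 3567 (fun u => chkE tab 0 u) = true := by decide +kernel

theorem e0_23 : allRange 75309 3168 (fun u => chkE tab 0 u) = true := by decide +kernel

theorem e0_24 : allRange 78477 3124 (fun u => chkE tab 0 u) = true := by decide +kernel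

theorem e0_25 : allRange 81601 2651 (fun u => chkE tab 0 u) = true := by decide +kernel

theorem e0_26 : allRange 84252 3465 (fun u => chkE tab 0 u) = true := by decide +kernel

theorem e0_27 : allRange 87717 3008 (fun u => chkE tab 0 u) = true := by decide +kernel

theorem e0_28 : allRange 90725 3487 (fun u => chkE tab 0 u) = true := by decide +kernel

theorem e0_29 : allRange 94212 3343 (fun u => chkE tab 0 u) = true := by decide +kernel


end Cfsg.Agent.Helper9.TCData.X1692
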