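import Cfsg.Agent.Lib.Helper9.TCData.X1692.Main

set_option autoImplicit false
set_option maxRecDepth 1000000

namespace Cfsg.Agent.Helper9.TCData.X1692
open Cfsg.Agent.Helper9.TC2

theorem e2_41 : allRange 123188 4209 (fun u => chkE tab 2 u) = true := by decide +kernel

theorem e2_42 : allRange 127397 3733 (fun u => chkE tab 2 u) = true := by decide +kernel

theorem e2_43 : allRange 131130 2966 (fun u => chkE tab 2 u) = true := by decide +kernel

theorem e2_44 : allRange 134096 3694 (fun u => chkE tab 2 u) = true := by decide +kernel

theorem e2_45 : allRange 137790 3622 (fun u => chkE tab 2 u) = true := by decide +kernel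

theorem e2_46 : allRange 141412 4230 (fun u => chkE tab 2 u) = true := by decide +kernel

theorem e2_47 : allRange 145642 4779 (fun u => chkE tab 2 u) = true := by decide +kernel

theorem e2_48 : allRange 150421 4482 (fun u => chkE tab 2 u) = true := by decide +kernel

theorem e2_49 : allRange 154903 4692 (fun u => chkE tab 2 u) = true := by decide +kernel

theorem e2_50 : allRange 159595 4875 (fun u => chkE tab 2 u) = true := by decide +kernel


end Cfsg.Agent.Helper9.TCData.X1692
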