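import Cfsg.Agent.Lib.Helper9.TCData.X1692.Main

set_option autoImplicit false
set_option maxRecDepth 1000000

namespace Cfsg.Agent.Helper9.TCData.X1692
open Cfsg.Agent.Helper9.TC2

theorem m2_715 : allRange 61490 86 (fun u => chkFix tab mwords u) = true := by decide +kernel

theorem m2_716 : allRange 61576 86 (fun u => chkFix tab mwords u) = true := by decide +kernel

theorem m2_717 : allRange 61662 86 (fun u => chkFix tab mwords u) = true := by decide +kernel

theorem m2_718 : allRange 61748 86 (fun u => chkFix tab mwords u) = true := by decide +kernel

theorem m2_719 : allRange 61834 86 (fun u => chkFix tab mwords u) = true := by decide +kernel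

theorem m2_720 : allRange 61920 86 (fun u => chkFix tab mwords u) = true := by decide +kernel

theorem m2_721 : allRange 62006 86 (fun u => chkFix tab mwords u) = true := by decide +kernel

theorem m2_722 : allRange 62092 86 (fun u => chkFix tab mwords u) = true := by decide +kernel

theorem m2_723 : allRange 62178 86 (fun u => chkFix tab mwords u) = true := by decide +kernel

theorem m2_724 : allRange 62264 86 (fun u => chkFix tab mwords u) = true := by decide +kernel


end Cfsg.Agent.Helper9.TCData.X1692
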