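import Cfsg.Agent.Lib.Helper9.TCData.X1692.Main

set_option autoImplicit false
set_option maxRecDepth 1000000

namespace Cfsg.Agent.Helper9.TCData.X1692
open Cfsg.Agent.Helper9.TC2

theorem m2_745 : allRange 64070 86 (fun u => chkFix tab mwords u) = true := by decide +kernel

theorem m2_746 : allRange 64156 86 (fun u => chkFix tab mwords u) = true := by decide +kernel

theorem m2_747 : allRange 64242 86 (fun u => chkFix tab mwords u) = true := by decide +kernel

theorem m2_748 : allRange 64328 86 (fun u => chkFix tab mwords u) = true := by decide +kernel

theorem m2_749 : allRange 64414 86 (fun u => chkFix tab mwords u) = true := by decide +kernel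

theorem m2_750 : allRange 64500 86 (fun u => chkFix tab mwords u) = true := by decide +kernel

theorem m2_751 : allRange 64586 86 (fun u => chkFix tab mwords u) = true := by decide +kernel

theorem m2_752 : allRange 64672 86 (fun u => chkFix tab mwords u) = true := by decide +kernel

theorem m2_753 : allRange 64758 86 (fun u => chkFix tab mwords u) = true := by decide +kernel

theorem m2_754 : allRange 64844 86 (fun u => chkFix tab mwords u) = true := by decide +kernel


end Cfsg.Agent.Helper9.TCData.X1692
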