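import Cfsg.Agent.Lib.Helper9.TCData.X1692.Main

set_option autoImplicit false
set_option maxRecDepth 1000000

namespace Cfsg.Agent.Helper9.TCData.X1692
open Cfsg.Agent.Helper9.TC2

theorem m2_765 : allRange 65790 86 (fun u => chkFix tab mwords u) = true := by decide +kernel

theorem m2_766 : allRange 65876 86 (fun u => chkFix tab mwords u) = true := by decide +kernel

theorem m2_767 : allRange 65962 86 (fun u => chkFix tab mwords u) = true := by decide +kernel

theorem m2_768 : allRange 66048 86 (fun u => chkFix tab mwords u) = true := by decide +kernel

theorem m2_769 : allRange 66134 86 (fun u => chkFix tab mwords u) = true := by decide +kernel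

theorem m2_770 : allRange 66220 86 (fun u => chkFix tab mwords u) = true := by decide +kernel

theorem m2_771 : allRange 66306 86 (fun u => chkFix tab mwords u) = true := by decide +kernel

theorem m2_772 : allRange 66392 86 (fun u => chkFix tab mwords u) = true := by decide +kernel

theorem m2_773 : allRange 66478 86 (fun u => chkFix tab mwords u) = true := by decide +kernel

theorem m2_774 : allRange 66564 86 (fun u => chkFix tab mwords u) = true := by decide +kernel


end Cfsg.Agent.Helper9.TCData.X1692
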