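import Cfsg.Agent.Lib.Helper9.TCData.X1692.Main

set_option autoImplicit false
set_option maxRecDepth 1000000

namespace Cfsg.Agent.Helper9.TCData.X1692
open Cfsg.Agent.Helper9.TC2

theorem e2_51 : allRange 164470 6030 (fun u => chkE tab 2 u) = true := by decide +kernel

theorem e2_52 : allRange 170500 7361 (fun u => chkE tab 2 u) = true := by decide +kernel

theorem e2_53 : allRange 177861 6210 (fun u => chkE tab 2 u) = true := by decide +kernel

theorem e2_54 : allRange 184071 5716 (fun u => chkE tab 2 u) = true := by decide +kernel

theorem e2_55 : allRange 189787 4259 (fun u => chkE tab 2 u) = true := by decide +kernel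

theorem e2_56 : allRange 194046 2674 (fun u => chkE tab 2 u) = true := by decide +kernel

theorem e2_57 : allRange 196720 2556 (fun u => chkE tab 2 u) = true := by decide +kernel

theorem e2_58 : allRange 199276 2786 (fun u => chkE tab 2 u) = true := by decide +kernel

theorem e2_59 : allRange 202062 2707 (fun u => chkE tab 2 u) = true := by decide +kernel

theorem e2_60 : allRange 204769 2776 (fun u => chkE tab 2 u) = true := by decide +kernel


end Cfsg.Agent.Helper9.TCData.X1692
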