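import Cfsg.Agent.Lib.Helper9.TCData.X1692.Main

set_option autoImplicit false
set_option maxRecDepth 1000000

namespace Cfsg.Agent.Helper9.TCData.X1692
open Cfsg.Agent.Helper9.TC2

theorem m2_815 : allRange 70090 86 (fun u => chkFix tab mwords u) = true := by decide +kernel

theorem m2_816 : allRange 70176 86 (fun u => chkFix tab mwords u) = true := by decide +kernel

theorem m2_817 : allRange 70262 86 (fun u => chkFix tab mwords u) = true := by decide +kernel

theorem m2_818 : allRange 70348 86 (fun u => chkFix tab mwords u) = true := by decide +kernel

theorem m2_819 : allRange 70434 86 (fun u => chkFix tab mwords u) = true := by decide +kernel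

theorem m2_820 : allRange 70520 86 (fun u => chkFix tab mwords u) = true := by decide +kernel

theorem m2_821 : allRange 70606 86 (fun u => chkFix tab mwords u) = true := by decide +kernel

theorem m2_822 : allRange 70692 86 (fun u => chkFix tab mwords u) = true := by decide +kernel

theorem m2_823 : allRange 70778 86 (fun u => chkFix tab mwords u) = true := by decide +kernel

theorem m2_824 : allRange 70864 86 (fun u => chkFix tab mwords u) = true := by decide +kernel


end Cfsg.Agent.Helper9.TCData.X1692
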