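import Cfsg.Agent.Lib.Helper9.TCData.X1692.Main

set_option autoImplicit false
set_option maxRecDepth 1000000

namespace Cfsg.Agent.Helper9.TCData.X1692
open Cfsg.Agent.Helper9.TC2

theorem m2_825 : allRange 70950 86 (fun u => chkFix tab mwords u) = true := by decide +kernel

theorem m2_826 : allRange 71036 86 (fun u => chkFix tab mwords u) = true := by decide +kernel

theorem m2_827 : allRange 71122 86 (fun u => chkFix tab mwords u) = true := by decide +kernel

theorem m2_828 : allRange 71208 86 (fun u => chkFix tab mwords u) = true := by decide +kernel

theorem m2_829 : allRange 71294 86 (fun u => chkFix tab mwords u) = true := by decide +kernel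

theorem m2_830 : allRange 71380 86 (fun u => chkFix tab mwords u) = true := by decide +kernel

theorem m2_831 : allRange 71466 86 (fun u => chkFix tab mwords u) = true := by decide +kernel

theorem m2_832 : allRange 71552 86 (fun u => chkFix tab mwords u) = true := by decide +kernel

theorem m2_833 : allRange 71638 86 (fun u => chkFix tab mwords u) = true := by decide +kernel

theorem m2_834 : allRange 71724 86 (fun u => chkFix tab mwords u) = true := by decide +kernel


end Cfsg.Agent.Helper9.TCData.X1692
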