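import Cfsg.Agent.Lib.Helper9.TCData.X1692.Main

set_option autoImplicit false
set_option maxRecDepth 1000000

namespace Cfsg.Agent.Helper9.TCData.X1692
open Cfsg.Agent.Helper9.TC2

theorem m2_835 : allRange 71810 86 (fun u => chkFix tab mwords u) = true := by decide +kernel

theorem m2_836 : allRange 71896 86 (fun u => chkFix tab mwords u) = true := by decide +kernel

theorem m2_837 : allRange 71982 86 (fun u => chkFix tab mwords u) = true := by decide +kernel

theorem m2_838 : allRange 72068 86 (fun u => chkFix tab mwords u) = true := by decide +kernel

theorem m2_839 : allRange 72154 86 (fun u => chkFix tab mwords u) = true := by decide +kernel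

theorem m2_840 : allRange 72240 86 (fun u => chkFix tab mwords u) = true := by decide +kernel

theorem m2_841 : allRange 72326 86 (fun u => chkFix tab mwords u) = true := by decide +kernel

theorem m2_842 : allRange 72412 86 (fun u => chkFix tab mwords u) = true := by decide +kernel

theorem m2_843 : allRange 72498 86 (fun u => chkFix tab mwords u) = true := by decide +kernel

theorem m2_844 : allRange 72584 86 (fun u => chkFix tab mwords u) = true := by decide +kernel


end Cfsg.Agent.Helper9.TCData.X1692
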