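import Cfsg.Agent.Lib.Helper9.TCData.X1692.Main

set_option autoImplicit false
set_option maxRecDepth 1000000

namespace Cfsg.Agent.Helper9.TCData.X1692
open Cfsg.Agent.Helper9.TC2

theorem m2_845 : allRange 72670 86 (fun u => chkFix tab mwords u) = true := by decide +kernel

theorem m2_846 : allRange 72756 86 (fun u => chkFix tab mwords u) = true := by decide +kernel

theorem m2_847 : allRange 72842 86 (fun u => chkFix tab mwords u) = true := by decide +kernel

theorem m2_848 : allRange 72928 86 (fun u => chkFix tab mwords u) = true := by decide +kernel

theorem m2_849 : allRange 73014 86 (fun u => chkFix tab mwords u) = true := by decide +kernel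

theorem m2_850 : allRange 73100 86 (fun u => chkFix tab mwords u) = true := by decide +kernel

theorem m2_851 : allRange 73186 86 (fun u => chkFix tab mwords u) = true := by decide +kernel

theorem m2_852 : allRange 73272 86 (fun u => chkFix tab mwords u) = true := by decide +kernel

theorem m2_853 : allRange 73358 86 (fun u => chkFix tab mwords u) = true := by decide +kernel

theorem m2_854 : allRange 73444 86 (fun u => chkFix tab mwords u) = true := by decide +kernel


end Cfsg.Agent.Helper9.TCData.X1692
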