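import Cfsg.Agent.Lib.Helper9.TCData.X1692.Main

set_option autoImplicit false
set_option maxRecDepth 1000000

namespace Cfsg.Agent.Helper9.TCData.X1692
open Cfsg.Agent.Helper9.TC2

theorem m2_855 : allRange 73530 86 (fun u => chkFix tab mwords u) = true := by decide +kernel

theorem m2_856 : allRange 73616 86 (fun u => chkFix tab mwords u) = true := by decide +kernel

theorem m2_857 : allRange 73702 86 (fun u => chkFix tab mwords u) = true := by decide +kernel

theorem m2_858 : allRange 73788 86 (fun u => chkFix tab mwords u) = true := by decide +kernel

theorem m2_859 : allRange 73874 86 (fun u => chkFix tab mwords u) = true := by decide +kernel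

theorem m2_860 : allRange 73960 86 (fun u => chkFix tab mwords u) = true := by decide +kernel

theorem m2_861 : allRange 74046 86 (fun u => chkFix tab mwords u) = true := by decide +kernel

theorem m2_862 : allRange 74132 86 (fun u => chkFix tab mwords u) = true := by decide +kernel

theorem m2_863 : allRange 74218 86 (fun u => chkFix tab mwords u) = true := by decide +kernel

theorem m2_864 : allRange 74304 86 (fun u => chkFix tab mwords u) = true := by decide +kernel


end Cfsg.Agent.Helper9.TCData.X1692
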