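import Cfsg.Agent.Lib.Helper9.TCData.X1692.Main

set_option autoImplicit false
set_option maxRecDepth 1000000

namespace Cfsg.Agent.Helper9.TCData.X1692
open Cfsg.Agent.Helper9.TC2

theorem m2_865 : allRange 74390 86 (fun u => chkFix tab mwords u) = true := by decide +kernel

theorem m2_866 : allRange 74476 86 (fun u => chkFix tab mwords u) = true := by decide +kernel

theorem m2_867 : allRange 74562 86 (fun u => chkFix tab mwords u) = true := by decide +kernel

theorem m2_868 : allRange 74648 86 (fun u => chkFix tab mwords u) = true := by decide +kernel

theorem m2_869 : allRange 74734 86 (fun u => chkFix tab mwords u) = true := by decide +kernel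

theorem m2_870 : allRange 74820 86 (fun u => chkFix tab mwords u) = true := by decide +kernel

theorem m2_871 : allRange 74906 86 (fun u => chkFix tab mwords u) = true := by decide +kernel

theorem m2_872 : allRange 74992 86 (fun u => chkFix tab mwords u) = true := by decide +kernel

theorem m2_873 : allRange 75078 86 (fun u => chkFix tab mwords u) = true := by decide +kernel

theorem m2_874 : allRange 75164 86 (fun u => chkFix tab mwords u) = true := by decide +kernel


end Cfsg.Agent.Helper9.TCData.X1692
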