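import Cfsg.Agent.Lib.Helper9.TCData.X1692.Main

set_option autoImplicit false
set_option maxRecDepth 1000000

namespace Cfsg.Agent.Helper9.TCData.X1692
open Cfsg.Agent.Helper9.TC2

theorem m2_895 : allRange 76970 86 (fun u => chkFix tab mwords u) = true := by decide +kernel

theorem m2_896 : allRange 77056 86 (fun u => chkFix tab mwords u) = true := by decide +kernel

theorem m2_897 : allRange 77142 86 (fun u => chkFix tab mwords u) = true := by decide +kernel

theorem m2_898 : allRange 77228 86 (fun u => chkFix tab mwords u) = true := by decide +kernel

theorem m2_899 : allRange 77314 86 (fun u => chkFix tab mwords u) = true := by decide +kernel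

theorem m2_900 : allRange 77400 86 (fun u => chkFix tab mwords u) = true := by decide +kernel

theorem m2_901 : allRange 77486 86 (fun u => chkFix tab mwords u) = true := by decide +kernel

theorem m2_902 : allRange 77572 86 (fun u => chkFix tab mwords u) = true := by decide +kernel

theorem m2_903 : allRange 77658 86 (fun u => chkFix tab mwords u) = true := by decide +kernel

theorem m2_904 : allRange 77744 86 (fun u => chkFix tab mwords u) = true := by decide +kernel


end Cfsg.Agent.Helper9.TCData.X1692
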