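import Cfsg.Agent.Lib.Helper9.TCData.X1692.Main

set_option autoImplicit false
set_option maxRecDepth 1000000

namespace Cfsg.Agent.Helper9.TCData.X1692
open Cfsg.Agent.Helper9.TC2

theorem m2_905 : allRange 77830 86 (fun u => chkFix tab mwords u) = true := by decide +kernel

theorem m2_906 : allRange 77916 86 (fun u => chkFix tab mwords u) = true := by decide +kernel

theorem m2_907 : allRange 78002 86 (fun u => chkFix tab mwords u) = true := by decide +kernel

theorem m2_908 : allRange 78088 86 (fun u => chkFix tab mwords u) = true := by decide +kernel

theorem m2_909 : allRange 78174 86 (fun u => chkFix tab mwords u) = true := by decide +kernel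

theorem m2_910 : allRange 78260 86 (fun u => chkFix tab mwords u) = true := by decide +kernel

theorem m2_911 : allRange 78346 86 (fun u => chkFix tab mwords u) = true := by decide +kernel

theorem m2_912 : allRange 78432 86 (fun u => chkFix tab mwords u) = true := by decide +kernel

theorem m2_913 : allRange 78518 86 (fun u => chkFix tab mwords u) = true := by decide +kernel

theorem m2_914 : allRange 78604 86 (fun u => chkFix tab mwords u) = true := by decide +kernel


end Cfsg.Agent.Helper9.TCData.X1692
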