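import Cfsg.Agent.Lib.Helper9.TCData.X1692.Main

set_option autoImplicit false
set_option maxRecDepth 1000000

namespace Cfsg.Agent.Helper9.TCData.X1692
open Cfsg.Agent.Helper9.TC2

theorem e2_61 : allRange 207545 2862 (fun u => chkE tab 2 u) = true := by decide +kernel

theorem e2_62 : allRange 210407 2896 (fun u => chkE tab 2 u) = true := by decide +kernel

theorem e2_63 : allRange 213303 2884 (fun u => chkE tab 2 u) = true := by decide +kernel

theorem e2_64 : allRange 216187 2868 (fun u => chkE tab 2 u) = true := by decide +kernel

theorem e2_65 : allRange 219055 3183 (fun u => chkE tab 2 u) = true := by decide +kernel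

theorem e2_66 : allRange 222238 3335 (fun u => chkE tab 2 u) = true := by decide +kernel

theorem e2_67 : allRange 225573 3560 (fun u => chkE tab 2 u) = true := by decide +kernel

theorem e2_68 : allRange 229133 2461 (fun u => chkE tab 2 u) = true := by decide +kernel

theorem e3_0 : allRange 0 3162 (fun u => chkE tab 3 u) = true := by decide +kernel

theorem e3_1 : allRange 3162 3489 (fun u => chkE tab 3 u) = true := by decide +kernel


end Cfsg.Agent.Helper9.TCData.X1692
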