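import Cfsg.Agent.Lib.Helper9.TCData.X1692.Main

set_option autoImplicit false
set_option maxRecDepth 1000000

namespace Cfsg.Agent.Helper9.TCData.X1692
open Cfsg.Agent.Helper9.TC2

theorem m2_915 : allRange 78690 86 (fun u => chkFix tab mwords u) = true := by decide +kernel

theorem m2_916 : allRange 78776 86 (fun u => chkFix tab mwords u) = true := by decide +kernel

theorem m2_917 : allRange 78862 86 (fun u => chkFix tab mwords u) = true := by decide +kernel

theorem m2_918 : allRange 78948 86 (fun u => chkFix tab mwords u) = true := by decide +kernel

theorem m2_919 : allRange 79034 86 (fun u => chkFix tab mwords u) = true := by decide +kernel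

theorem m2_920 : allRange 79120 86 (fun u => chkFix tab mwords u) = true := by decide +kernel

theorem m2_921 : allRange 79206 86 (fun u => chkFix tab mwords u) = true := by decide +kernel

theorem m2_922 : allRange 79292 86 (fun u => chkFix tab mwords u) = true := by decide +kernel

theorem m2_923 : allRange 79378 86 (fun u => chkFix tab mwords u) = true := by decide +kernel

theorem m2_924 : allRange 79464 86 (fun u => chkFix tab mwords u) = true := by decide +kernel


end Cfsg.Agent.Helper9.TCData.X1692
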