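import Cfsg.Agent.Lib.Helper9.TCData.X1692.Main

set_option autoImplicit false
set_option maxRecDepth 1000000

namespace Cfsg.Agent.Helper9.TCData.X1692
open Cfsg.Agent.Helper9.TC2

theorem m2_965 : allRange 82990 86 (fun u => chkFix tab mwords u) = true := by decide +kernel

theorem m2_966 : allRange 83076 86 (fun u => chkFix tab mwords u) = true := by decide +kernel

theorem m2_967 : allRange 83162 86 (fun u => chkFix tab mwords u) = true := by decide +kernel

theorem m2_968 : allRange 83248 86 (fun u => chkFix tab mwords u) = true := by decide +kernel

theorem m2_969 : allRange 83334 86 (fun u => chkFix tab mwords u) = true := by decide +kernel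

theorem m2_970 : allRange 83420 86 (fun u => chkFix tab mwords u) = true := by decide +kernel

theorem m2_971 : allRange 83506 86 (fun u => chkFix tab mwords u) = true := by decide +kernel

theorem m2_972 : allRange 83592 86 (fun u => chkFix tab mwords u) = true := by decide +kernel

theorem m2_973 : allRange 83678 86 (fun u => chkFix tab mwords u) = true := by decide +kernel

theorem m2_974 : allRange 83764 86 (fun u => chkFix tab mwords u) = true := by decide +kernel


end Cfsg.Agent.Helper9.TCData.X1692
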