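import Cfsg.Agent.Lib.Helper9.TCData.X1692.Main

set_option autoImplicit false
set_option maxRecDepth 1000000

namespace Cfsg.Agent.Helper9.TCData.X1692
open Cfsg.Agent.Helper9.TC2

theorem m2_975 : allRange 83850 86 (fun u => chkFix tab mwords u) = true := by decide +kernel

theorem m2_976 : allRange 83936 86 (fun u => chkFix tab mwords u) = true := by decide +kernel

theorem m2_977 : allRange 84022 86 (fun u => chkFix tab mwords u) = true := by decide +kernel

theorem m2_978 : allRange 84108 86 (fun u => chkFix tab mwords u) = true := by decide +kernel

theorem m2_979 : allRange 84194 86 (fun u => chkFix tab mwords u) = true := by decide +kernel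

theorem m2_980 : allRange 84280 86 (fun u => chkFix tab mwords u) = true := by decide +kernel

theorem m2_981 : allRange 84366 86 (fun u => chkFix tab mwords u) = true := by decide +kernel

theorem m2_982 : allRange 84452 86 (fun u => chkFix tab mwords u) = true := by decide +kernel

theorem m2_983 : allRange 84538 86 (fun u => chkFix tab mwords u) = true := by decide +kernel

theorem m2_984 : allRange 84624 86 (fun u => chkFix tab mwords u) = true := by decide +kernel


end Cfsg.Agent.Helper9.TCData.X1692
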