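import Cfsg.Agent.Lib.Helper9.TCData.X1692.Main

set_option autoImplicit false
set_option maxRecDepth 1000000

namespace Cfsg.Agent.Helper9.TCData.X1692
open Cfsg.Agent.Helper9.TC2

theorem m2_1005 : allRange 86430 86 (fun u => chkFix tab mwords u) = true := by decide +kernel

theorem m2_1006 : allRange 86516 86 (fun u => chkFix tab mwords u) = true := by decide +kernel

theorem m2_1007 : allRange 86602 86 (fun u => chkFix tab mwords u) = true := by decide +kernel

theorem m2_1008 : allRange 86688 86 (fun u => chkFix tab mwords u) = true := by decide +kernel

theorem m2_1009 : allRange 86774 86 (fun u => chkFix tab mwords u) = true := by decide +kernel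

theorem m2_1010 : allRange 86860 86 (fun u => chkFix tab mwords u) = true := by decide +kernel

theorem m2_1011 : allRange 86946 86 (fun u => chkFix tab mwords u) = true := by decide +kernel

theorem m2_1012 : allRange 87032 86 (fun u => chkFix tab mwords u) = true := by decide +kernel

theorem m2_1013 : allRange 87118 86 (fun u => chkFix tab mwords u) = true := by decide +kernel

theorem m2_1014 : allRange 87204 86 (fun u => chkFix tab mwords u) = true := by decide +kernel


end Cfsg.Agent.Helper9.TCData.X1692
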