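import Cfsg.Agent.Lib.Helper9.TCData.X1692.Main

set_option autoImplicit false
set_option maxRecDepth 1000000

namespace Cfsg.Agent.Helper9.TCData.X1692
open Cfsg.Agent.Helper9.TC2

theorem m2_1025 : allRange 88150 86 (fun u => chkFix tab mwords u) = true := by decide +kernel

theorem m2_1026 : allRange 88236 86 (fun u => chkFix tab mwords u) = true := by decide +kernel

theorem m2_1027 : allRange 88322 86 (fun u => chkFix tab mwords u) = true := by decide +kernel

theorem m2_1028 : allRange 88408 86 (fun u => chkFix tab mwords u) = true := by decide +kernel

theorem m2_1029 : allRange 88494 86 (fun u => chkFix tab mwords u) = true := by decide +kernel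

theorem m2_1030 : allRange 88580 86 (fun u => chkFix tab mwords u) = true := by decide +kernel

theorem m2_1031 : allRange 88666 86 (fun u => chkFix tab mwords u) = true := by decide +kernel

theorem m2_1032 : allRange 88752 86 (fun u => chkFix tab mwords u) = true := by decide +kernel

theorem m2_1033 : allRange 88838 86 (fun u => chkFix tab mwords u) = true := by decide +kernel

theorem m2_1034 : allRange 88924 86 (fun u => chkFix tab mwords u) = true := by decide +kernel


end Cfsg.Agent.Helper9.TCData.X1692
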