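import Cfsg.Agent.Lib.Helper9.TCData.X1692.Main

set_option autoImplicit false
set_option maxRecDepth 1000000

namespace Cfsg.Agent.Helper9.TCData.X1692
open Cfsg.Agent.Helper9.TC2

theorem m2_1035 : allRange 89010 86 (fun u => chkFix tab mwords u) = true := by decide +kernel

theorem m2_1036 : allRange 89096 86 (fun u => chkFix tab mwords u) = true := by decide +kernel

theorem m2_1037 : allRange 89182 86 (fun u => chkFix tab mwords u) = true := by decide +kernel

theorem m2_1038 : allRange 89268 86 (fun u => chkFix tab mwords u) = true := by decide +kernel

theorem m2_1039 : allRange 89354 86 (fun u => chkFix tab mwords u) = true := by decide +kernel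

theorem m2_1040 : allRange 89440 86 (fun u => chkFix tab mwords u) = true := by decide +kernel

theorem m2_1041 : allRange 89526 86 (fun u => chkFix tab mwords u) = true := by decide +kernel

theorem m2_1042 : allRange 89612 86 (fun u => chkFix tab mwords u) = true := by decide +kernel

theorem m2_1043 : allRange 89698 86 (fun u => chkFix tab mwords u) = true := by decide +kernel

theorem m2_1044 : allRange 89784 86 (fun u => chkFix tab mwords u) = true := by decide +kernel


end Cfsg.Agent.Helper9.TCData.X1692
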