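import Cfsg.Agent.Lib.Helper9.TCData.X1692.Main

set_option autoImplicit false
set_option maxRecDepth 1000000

namespace Cfsg.Agent.Helper9.TCData.X1692
open Cfsg.Agent.Helper9.TC2

theorem m2_1045 : allRange 89870 86 (fun u => chkFix tab mwords u) = true := by decide +kernel

theorem m2_1046 : allRange 89956 86 (fun u => chkFix tab mwords u) = true := by decide +kernel

theorem m2_1047 : allRange 90042 86 (fun u => chkFix tab mwords u) = true := by decide +kernel

theorem m2_1048 : allRange 90128 86 (fun u => chkFix tab mwords u) = true := by decide +kernel

theorem m2_1049 : allRange 90214 86 (fun u => chkFix tab mwords u) = true := by decide +kernel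

theorem m2_1050 : allRange 90300 86 (fun u => chkFix tab mwords u) = true := by decide +kernel

theorem m2_1051 : allRange 90386 86 (fun u => chkFix tab mwords u) = true := by decide +kernel

theorem m2_1052 : allRange 90472 86 (fun u => chkFix tab mwords u) = true := by decide +kernel

theorem m2_1053 : allRange 90558 86 (fun u => chkFix tab mwords u) = true := by decide +kernel

theorem m2_1054 : allRange 90644 86 (fun u => chkFix tab mwords u) = true := by decide +kernel


end Cfsg.Agent.Helper9.TCData.X1692
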