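import Cfsg.Agent.Lib.Helper9.TCData.X1692.Main

set_option autoImplicit false
set_option maxRecDepth 1000000

namespace Cfsg.Agent.Helper9.TCData.X1692
open Cfsg.Agent.Helper9.TC2

theorem m2_1055 : allRange 90730 86 (fun u => chkFix tab mwords u) = true := by decide +kernel

theorem m2_1056 : allRange 90816 86 (fun u => chkFix tab mwords u) = true := by decide +kernel

theorem m2_1057 : allRange 90902 86 (fun u => chkFix tab mwords u) = true := by decide +kernel

theorem m2_1058 : allRange 90988 86 (fun u => chkFix tab mwords u) = true := by decide +kernel

theorem m2_1059 : allRange 91074 86 (fun u => chkFix tab mwords u) = true := by decide +kernel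

theorem m2_1060 : allRange 91160 86 (fun u => chkFix tab mwords u) = true := by decide +kernel

theorem m2_1061 : allRange 91246 86 (fun u => chkFix tab mwords u) = true := by decide +kernel

theorem m2_1062 : allRange 91332 86 (fun u => chkFix tab mwords u) = true := by decide +kernel

theorem m2_1063 : allRange 91418 86 (fun u => chkFix tab mwords u) = true := by decide +kernel

theorem m2_1064 : allRange 91504 86 (fun u => chkFix tab mwords u) = true := by decide +kernel


end Cfsg.Agent.Helper9.TCData.X1692
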