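import Cfsg.Agent.Lib.Helper9.TCData.X1692.Main

set_option autoImplicit false
set_option maxRecDepth 1000000

namespace Cfsg.Agent.Helper9.TCData.X1692
open Cfsg.Agent.Helper9.TC2

theorem m2_1065 : allRange 91590 86 (fun u => chkFix tab mwords u) = true := by decide +kernel

theorem m2_1066 : allRange 91676 86 (fun u => chkFix tab mwords u) = true := by decide +kernel

theorem m2_1067 : allRange 91762 86 (fun u => chkFix tab mwords u) = true := by decide +kernel

theorem m2_1068 : allRange 91848 86 (fun u => chkFix tab mwords u) = true := by decide +kernel

theorem m2_1069 : allRange 91934 86 (fun u => chkFix tab mwords u) = true := by decide +kernel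

theorem m2_1070 : allRange 92020 86 (fun u => chkFix tab mwords u) = true := by decide +kernel

theorem m2_1071 : allRange 92106 86 (fun u => chkFix tab mwords u) = true := by decide +kernel

theorem m2_1072 : allRange 92192 86 (fun u => chkFix tab mwords u) = true := by decide +kernel

theorem m2_1073 : allRange 92278 86 (fun u => chkFix tab mwords u) = true := by decide +kernel

theorem m2_1074 : allRange 92364 86 (fun u => chkFix tab mwords u) = true := by decide +kernel


end Cfsg.Agent.Helper9.TCData.X1692
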