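import Cfsg.Agent.Lib.Helper9.TCData.X1692.Main

set_option autoImplicit false
set_option maxRecDepth 1000000

namespace Cfsg.Agent.Helper9.TCData.X1692
open Cfsg.Agent.Helper9.TC2

theorem m2_1075 : allRange 92450 86 (fun u => chkFix tab mwords u) = true := by decide +kernel

theorem m2_1076 : allRange 92536 86 (fun u => chkFix tab mwords u) = true := by decide +kernel

theorem m2_1077 : allRange 92622 86 (fun u => chkFix tab mwords u) = true := by decide +kernel

theorem m2_1078 : allRange 92708 86 (fun u => chkFix tab mwords u) = true := by decide +kernel

theorem m2_1079 : allRange 92794 86 (fun u => chkFix tab mwords u) = true := by decide +kernel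

theorem m2_1080 : allRange 92880 86 (fun u => chkFix tab mwords u) = true := by decide +kernel

theorem m2_1081 : allRange 92966 86 (fun u => chkFix tab mwords u) = true := by decide +kernel

theorem m2_1082 : allRange 93052 86 (fun u => chkFix tab mwords u) = true := by decide +kernel

theorem m2_1083 : allRange 93138 86 (fun u => chkFix tab mwords u) = true := by decide +kernel

theorem m2_1084 : allRange 93224 86 (fun u => chkFix tab mwords u) = true := by decide +kernel


end Cfsg.Agent.Helper9.TCData.X1692
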