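import Cfsg.Agent.Lib.Helper9.TCData.X1692.Main

set_option autoImplicit false
set_option maxRecDepth 1000000

namespace Cfsg.Agent.Helper9.TCData.X1692
open Cfsg.Agent.Helper9.TC2

theorem m2_1125 : allRange 96750 86 (fun u => chkFix tab mwords u) = true := by decide +kernel

theorem m2_1126 : allRange 96836 86 (fun u => chkFix tab mwords u) = true := by decide +kernel

theorem m2_1127 : allRange 96922 86 (fun u => chkFix tab mwords u) = true := by decide +kernel

theorem m2_1128 : allRange 97008 86 (fun u => chkFix tab mwords u) = true := by decide +kernel

theorem m2_1129 : allRange 97094 86 (fun u => chkFix tab mwords u) = true := by decide +kernel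

theorem m2_1130 : allRange 97180 86 (fun u => chkFix tab mwords u) = true := by decide +kernel

theorem m2_1131 : allRange 97266 86 (fun u => chkFix tab mwords u) = true := by decide +kernel

theorem m2_1132 : allRange 97352 86 (fun u => chkFix tab mwords u) = true := by decide +kernel

theorem m2_1133 : allRange 97438 86 (fun u => chkFix tab mwords u) = true := by decide +kernel

theorem m2_1134 : allRange 97524 86 (fun u => chkFix tab mwords u) = true := by decide +kernel


end Cfsg.Agent.Helper9.TCData.X1692
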