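import Cfsg.Agent.Lib.Helper9.TCData.X1692.Main

set_option autoImplicit false
set_option maxRecDepth 1000000

namespace Cfsg.Agent.Helper9.TCData.X1692
open Cfsg.Agent.Helper9.TC2

theorem m2_1135 : allRange 97610 86 (fun u => chkFix tab mwords u) = true := by decide +kernel

theorem m2_1136 : allRange 97696 86 (fun u => chkFix tab mwords u) = true := by decide +kernel

theorem m2_1137 : allRange 97782 86 (fun u => chkFix tab mwords u) = true := by decide +kernel

theorem m2_1138 : allRange 97868 86 (fun u => chkFix tab mwords u) = true := by decide +kernel

theorem m2_1139 : allRange 97954 86 (fun u => chkFix tab mwords u) = true := by decide +kernel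

theorem m2_1140 : allRange 98040 86 (fun u => chkFix tab mwords u) = true := by decide +kernel

theorem m2_1141 : allRange 98126 86 (fun u => chkFix tab mwords u) = true := by decide +kernel

theorem m2_1142 : allRange 98212 86 (fun u => chkFix tab mwords u) = true := by decide +kernel

theorem m2_1143 : allRange 98298 86 (fun u => chkFix tab mwords u) = true := by decide +kernel

theorem m2_1144 : allRange 98384 86 (fun u => chkFix tab mwords u) = true := by decide +kernel


end Cfsg.Agent.Helper9.TCData.X1692
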