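import Cfsg.Agent.Lib.Helper9.TCData.X1692.Main

set_option autoImplicit false
set_option maxRecDepth 1000000

namespace Cfsg.Agent.Helper9.TCData.X1692
open Cfsg.Agent.Helper9.TC2

theorem m2_1145 : allRange 98470 86 (fun u => chkFix tab mwords u) = true := by decide +kernel

theorem m2_1146 : allRange 98556 86 (fun u => chkFix tab mwords u) = true := by decide +kernel

theorem m2_1147 : allRange 98642 86 (fun u => chkFix tab mwords u) = true := by decide +kernel

theorem m2_1148 : allRange 98728 86 (fun u => chkFix tab mwords u) = true := by decide +kernel

theorem m2_1149 : allRange 98814 86 (fun u => chkFix tab mwords u) = true := by decide +kernel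

theorem m2_1150 : allRange 98900 86 (fun u => chkFix tab mwords u) = true := by decide +kernel

theorem m2_1151 : allRange 98986 86 (fun u => chkFix tab mwords u) = true := by decide +kernel

theorem m2_1152 : allRange 99072 86 (fun u => chkFix tab mwords u) = true := by decide +kernel

theorem m2_1153 : allRange 99158 86 (fun u => chkFix tab mwords u) = true := by decide +kernel

theorem m2_1154 : allRange 99244 86 (fun u => chkFix tab mwords u) = true := by decide +kernel


end Cfsg.Agent.Helper9.TCData.X1692
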