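import Cfsg.Agent.Lib.Helper9.TCData.X1692.Main

set_option autoImplicit false
set_option maxRecDepth 1000000

namespace Cfsg.Agent.Helper9.TCData.X1692
open Cfsg.Agent.Helper9.TC2

theorem m2_1155 : allRange 99330 86 (fun u => chkFix tab mwords u) = true := by decide +kernel

theorem m2_1156 : allRange 99416 86 (fun u => chkFix tab mwords u) = true := by decide +kernel

theorem m2_1157 : allRange 99502 86 (fun u => chkFix tab mwords u) = true := by decide +kernel

theorem m2_1158 : allRange 99588 86 (fun u => chkFix tab mwords u) = true := by decide +kernel

theorem m2_1159 : allRange 99674 86 (fun u => chkFix tab mwords u) = true := by decide +kernel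

theorem m2_1160 : allRange 99760 86 (fun u => chkFix tab mwords u) = true := by decide +kernel

theorem m2_1161 : allRange 99846 86 (fun u => chkFix tab mwords u) = true := by decide +kernel

theorem m2_1162 : allRange 99932 86 (fun u => chkFix tab mwords u) = true := by decide +kernel

theorem m2_1163 : allRange 100018 86 (fun u => chkFix tab mwords u) = true := by decide +kernel

theorem m2_1164 : allRange 100104 86 (fun u => chkFix tab mwords u) = true := by decide +kernel


end Cfsg.Agent.Helper9.TCData.X1692
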