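import Cfsg.Agent.Lib.Helper9.TCData.X1692.Main

set_option autoImplicit false
set_option maxRecDepth 1000000

namespace Cfsg.Agent.Helper9.TCData.X1692
open Cfsg.Agent.Helper9.TC2

theorem m2_1165 : allRange 100190 86 (fun u => chkFix tab mwords u) = true := by decide +kernel

theorem m2_1166 : allRange 100276 86 (fun u => chkFix tab mwords u) = true := by decide +kernel

theorem m2_1167 : allRange 100362 86 (fun u => chkFix tab mwords u) = true := by decide +kernel

theorem m2_1168 : allRange 100448 86 (fun u => chkFix tab mwords u) = true := by decide +kernel

theorem m2_1169 : allRange 100534 86 (fun u => chkFix tab mwords u) = true := by decide +kernel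

theorem m2_1170 : allRange 100620 86 (fun u => chkFix tab mwords u) = true := by decide +kernel

theorem m2_1171 : allRange 100706 86 (fun u => chkFix tab mwords u) = true := by decide +kernel

theorem m2_1172 : allRange 100792 86 (fun u => chkFix tab mwords u) = true := by decide +kernel

theorem m2_1173 : allRange 100878 86 (fun u => chkFix tab mwords u) = true := by decide +kernel

theorem m2_1174 : allRange 100964 86 (fun u => chkFix tab mwords u) = true := by decide +kernel


end Cfsg.Agent.Helper9.TCData.X1692
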