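import Cfsg.Agent.Lib.Helper9.TCData.X1692.Main

set_option autoImplicit false
set_option maxRecDepth 1000000

namespace Cfsg.Agent.Helper9.TCData.X1692
open Cfsg.Agent.Helper9.TC2

theorem m2_1185 : allRange 101910 86 (fun u => chkFix tab mwords u) = true := by decide +kernel

theorem m2_1186 : allRange 101996 86 (fun u => chkFix tab mwords u) = true := by decide +kernel

theorem m2_1187 : allRange 102082 86 (fun u => chkFix tab mwords u) = true := by decide +kernel

theorem m2_1188 : allRange 102168 86 (fun u => chkFix tab mwords u) = true := by decide +kernel

theorem m2_1189 : allRange 102254 86 (fun u => chkFix tab mwords u) = true := by decide +kernel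

theorem m2_1190 : allRange 102340 86 (fun u => chkFix tab mwords u) = true := by decide +kernel

theorem m2_1191 : allRange 102426 86 (fun u => chkFix tab mwords u) = true := by decide +kernel

theorem m2_1192 : allRange 102512 86 (fun u => chkFix tab mwords u) = true := by decide +kernel

theorem m2_1193 : allRange 102598 86 (fun u => chkFix tab mwords u) = true := by decide +kernel

theorem m2_1194 : allRange 102684 86 (fun u => chkFix tab mwords u) = true := by decide +kernel


end Cfsg.Agent.Helper9.TCData.X1692
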