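import Cfsg.Agent.Lib.Helper9.TCData.X1692.Main

set_option autoImplicit false
set_option maxRecDepth 1000000

namespace Cfsg.Agent.Helper9.TCData.X1692
open Cfsg.Agent.Helper9.TC2

theorem m2_1195 : allRange 102770 86 (fun u => chkFix tab mwords u) = true := by decide +kernel

theorem m2_1196 : allRange 102856 86 (fun u => chkFix tab mwords u) = true := by decide +kernel

theorem m2_1197 : allRange 102942 86 (fun u => chkFix tab mwords u) = true := by decide +kernel

theorem m2_1198 : allRange 103028 86 (fun u => chkFix tab mwords u) = true := by decide +kernel

theorem m2_1199 : allRange 103114 86 (fun u => chkFix tab mwords u) = true := by decide +kernel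

theorem m2_1200 : allRange 103200 86 (fun u => chkFix tab mwords u) = true := by decide +kernel

theorem m2_1201 : allRange 103286 86 (fun u => chkFix tab mwords u) = true := by decide +kernel

theorem m2_1202 : allRange 103372 86 (fun u => chkFix tab mwords u) = true := by decide +kernel

theorem m2_1203 : allRange 103458 86 (fun u => chkFix tab mwords u) = true := by decide +kernel

theorem m2_1204 : allRange 103544 86 (fun u => chkFix tab mwords u) = true := by decide +kernel


end Cfsg.Agent.Helper9.TCData.X1692
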