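import Cfsg.Agent.Lib.Helper9.TCData.X1692.Main

set_option autoImplicit false
set_option maxRecDepth 1000000

namespace Cfsg.Agent.Helper9.TCData.X1692
open Cfsg.Agent.Helper9.TC2

theorem m2_1205 : allRange 103630 86 (fun u => chkFix tab mwords u) = true := by decide +kernel

theorem m2_1206 : allRange 103716 86 (fun u => chkFix tab mwords u) = true := by decide +kernel

theorem m2_1207 : allRange 103802 86 (fun u => chkFix tab mwords u) = true := by decide +kernel

theorem m2_1208 : allRange 103888 86 (fun u => chkFix tab mwords u) = true := by decide +kernel

theorem m2_1209 : allRange 103974 86 (fun u => chkFix tab mwords u) = true := by decide +kernel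

theorem m2_1210 : allRange 104060 86 (fun u => chkFix tab mwords u) = true := by decide +kernel

theorem m2_1211 : allRange 104146 86 (fun u => chkFix tab mwords u) = true := by decide +kernel

theorem m2_1212 : allRange 104232 86 (fun u => chkFix tab mwords u) = true := by decide +kernel

theorem m2_1213 : allRange 104318 86 (fun u => chkFix tab mwords u) = true := by decide +kernel

theorem m2_1214 : allRange 104404 86 (fun u => chkFix tab mwords u) = true := by decide +kernel


end Cfsg.Agent.Helper9.TCData.X1692
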