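import Cfsg.Agent.Lib.Helper9.TCData.X1692.Main

set_option autoImplicit false
set_option maxRecDepth 1000000

namespace Cfsg.Agent.Helper9.TCData.X1692
open Cfsg.Agent.Helper9.TC2

theorem m2_1225 : allRange 105350 86 (fun u => chkFix tab mwords u) = true := by decide +kernel

theorem m2_1226 : allRange 105436 86 (fun u => chkFix tab mwords u) = true := by decide +kernel

theorem m2_1227 : allRange 105522 86 (fun u => chkFix tab mwords u) = true := by decide +kernel

theorem m2_1228 : allRange 105608 86 (fun u => chkFix tab mwords u) = true := by decide +kernel

theorem m2_1229 : allRange 105694 86 (fun u => chkFix tab mwords u) = true := by decide +kernel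

theorem m2_1230 : allRange 105780 86 (fun u => chkFix tab mwords u) = true := by decide +kernel

theorem m2_1231 : allRange 105866 86 (fun u => chkFix tab mwords u) = true := by decide +kernel

theorem m2_1232 : allRange 105952 86 (fun u => chkFix tab mwords u) = true := by decide +kernel

theorem m2_1233 : allRange 106038 86 (fun u => chkFix tab mwords u) = true := by decide +kernel

theorem m2_1234 : allRange 106124 86 (fun u => chkFix tab mwords u) = true := by decide +kernel


end Cfsg.Agent.Helper9.TCData.X1692
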