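import Cfsg.Agent.Lib.Helper9.TCData.X1692.Main

set_option autoImplicit false
set_option maxRecDepth 1000000

namespace Cfsg.Agent.Helper9.TCData.X1692
open Cfsg.Agent.Helper9.TC2

theorem m2_1245 : allRange 107070 86 (fun u => chkFix tab mwords u) = true := by decide +kernel

theorem m2_1246 : allRange 107156 86 (fun u => chkFix tab mwords u) = true := by decide +kernel

theorem m2_1247 : allRange 107242 86 (fun u => chkFix tab mwords u) = true := by decide +kernel

theorem m2_1248 : allRange 107328 86 (fun u => chkFix tab mwords u) = true := by decide +kernel

theorem m2_1249 : allRange 107414 86 (fun u => chkFix tab mwords u) = true := by decide +kernel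

theorem m2_1250 : allRange 107500 86 (fun u => chkFix tab mwords u) = true := by decide +kernel

theorem m2_1251 : allRange 107586 86 (fun u => chkFix tab mwords u) = true := by decide +kernel

theorem m2_1252 : allRange 107672 86 (fun u => chkFix tab mwords u) = true := by decide +kernel

theorem m2_1253 : allRange 107758 86 (fun u => chkFix tab mwords u) = true := by decide +kernel

theorem m2_1254 : allRange 107844 86 (fun u => chkFix tab mwords u) = true := by decide +kernel


end Cfsg.Agent.Helper9.TCData.X1692
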