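import Cfsg.Agent.Lib.Helper9.TCData.X1692.Main

set_option autoImplicit false
set_option maxRecDepth 1000000

namespace Cfsg.Agent.Helper9.TCData.X1692
open Cfsg.Agent.Helper9.TC2

theorem m2_1255 : allRange 107930 86 (fun u => chkFix tab mwords u) = true := by decide +kernel

theorem m2_1256 : allRange 108016 86 (fun u => chkFix tab mwords u) = true := by decide +kernel

theorem m2_1257 : allRange 108102 86 (fun u => chkFix tab mwords u) = true := by decide +kernel

theorem m2_1258 : allRange 108188 86 (fun u => chkFix tab mwords u) = true := by decide +kernel

theorem m2_1259 : allRange 108274 86 (fun u => chkFix tab mwords u) = true := by decide +kernel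

theorem m2_1260 : allRange 108360 86 (fun u => chkFix tab mwords u) = true := by decide +kernel

theorem m2_1261 : allRange 108446 86 (fun u => chkFix tab mwords u) = true := by decide +kernel

theorem m2_1262 : allRange 108532 86 (fun u => chkFix tab mwords u) = true := by decide +kernel

theorem m2_1263 : allRange 108618 86 (fun u => chkFix tab mwords u) = true := by decide +kernel

theorem m2_1264 : allRange 108704 86 (fun u => chkFix tab mwords u) = true := by decide +kernel


end Cfsg.Agent.Helper9.TCData.X1692
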