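import Cfsg.Agent.Lib.Helper9.TCData.X1692.Main

set_option autoImplicit false
set_option maxRecDepth 1000000

namespace Cfsg.Agent.Helper9.TCData.X1692
open Cfsg.Agent.Helper9.TC2

theorem m2_1275 : allRange 109650 86 (fun u => chkFix tab mwords u) = true := by decide +kernel

theorem m2_1276 : allRange 109736 86 (fun u => chkFix tab mwords u) = true := by decide +kernel

theorem m2_1277 : allRange 109822 86 (fun u => chkFix tab mwords u) = true := by decide +kernel

theorem m2_1278 : allRange 109908 86 (fun u => chkFix tab mwords u) = true := by decide +kernel

theorem m2_1279 : allRange 109994 86 (fun u => chkFix tab mwords u) = true := by decide +kernel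

theorem m2_1280 : allRange 110080 86 (fun u => chkFix tab mwords u) = true := by decide +kernel

theorem m2_1281 : allRange 110166 86 (fun u => chkFix tab mwords u) = true := by decide +kernel

theorem m2_1282 : allRange 110252 86 (fun u => chkFix tab mwords u) = true := by decide +kernel

theorem m2_1283 : allRange 110338 86 (fun u => chkFix tab mwords u) = true := by decide +kernel

theorem m2_1284 : allRange 110424 86 (fun u => chkFix tab mwords u) = true := by decide +kernel


end Cfsg.Agent.Helper9.TCData.X1692
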