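import Cfsg.Agent.Lib.Helper9.TCData.X1692.Main

set_option autoImplicit false
set_option maxRecDepth 1000000

namespace Cfsg.Agent.Helper9.TCData.X1692
open Cfsg.Agent.Helper9.TC2

theorem m2_1285 : allRange 110510 86 (fun u => chkFix tab mwords u) = true := by decide +kernel

theorem m2_1286 : allRange 110596 86 (fun u => chkFix tab mwords u) = true := by decide +kernel

theorem m2_1287 : allRange 110682 86 (fun u => chkFix tab mwords u) = true := by decide +kernel

theorem m2_1288 : allRange 110768 86 (fun u => chkFix tab mwords u) = true := by decide +kernel

theorem m2_1289 : allRange 110854 86 (fun u => chkFix tab mwords u) = true := by decide +kernel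

theorem m2_1290 : allRange 110940 86 (fun u => chkFix tab mwords u) = true := by decide +kernel

theorem m2_1291 : allRange 111026 86 (fun u => chkFix tab mwords u) = true := by decide +kernel

theorem m2_1292 : allRange 111112 86 (fun u => chkFix tab mwords u) = true := by decide +kernel

theorem m2_1293 : allRange 111198 86 (fun u => chkFix tab mwords u) = true := by decide +kernel

theorem m2_1294 : allRange 111284 86 (fun u => chkFix tab mwords u) = true := by decide +kernel


end Cfsg.Agent.Helper9.TCData.X1692
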