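import Cfsg.Agent.Lib.Helper9.TCData.X1692.Main

set_option autoImplicit false
set_option maxRecDepth 1000000

namespace Cfsg.Agent.Helper9.TCData.X1692
open Cfsg.Agent.Helper9.TC2

theorem m2_1295 : allRange 111370 86 (fun u => chkFix tab mwords u) = true := by decide +kernel

theorem m2_1296 : allRange 111456 86 (fun u => chkFix tab mwords u) = true := by decide +kernel

theorem m2_1297 : allRange 111542 86 (fun u => chkFix tab mwords u) = true := by decide +kernel

theorem m2_1298 : allRange 111628 86 (fun u => chkFix tab mwords u) = true := by decide +kernel

theorem m2_1299 : allRange 111714 86 (fun u => chkFix tab mwords u) = true := by decide +kernel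

theorem m2_1300 : allRange 111800 86 (fun u => chkFix tab mwords u) = true := by decide +kernel

theorem m2_1301 : allRange 111886 86 (fun u => chkFix tab mwords u) = true := by decide +kernel

theorem m2_1302 : allRange 111972 86 (fun u => chkFix tab mwords u) = true := by decide +kernel

theorem m2_1303 : allRange 112058 86 (fun u => chkFix tab mwords u) = true := by decide +kernel

theorem m2_1304 : allRange 112144 86 (fun u => chkFix tab mwords u) = true := by decide +kernel


end Cfsg.Agent.Helper9.TCData.X1692
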