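import Cfsg.Agent.Lib.Helper9.TCData.X1692.Main

set_option autoImplicit false
set_option maxRecDepth 1000000

namespace Cfsg.Agent.Helper9.TCData.X1692
open Cfsg.Agent.Helper9.TC2

theorem e3_32 : allRange 107948 3051 (fun u => chkE tab 3 u) = true := by decide +kernel

theorem e3_33 : allRange 110999 3938 (fun u => chkE tab 3 u) = true := by decide +kernel

theorem e3_34 : allRange 114937 3101 (fun u => chkE tab 3 u) = true := by decide +kernel

theorem e3_35 : allRange 118038 4871 (fun u => chkE tab 3 u) = true := by decide +kernel

theorem e3_36 : allRange 122909 4938 (fun u => chkE tab 3 u) = true := by decide +kernel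

theorem e3_37 : allRange 127847 3624 (fun u => chkE tab 3 u) = true := by decide +kernel

theorem e3_38 : allRange 131471 3604 (fun u => chkE tab 3 u) = true := by decide +kernel

theorem e3_39 : allRange 135075 3759 (fun u => chkE tab 3 u) = true := by decide +kernel

theorem e3_40 : allRange 138834 4158 (fun u => chkE tab 3 u) = true := by decide +kernel

theorem e3_41 : allRange 142992 5420 (fun u => chkE tab 3 u) = true := by decide +kernel


end Cfsg.Agent.Helper9.TCData.X1692
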