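import Cfsg.Agent.Lib.Helper9.TCData.X1692.Main

set_option autoImplicit false
set_option maxRecDepth 1000000

namespace Cfsg.Agent.Helper9.TCData.X1692
open Cfsg.Agent.Helper9.TC2

theorem m2_1315 : allRange 113090 86 (fun u => chkFix tab mwords u) = true := by decide +kernel

theorem m2_1316 : allRange 113176 86 (fun u => chkFix tab mwords u) = true := by decide +kernel

theorem m2_1317 : allRange 113262 86 (fun u => chkFix tab mwords u) = true := by decide +kernel

theorem m2_1318 : allRange 113348 86 (fun u => chkFix tab mwords u) = true := by decide +kernel

theorem m2_1319 : allRange 113434 86 (fun u => chkFix tab mwords u) = true := by decide +kernel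

theorem m2_1320 : allRange 113520 86 (fun u => chkFix tab mwords u) = true := by decide +kernel

theorem m2_1321 : allRange 113606 86 (fun u => chkFix tab mwords u) = true := by decide +kernel

theorem m2_1322 : allRange 113692 86 (fun u => chkFix tab mwords u) = true := by decide +kernel

theorem m2_1323 : allRange 113778 86 (fun u => chkFix tab mwords u) = true := by decide +kernel

theorem m2_1324 : allRange 113864 86 (fun u => chkFix tab mwords u) = true := by decide +kernel


end Cfsg.Agent.Helper9.TCData.X1692
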