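import Cfsg.Agent.Lib.Helper9.TCData.X1692.Main

set_option autoImplicit false
set_option maxRecDepth 1000000

namespace Cfsg.Agent.Helper9.TCData.X1692
open Cfsg.Agent.Helper9.TC2

theorem m2_1325 : allRange 113950 86 (fun u => chkFix tab mwords u) = true := by decide +kernel

theorem m2_1326 : allRange 114036 86 (fun u => chkFix tab mwords u) = true := by decide +kernel

theorem m2_1327 : allRange 114122 86 (fun u => chkFix tab mwords u) = true := by decide +kernel

theorem m2_1328 : allRange 114208 86 (fun u => chkFix tab mwords u) = true := by decide +kernel

theorem m2_1329 : allRange 114294 86 (fun u => chkFix tab mwords u) = true := by decide +kernel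

theorem m2_1330 : allRange 114380 86 (fun u => chkFix tab mwords u) = true := by decide +kernel

theorem m2_1331 : allRange 114466 86 (fun u => chkFix tab mwords u) = true := by decide +kernel

theorem m2_1332 : allRange 114552 86 (fun u => chkFix tab mwords u) = true := by decide +kernel

theorem m2_1333 : allRange 114638 86 (fun u => chkFix tab mwords u) = true := by decide +kernel

theorem m2_1334 : allRange 114724 86 (fun u => chkFix tab mwords u) = true := by decide +kernel


end Cfsg.Agent.Helper9.TCData.X1692
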