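import Cfsg.Agent.Lib.Helper9.TCData.X1692.Main

set_option autoImplicit false
set_option maxRecDepth 1000000

namespace Cfsg.Agent.Helper9.TCData.X1692
open Cfsg.Agent.Helper9.TC2

theorem m2_1335 : allRange 114810 86 (fun u => chkFix tab mwords u) = true := by decide +kernel

theorem m2_1336 : allRange 114896 86 (fun u => chkFix tab mwords u) = true := by decide +kernel

theorem m2_1337 : allRange 114982 86 (fun u => chkFix tab mwords u) = true := by decide +kernel

theorem m2_1338 : allRange 115068 86 (fun u => chkFix tab mwords u) = true := by decide +kernel

theorem m2_1339 : allRange 115154 86 (fun u => chkFix tab mwords u) = true := by decide +kernel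

theorem m2_1340 : allRange 115240 86 (fun u => chkFix tab mwords u) = true := by decide +kernel

theorem m2_1341 : allRange 115326 86 (fun u => chkFix tab mwords u) = true := by decide +kernel

theorem m2_1342 : allRange 115412 86 (fun u => chkFix tab mwords u) = true := by decide +kernel

theorem m2_1343 : allRange 115498 86 (fun u => chkFix tab mwords u) = true := by decide +kernel

theorem m2_1344 : allRange 115584 86 (fun u => chkFix tab mwords u) = true := by decide +kernel


end Cfsg.Agent.Helper9.TCData.X1692
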