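import Cfsg.Agent.Lib.Helper9.TCData.X1692.Main

set_option autoImplicit false
set_option maxRecDepth 1000000

namespace Cfsg.Agent.Helper9.TCData.X1692
open Cfsg.Agent.Helper9.TC2

theorem m2_1345 : allRange 115670 86 (fun u => chkFix tab mwords u) = true := by decide +kernel

theorem m2_1346 : allRange 115756 86 (fun u => chkFix tab mwords u) = true := by decide +kernel

theorem m2_1347 : allRange 115842 86 (fun u => chkFix tab mwords u) = true := by decide +kernel

theorem m2_1348 : allRange 115928 86 (fun u => chkFix tab mwords u) = true := by decide +kernel

theorem m2_1349 : allRange 116014 86 (fun u => chkFix tab mwords u) = true := by decide +kernel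

theorem m2_1350 : allRange 116100 86 (fun u => chkFix tab mwords u) = true := by decide +kernel

theorem m2_1351 : allRange 116186 86 (fun u => chkFix tab mwords u) = true := by decide +kernel

theorem m2_1352 : allRange 116272 86 (fun u => chkFix tab mwords u) = true := by decide +kernel

theorem m2_1353 : allRange 116358 86 (fun u => chkFix tab mwords u) = true := by decide +kernel

theorem m2_1354 : allRange 116444 86 (fun u => chkFix tab mwords u) = true := by decide +kernel


end Cfsg.Agent.Helper9.TCData.X1692
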