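import Cfsg.Agent.Lib.Helper9.TCData.X1692.Main

set_option autoImplicit false
set_option maxRecDepth 1000000

namespace Cfsg.Agent.Helper9.TCData.X1692
open Cfsg.Agent.Helper9.TC2

theorem m2_1365 : allRange 117390 86 (fun u => chkFix tab mwords u) = true := by decide +kernel

theorem m2_1366 : allRange 117476 86 (fun u => chkFix tab mwords u) = true := by decide +kernel

theorem m2_1367 : allRange 117562 86 (fun u => chkFix tab mwords u) = true := by decide +kernel

theorem m2_1368 : allRange 117648 86 (fun u => chkFix tab mwords u) = true := by decide +kernel

theorem m2_1369 : allRange 117734 86 (fun u => chkFix tab mwords u) = true := by decide +kernel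

theorem m2_1370 : allRange 117820 86 (fun u => chkFix tab mwords u) = true := by decide +kernel

theorem m2_1371 : allRange 117906 86 (fun u => chkFix tab mwords u) = true := by decide +kernel

theorem m2_1372 : allRange 117992 86 (fun u => chkFix tab mwords u) = true := by decide +kernel

theorem m2_1373 : allRange 118078 86 (fun u => chkFix tab mwords u) = true := by decide +kernel

theorem m2_1374 : allRange 118164 86 (fun u => chkFix tab mwords u) = true := by decide +kernel


end Cfsg.Agent.Helper9.TCData.X1692
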