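import Cfsg.Agent.Lib.Helper9.TCData.X1692.Main

set_option autoImplicit false
set_option maxRecDepth 1000000

namespace Cfsg.Agent.Helper9.TCData.X1692
open Cfsg.Agent.Helper9.TC2

theorem m2_1375 : allRange 118250 86 (fun u => chkFix tab mwords u) = true := by decide +kernel

theorem m2_1376 : allRange 118336 86 (fun u => chkFix tab mwords u) = true := by decide +kernel

theorem m2_1377 : allRange 118422 86 (fun u => chkFix tab mwords u) = true := by decide +kernel

theorem m2_1378 : allRange 118508 86 (fun u => chkFix tab mwords u) = true := by decide +kernel

theorem m2_1379 : allRange 118594 86 (fun u => chkFix tab mwords u) = true := by decide +kernel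

theorem m2_1380 : allRange 118680 86 (fun u => chkFix tab mwords u) = true := by decide +kernel

theorem m2_1381 : allRange 118766 86 (fun u => chkFix tab mwords u) = true := by decide +kernel

theorem m2_1382 : allRange 118852 86 (fun u => chkFix tab mwords u) = true := by decide +kernel

theorem m2_1383 : allRange 118938 86 (fun u => chkFix tab mwords u) = true := by decide +kernel

theorem m2_1384 : allRange 119024 86 (fun u => chkFix tab mwords u) = true := by decide +kernel


end Cfsg.Agent.Helper9.TCData.X1692
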