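import Cfsg.Agent.Lib.Helper9.TCData.X1692.Main

set_option autoImplicit false
set_option maxRecDepth 1000000

namespace Cfsg.Agent.Helper9.TCData.X1692
open Cfsg.Agent.Helper9.TC2

theorem m2_1395 : allRange 119970 86 (fun u => chkFix tab mwords u) = true := by decide +kernel

theorem m2_1396 : allRange 120056 86 (fun u => chkFix tab mwords u) = true := by decide +kernel

theorem m2_1397 : allRange 120142 86 (fun u => chkFix tab mwords u) = true := by decide +kernel

theorem m2_1398 : allRange 120228 86 (fun u => chkFix tab mwords u) = true := by decide +kernel

theorem m2_1399 : allRange 120314 86 (fun u => chkFix tab mwords u) = true := by decide +kernel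

theorem m2_1400 : allRange 120400 86 (fun u => chkFix tab mwords u) = true := by decide +kernel

theorem m2_1401 : allRange 120486 86 (fun u => chkFix tab mwords u) = true := by decide +kernel

theorem m2_1402 : allRange 120572 86 (fun u => chkFix tab mwords u) = true := by decide +kernel

theorem m2_1403 : allRange 120658 86 (fun u => chkFix tab mwords u) = true := by decide +kernel

theorem m2_1404 : allRange 120744 86 (fun u => chkFix tab mwords u) = true := by decide +kernel


end Cfsg.Agent.Helper9.TCData.X1692
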