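import Cfsg.Agent.Lib.Helper9.TCData.X1692.Main

set_option autoImplicit false
set_option maxRecDepth 1000000

namespace Cfsg.Agent.Helper9.TCData.X1692
open Cfsg.Agent.Helper9.TC2

theorem m2_1405 : allRange 120830 86 (fun u => chkFix tab mwords u) = true := by decide +kernel

theorem m2_1406 : allRange 120916 86 (fun u => chkFix tab mwords u) = true := by decide +kernel

theorem m2_1407 : allRange 121002 86 (fun u => chkFix tab mwords u) = true := by decide +kernel

theorem m2_1408 : allRange 121088 86 (fun u => chkFix tab mwords u) = true := by decide +kernel

theorem m2_1409 : allRange 121174 86 (fun u => chkFix tab mwords u) = true := by decide +kernel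

theorem m2_1410 : allRange 121260 86 (fun u => chkFix tab mwords u) = true := by decide +kernel

theorem m2_1411 : allRange 121346 86 (fun u => chkFix tab mwords u) = true := by decide +kernel

theorem m2_1412 : allRange 121432 86 (fun u => chkFix tab mwords u) = true := by decide +kernel

theorem m2_1413 : allRange 121518 86 (fun u => chkFix tab mwords u) = true := by decide +kernel

theorem m2_1414 : allRange 121604 86 (fun u => chkFix tab mwords u) = true := by decide +kernel


end Cfsg.Agent.Helper9.TCData.X1692
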