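import Cfsg.Agent.Lib.Helper9.TCData.X1692.Main

set_option autoImplicit false
set_option maxRecDepth 1000000

namespace Cfsg.Agent.Helper9.TCData.X1692
open Cfsg.Agent.Helper9.TC2

theorem e3_42 : allRange 148412 5025 (fun u => chkE tab 3 u) = true := by decide +kernel

theorem e3_43 : allRange 153437 4691 (fun u => chkE tab 3 u) = true := by decide +kernel

theorem e3_44 : allRange 158128 5056 (fun u => chkE tab 3 u) = true := by decide +kernel

theorem e3_45 : allRange 163184 6649 (fun u => chkE tab 3 u) = true := by decide +kernel

theorem e3_46 : allRange 169833 8346 (fun u => chkE tab 3 u) = true := by decide +kernel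

theorem e3_47 : allRange 178179 6199 (fun u => chkE tab 3 u) = true := by decide +kernel

theorem e3_48 : allRange 184378 6209 (fun u => chkE tab 3 u) = true := by decide +kernel

theorem e3_49 : allRange 190587 3492 (fun u => chkE tab 3 u) = true := by decide +kernel

theorem e3_50 : allRange 194079 2351 (fun u => chkE tab 3 u) = true := by decide +kernel

theorem e3_51 : allRange 196430 2265 (fun u => chkE tab 3 u) = true := by decide +kernel


end Cfsg.Agent.Helper9.TCData.X1692
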