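import Cfsg.Agent.Lib.Helper9.TCData.X1692.Main

set_option autoImplicit false
set_option maxRecDepth 1000000

namespace Cfsg.Agent.Helper9.TCData.X1692
open Cfsg.Agent.Helper9.TC2

theorem m2_1415 : allRange 121690 86 (fun u => chkFix tab mwords u) = true := by decide +kernel

theorem m2_1416 : allRange 121776 86 (fun u => chkFix tab mwords u) = true := by decide +kernel

theorem m2_1417 : allRange 121862 86 (fun u => chkFix tab mwords u) = true := by decide +kernel

theorem m2_1418 : allRange 121948 86 (fun u => chkFix tab mwords u) = true := by decide +kernel

theorem m2_1419 : allRange 122034 86 (fun u => chkFix tab mwords u) = true := by decide +kernel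

theorem m2_1420 : allRange 122120 86 (fun u => chkFix tab mwords u) = true := by decide +kernel

theorem m2_1421 : allRange 122206 86 (fun u => chkFix tab mwords u) = true := by decide +kernel

theorem m2_1422 : allRange 122292 86 (fun u => chkFix tab mwords u) = true := by decide +kernel

theorem m2_1423 : allRange 122378 86 (fun u => chkFix tab mwords u) = true := by decide +kernel

theorem m2_1424 : allRange 122464 86 (fun u => chkFix tab mwords u) = true := by decide +kernel


end Cfsg.Agent.Helper9.TCData.X1692
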