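import Cfsg.Agent.Lib.Helper9.TCData.X1692.Main

set_option autoImplicit false
set_option maxRecDepth 1000000

namespace Cfsg.Agent.Helper9.TCData.X1692
open Cfsg.Agent.Helper9.TC2

theorem e0_30 : allRange 97555 3352 (fun u => chkE tab 0 u) = true := by decide +kernel

theorem e0_31 : allRange 100907 3412 (fun u => chkE tab 0 u) = true := by decide +kernel

theorem e0_32 : allRange 104319 3730 (fun u => chkE tab 0 u) = true := by decide +kernel

theorem e0_33 : allRange 108049 2471 (fun u => chkE tab 0 u) = true := by decide +kernel

theorem e0_34 : allRange 110520 2874 (fun u => chkE tab 0 u) = true := by decide +kernel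

theorem e0_35 : allRange 113394 2791 (fun u => chkE tab 0 u) = true := by decide +kernel

theorem e0_36 : allRange 116185 2863 (fun u => chkE tab 0 u) = true := by decide +kernel

theorem e0_37 : allRange 119048 2917 (fun u => chkE tab 0 u) = true := by decide +kernel

theorem e0_38 : allRange 121965 3271 (fun u => chkE tab 0 u) = true := by decide +kernel

theorem e0_39 : allRange 125236 3049 (fun u => chkE tab 0 u) = true := by decide +kernel


end Cfsg.Agent.Helper9.TCData.X1692
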