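import Cfsg.Agent.Lib.Helper9.TCData.X1692.Main

set_option autoImplicit false
set_option maxRecDepth 1000000

namespace Cfsg.Agent.Helper9.TCData.X1692
open Cfsg.Agent.Helper9.TC2

theorem e4_7 : allRange 22006 3076 (fun u => chkE tab 4 u) = true := by decide +kernel

theorem e4_8 : allRange 25082 2573 (fun u => chkE tab 4 u) = true := by decide +kernel

theorem e4_9 : allRange 27655 2895 (fun u => chkE tab 4 u) = true := by decide +kernel

theorem e4_10 : allRange 30550 2674 (fun u => chkE tab 4 u) = true := by decide +kernel

theorem e4_11 : allRange 33224 2875 (fun u => chkE tab 4 u) = true := by decide +kernel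

theorem e4_12 : allRange 36099 3040 (fun u => chkE tab 4 u) = true := by decide +kernel

theorem e4_13 : allRange 39139 3265 (fun u => chkE tab 4 u) = true := by decide +kernel

theorem e4_14 : allRange 42404 2635 (fun u => chkE tab 4 u) = true := by decide +kernel

theorem e4_15 : allRange 45039 2626 (fun u => chkE tab 4 u) = true := by decide +kernel

theorem e4_16 : allRange 47665 2430 (fun u => chkE tab 4 u) = true := by decide +kernel


end Cfsg.Agent.Helper9.TCData.X1692
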