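import Cfsg.Agent.Lib.Helper9.TCData.X1692.Main

set_option autoImplicit false
set_option maxRecDepth 1000000

namespace Cfsg.Agent.Helper9.TCData.X1692
open Cfsg.Agent.Helper9.TC2

theorem e4_17 : allRange 50095 2581 (fun u => chkE tab 4 u) = true := by decide +kernel

theorem e4_18 : allRange 52676 2892 (fun u => chkE tab 4 u) = true := by decide +kernel

theorem e4_19 : allRange 55568 3290 (fun u => chkE tab 4 u) = true := by decide +kernel

theorem e4_20 : allRange 58858 3148 (fun u => chkE tab 4 u) = true := by decide +kernel

theorem e4_21 : allRange 62006 2896 (fun u => chkE tab 4 u) = true := by decide +kernel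

theorem e4_22 : allRange 64902 3080 (fun u => chkE tab 4 u) = true := by decide +kernel

theorem e4_23 : allRange 67982 2927 (fun u => chkE tab 4 u) = true := by decide +kernel

theorem e4_24 : allRange 70909 3141 (fun u => chkE tab 4 u) = true := by decide +kernel

theorem e4_25 : allRange 74050 3427 (fun u => chkE tab 4 u) = true := by decide +kernel

theorem e4_26 : allRange 77477 3067 (fun u => chkE tab 4 u) = true := by decide +kernel


end Cfsg.Agent.Helper9.TCData.X1692
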