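import Cfsg.Agent.Lib.Helper9.TCData.X1692.Main

set_option autoImplicit false
set_option maxRecDepth 1000000

namespace Cfsg.Agent.Helper9.TCData.X1692
open Cfsg.Agent.Helper9.TC2

theorem e4_27 : allRange 80544 2793 (fun u => chkE tab 4 u) = true := by decide +kernel

theorem e4_28 : allRange 83337 2663 (fun u => chkE tab 4 u) = true := by decide +kernel

theorem e4_29 : allRange 86000 3031 (fun u => chkE tab 4 u) = true := by decide +kernel

theorem e4_30 : allRange 89031 2378 (fun u => chkE tab 4 u) = true := by decide +kernel

theorem e4_31 : allRange 91409 3485 (fun u => chkE tab 4 u) = true := by decide +kernel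

theorem e4_32 : allRange 94894 3773 (fun u => chkE tab 4 u) = true := by decide +kernel

theorem e4_33 : allRange 98667 3999 (fun u => chkE tab 4 u) = true := by decide +kernel

theorem e4_34 : allRange 102666 4322 (fun u => chkE tab 4 u) = true := by decide +kernel

theorem e4_35 : allRange 106988 2868 (fun u => chkE tab 4 u) = true := by decide +kernel

theorem e4_36 : allRange 109856 3119 (fun u => chkE tab 4 u) = true := by decide +kernel


end Cfsg.Agent.Helper9.TCData.X1692
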