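import Cfsg.Agent.Lib.Helper9.TCData.X1692.Main

set_option autoImplicit false
set_option maxRecDepth 1000000

namespace Cfsg.Agent.Helper9.TCData.X1692
open Cfsg.Agent.Helper9.TC2

theorem e4_57 : allRange 192882 2038 (fun u => chkE tab 4 u) = true := by decide +kernel

theorem e4_58 : allRange 194920 1972 (fun u => chkE tab 4 u) = true := by decide +kernel

theorem e4_59 : allRange 196892 1865 (fun u => chkE tab 4 u) = true := by decide +kernel

theorem e4_60 : allRange 198757 2092 (fun u => chkE tab 4 u) = true := by decide +kernel

theorem e4_61 : allRange 200849 2043 (fun u => chkE tab 4 u) = true := by decide +kernel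

theorem e4_62 : allRange 202892 2043 (fun u => chkE tab 4 u) = true := by decide +kernel

theorem e4_63 : allRange 204935 2110 (fun u => chkE tab 4 u) = true := by decide +kernel

theorem e4_64 : allRange 207045 2134 (fun u => chkE tab 4 u) = true := by decide +kernel

theorem e4_65 : allRange 209179 2219 (fun u => chkE tab 4 u) = true := by decide +kernel

theorem e4_66 : allRange 211398 2257 (fun u => chkE tab 4 u) = true := by decide +kernel


end Cfsg.Agent.Helper9.TCData.X1692
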