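import Cfsg.Agent.Lib.Helper9.TCData.X1692.Main

set_option autoImplicit false
set_option maxRecDepth 1000000

namespace Cfsg.Agent.Helper9.TCData.X1692
open Cfsg.Agent.Helper9.TC2

theorem e5_2 : allRange 8093 3963 (fun u => chkE tab 5 u) = true := by decide +kernel

theorem e5_3 : allRange 12056 3235 (fun u => chkE tab 5 u) = true := by decide +kernel

theorem e5_4 : allRange 15291 3889 (fun u => chkE tab 5 u) = true := by decide +kernel

theorem e5_5 : allRange 19180 3833 (fun u => chkE tab 5 u) = true := by decide +kernel

theorem e5_6 : allRange 23013 3071 (fun u => chkE tab 5 u) = true := by decide +kernel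

theorem e5_7 : allRange 26084 3379 (fun u => chkE tab 5 u) = true := by decide +kernel

theorem e5_8 : allRange 29463 3285 (fun u => chkE tab 5 u) = true := by decide +kernel

theorem e5_9 : allRange 32748 3225 (fun u => chkE tab 5 u) = true := by decide +kernel

theorem e5_10 : allRange 35973 3851 (fun u => chkE tab 5 u) = true := by decide +kernel

theorem e5_11 : allRange 39824 3898 (fun u => chkE tab 5 u) = true := by decide +kernel


end Cfsg.Agent.Helper9.TCData.X1692
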