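import Cfsg.Agent.Lib.Helper9.TCData.X1692.Main

set_option autoImplicit false
set_option maxRecDepth 1000000

namespace Cfsg.Agent.Helper9.TCData.X1692
open Cfsg.Agent.Helper9.TC2

theorem e0_40 : allRange 128285 2487 (fun u => chkE tab 0 u) = true := by decide +kernel

theorem e0_41 : allRange 130772 2656 (fun u => chkE tab 0 u) = true := by decide +kernel

theorem e0_42 : allRange 133428 2673 (fun u => chkE tab 0 u) = true := by decide +kernel

theorem e0_43 : allRange 136101 2651 (fun u => chkE tab 0 u) = true := by decide +kernel

theorem e0_44 : allRange 138752 2484 (fun u => chkE tab 0 u) = true := by decide +kernel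

theorem e0_45 : allRange 141236 3186 (fun u => chkE tab 0 u) = true := by decide +kernel

theorem e0_46 : allRange 144422 3917 (fun u => chkE tab 0 u) = true := by decide +kernel

theorem e0_47 : allRange 148339 3353 (fun u => chkE tab 0 u) = true := by decide +kernel

theorem e0_48 : allRange 151692 3402 (fun u => chkE tab 0 u) = true := by decide +kernel

theorem e0_49 : allRange 155094 3200 (fun u => chkE tab 0 u) = true := by decide +kernel


end Cfsg.Agent.Helper9.TCData.X1692
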