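import Cfsg.Agent.Lib.Helper9.TCData.X1692.Main

set_option autoImplicit false
set_option maxRecDepth 1000000

namespace Cfsg.Agent.Helper9.TCData.X1692
open Cfsg.Agent.Helper9.TC2

theorem e5_32 : allRange 116299 3315 (fun u => chkE tab 5 u) = true := by decide +kernel

theorem e5_33 : allRange 119614 3976 (fun u => chkE tab 5 u) = true := by decide +kernel

theorem e5_34 : allRange 123590 3808 (fun u => chkE tab 5 u) = true := by decide +kernel

theorem e5_35 : allRange 127398 3195 (fun u => chkE tab 5 u) = true := by decide +kernel

theorem e5_36 : allRange 130593 3082 (fun u => chkE tab 5 u) = true := by decide +kernel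

theorem e5_37 : allRange 133675 3019 (fun u => chkE tab 5 u) = true := by decide +kernel

theorem e5_38 : allRange 136694 3088 (fun u => chkE tab 5 u) = true := by decide +kernel

theorem e5_39 : allRange 139782 3823 (fun u => chkE tab 5 u) = true := by decide +kernel

theorem e5_40 : allRange 143605 4428 (fun u => chkE tab 5 u) = true := by decide +kernel

theorem e5_41 : allRange 148033 4093 (fun u => chkE tab 5 u) = true := by decide +kernel


end Cfsg.Agent.Helper9.TCData.X1692
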