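import Cfsg.Agent.Lib.Helper9.TCData.X1692.Main

set_option autoImplicit false
set_option maxRecDepth 1000000

namespace Cfsg.Agent.Helper9.TCData.X1692
open Cfsg.Agent.Helper9.TC2

theorem e5_42 : allRange 152126 4252 (fun u => chkE tab 5 u) = true := by decide +kernel

theorem e5_43 : allRange 156378 4122 (fun u => chkE tab 5 u) = true := by decide +kernel

theorem e5_44 : allRange 160500 4149 (fun u => chkE tab 5 u) = true := by decide +kernel

theorem e5_45 : allRange 164649 5211 (fun u => chkE tab 5 u) = true := by decide +kernel

theorem e5_46 : allRange 169860 6417 (fun u => chkE tab 5 u) = true := by decide +kernel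

theorem e5_47 : allRange 176277 5210 (fun u => chkE tab 5 u) = true := by decide +kernel

theorem e5_48 : allRange 181487 5571 (fun u => chkE tab 5 u) = true := by decide +kernel

theorem e5_49 : allRange 187058 4398 (fun u => chkE tab 5 u) = true := by decide +kernel

theorem e5_50 : allRange 191456 2820 (fun u => chkE tab 5 u) = true := by decide +kernel

theorem e5_51 : allRange 194276 2078 (fun u => chkE tab 5 u) = true := by decide +kernel


end Cfsg.Agent.Helper9.TCData.X1692
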