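import Cfsg.Agent.Lib.Helper9.TCData.X1692.Main

set_option autoImplicit false
set_option maxRecDepth 1000000

namespace Cfsg.Agent.Helper9.TCData.X1692
open Cfsg.Agent.Helper9.TC2

theorem e5_62 : allRange 217269 2362 (fun u => chkE tab 5 u) = true := by decide +kernel

theorem e5_63 : allRange 219631 2461 (fun u => chkE tab 5 u) = true := by decide +kernel

theorem e5_64 : allRange 222092 2479 (fun u => chkE tab 5 u) = true := by decide +kernel

theorem e5_65 : allRange 224571 2563 (fun u => chkE tab 5 u) = true := by decide +kernel

theorem e5_66 : allRange 227134 3038 (fun u => chkE tab 5 u) = true := by decide +kernel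

theorem e5_67 : allRange 230172 1422 (fun u => chkE tab 5 u) = true := by decide +kernel

theorem e6_0 : allRange 0 4641 (fun u => chkE tab 6 u) = true := by decide +kernel

theorem e6_1 : allRange 4641 4698 (fun u => chkE tab 6 u) = true := by decide +kernel

theorem e6_2 : allRange 9339 4617 (fun u => chkE tab 6 u) = true := by decide +kernel

theorem e6_3 : allRange 13956 4648 (fun u => chkE tab 6 u) = true := by decide +kernel


end Cfsg.Agent.Helper9.TCData.X1692
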