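import Cfsg.Agent.Lib.Helper9.TCData.X1692.Main

set_option autoImplicit false
set_option maxRecDepth 1000000

namespace Cfsg.Agent.Helper9.TCData.X1692
open Cfsg.Agent.Helper9.TC2

theorem e6_4 : allRange 18604 4382 (fun u => chkE tab 6 u) = true := by decide +kernel

theorem e6_5 : allRange 22986 4669 (fun u => chkE tab 6 u) = true := by decide +kernel

theorem e6_6 : allRange 27655 4153 (fun u => chkE tab 6 u) = true := by decide +kernel

theorem e6_7 : allRange 31808 4385 (fun u => chkE tab 6 u) = true := by decide +kernel

theorem e6_8 : allRange 36193 4611 (fun u => chkE tab 6 u) = true := by decide +kernel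

theorem e6_9 : allRange 40804 4338 (fun u => chkE tab 6 u) = true := by decide +kernel

theorem e6_10 : allRange 45142 4223 (fun u => chkE tab 6 u) = true := by decide +kernel

theorem e6_11 : allRange 49365 4276 (fun u => chkE tab 6 u) = true := by decide +kernel

theorem e6_12 : allRange 53641 4741 (fun u => chkE tab 6 u) = true := by decide +kernel

theorem e6_13 : allRange 58382 4601 (fun u => chkE tab 6 u) = true := by decide +kernel


end Cfsg.Agent.Helper9.TCData.X1692
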