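import Cfsg.Agent.Lib.Helper9.TCData.X1692.Main

set_option autoImplicit false
set_option maxRecDepth 1000000

namespace Cfsg.Agent.Helper9.TCData.X1692
open Cfsg.Agent.Helper9.TC2

theorem e6_14 : allRange 62983 4498 (fun u => chkE tab 6 u) = true := by decide +kernel

theorem e6_15 : allRange 67481 4457 (fun u => chkE tab 6 u) = true := by decide +kernel

theorem e6_16 : allRange 71938 4637 (fun u => chkE tab 6 u) = true := by decide +kernel

theorem e6_17 : allRange 76575 4587 (fun u => chkE tab 6 u) = true := by decide +kernel

theorem e6_18 : allRange 81162 4082 (fun u => chkE tab 6 u) = true := by decide +kernel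

theorem e6_19 : allRange 85244 4313 (fun u => chkE tab 6 u) = true := by decide +kernel

theorem e6_20 : allRange 89557 5018 (fun u => chkE tab 6 u) = true := by decide +kernel

theorem e6_21 : allRange 94575 5547 (fun u => chkE tab 6 u) = true := by decide +kernel

theorem e6_22 : allRange 100122 5249 (fun u => chkE tab 6 u) = true := by decide +kernel

theorem e6_23 : allRange 105371 4619 (fun u => chkE tab 6 u) = true := by decide +kernel


end Cfsg.Agent.Helper9.TCData.X1692
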