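import Cfsg.Agent.Lib.Helper9.TCData.X1692.Main

set_option autoImplicit false
set_option maxRecDepth 1000000

namespace Cfsg.Agent.Helper9.TCData.X1692
open Cfsg.Agent.Helper9.TC2

theorem e6_24 : allRange 109990 4052 (fun u => chkE tab 6 u) = true := by decide +kernel

theorem e6_25 : allRange 114042 3968 (fun u => chkE tab 6 u) = true := by decide +kernel

theorem e6_26 : allRange 118010 4820 (fun u => chkE tab 6 u) = true := by decide +kernel

theorem e6_27 : allRange 122830 4794 (fun u => chkE tab 6 u) = true := by decide +kernel

theorem e6_28 : allRange 127624 3816 (fun u => chkE tab 6 u) = true := by decide +kernel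

theorem e6_29 : allRange 131440 3926 (fun u => chkE tab 6 u) = true := by decide +kernel

theorem e6_30 : allRange 135366 4018 (fun u => chkE tab 6 u) = true := by decide +kernel

theorem e6_31 : allRange 139384 4292 (fun u => chkE tab 6 u) = true := by decide +kernel

theorem e6_32 : allRange 143676 5540 (fun u => chkE tab 6 u) = true := by decide +kernel

theorem e6_33 : allRange 149216 4746 (fun u => chkE tab 6 u) = true := by decide +kernel


end Cfsg.Agent.Helper9.TCData.X1692
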