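import Cfsg.Agent.Lib.Helper9.TCData.X1692.Main

set_option autoImplicit false
set_option maxRecDepth 1000000

namespace Cfsg.Agent.Helper9.TCData.X1692
open Cfsg.Agent.Helper9.TC2

theorem e6_34 : allRange 153962 5119 (fun u => chkE tab 6 u) = true := by decide +kernel

theorem e6_35 : allRange 159081 5118 (fun u => chkE tab 6 u) = true := by decide +kernel

theorem e6_36 : allRange 164199 7260 (fun u => chkE tab 6 u) = true := by decide +kernel

theorem e6_37 : allRange 171459 8163 (fun u => chkE tab 6 u) = true := by decide +kernel

theorem e6_38 : allRange 179622 6790 (fun u => chkE tab 6 u) = true := by decide +kernel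

theorem e6_39 : allRange 186412 5437 (fun u => chkE tab 6 u) = true := by decide +kernel

theorem e6_40 : allRange 191849 2988 (fun u => chkE tab 6 u) = true := by decide +kernel

theorem e6_41 : allRange 194837 2412 (fun u => chkE tab 6 u) = true := by decide +kernel

theorem e6_42 : allRange 197249 2575 (fun u => chkE tab 6 u) = true := by decide +kernel

theorem e6_43 : allRange 199824 2504 (fun u => chkE tab 6 u) = true := by decide +kernel


end Cfsg.Agent.Helper9.TCData.X1692
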