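import Cfsg.Agent.Lib.Helper9.TCData.X1692.Main

set_option autoImplicit false
set_option maxRecDepth 1000000

namespace Cfsg.Agent.Helper9.TCData.X1692
open Cfsg.Agent.Helper9.TC2

theorem e7_29 : allRange 95242 4194 (fun u => chkE tab 7 u) = true := by decide +kernel

theorem e7_30 : allRange 99436 4137 (fun u => chkE tab 7 u) = true := by decide +kernel

theorem e7_31 : allRange 103573 4566 (fun u => chkE tab 7 u) = true := by decide +kernel

theorem e7_32 : allRange 108139 3254 (fun u => chkE tab 7 u) = true := by decide +kernel

theorem e7_33 : allRange 111393 3969 (fun u => chkE tab 7 u) = true := by decide +kernel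

theorem e7_34 : allRange 115362 3630 (fun u => chkE tab 7 u) = true := by decide +kernel

theorem e7_35 : allRange 118992 4413 (fun u => chkE tab 7 u) = true := by decide +kernel

theorem e7_36 : allRange 123405 4135 (fun u => chkE tab 7 u) = true := by decide +kernel

theorem e7_37 : allRange 127540 3779 (fun u => chkE tab 7 u) = true := by decide +kernel

theorem e7_38 : allRange 131319 3135 (fun u => chkE tab 7 u) = true := by decide +kernel


end Cfsg.Agent.Helper9.TCData.X1692
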