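import Cfsg.Agent.Lib.Helper9.TCData.X1692.Main

set_option autoImplicit false
set_option maxRecDepth 1000000

namespace Cfsg.Agent.Helper9.TCData.X1692
open Cfsg.Agent.Helper9.TC2

theorem l_0 : allRange 0 4259 (fun u => chkL tab u) = true := by decide +kernel

theorem l_1 : allRange 4259 3683 (fun u => chkL tab u) = true := by decide +kernel

theorem l_2 : allRange 7942 2974 (fun u => chkL tab u) = true := by decide +kernel

theorem l_3 : allRange 10916 5076 (fun u => chkL tab u) = true := by decide +kernel

theorem l_4 : allRange 15992 3252 (fun u => chkL tab u) = true := by decide +kernel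

theorem l_5 : allRange 19244 2848 (fun u => chkL tab u) = true := by decide +kernel

theorem l_6 : allRange 22092 3225 (fun u => chkL tab u) = true := by decide +kernel

theorem l_7 : allRange 25317 5283 (fun u => chkL tab u) = true := by decide +kernel

theorem l_8 : allRange 30600 4445 (fun u => chkL tab u) = true := by decide +kernel

theorem l_9 : allRange 35045 3026 (fun u => chkL tab u) = true := by decide +kernel


end Cfsg.Agent.Helper9.TCData.X1692
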