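import Cfsg.Agent.Lib.Helper9.TCData.X1692.Main

set_option autoImplicit false
set_option maxRecDepth 1000000

namespace Cfsg.Agent.Helper9.TCData.X1692
open Cfsg.Agent.Helper9.TC2

theorem l_20 : allRange 70012 2608 (fun u => chkL tab u) = true := by decide +kernel

theorem l_21 : allRange 72620 2482 (fun u => chkL tab u) = true := by decide +kernel

theorem l_22 : allRange 75102 2343 (fun u => chkL tab u) = true := by decide +kernel

theorem l_23 : allRange 77445 2232 (fun u => chkL tab u) = true := by decide +kernel

theorem l_24 : allRange 79677 2167 (fun u => chkL tab u) = true := by decide +kernel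

theorem l_25 : allRange 81844 1852 (fun u => chkL tab u) = true := by decide +kernel

theorem l_26 : allRange 83696 2499 (fun u => chkL tab u) = true := by decide +kernel

theorem l_27 : allRange 86195 2199 (fun u => chkL tab u) = true := by decide +kernel

theorem l_28 : allRange 88394 2681 (fun u => chkL tab u) = true := by decide +kernel

theorem l_29 : allRange 91075 2514 (fun u => chkL tab u) = true := by decide +kernel


end Cfsg.Agent.Helper9.TCData.X1692
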