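import Cfsg.Agent.Lib.Helper9.TCData.X1692.Main

set_option autoImplicit false
set_option maxRecDepth 1000000

namespace Cfsg.Agent.Helper9.TCData.X1692
open Cfsg.Agent.Helper9.TC2

theorem e0_60 : allRange 196354 1575 (fun u => chkE tab 0 u) = true := by decide +kernel

theorem e0_61 : allRange 197929 1586 (fun u => chkE tab 0 u) = true := by decide +kernel

theorem e0_62 : allRange 199515 1632 (fun u => chkE tab 0 u) = true := by decide +kernel

theorem e0_63 : allRange 201147 1520 (fun u => chkE tab 0 u) = true := by decide +kernel

theorem e0_64 : allRange 202667 1542 (fun u => chkE tab 0 u) = true := by decide +kernel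

theorem e0_65 : allRange 204209 1655 (fun u => chkE tab 0 u) = true := by decide +kernel

theorem e0_66 : allRange 205864 1612 (fun u => chkE tab 0 u) = true := by decide +kernel

theorem e0_67 : allRange 207476 1602 (fun u => chkE tab 0 u) = true := by decide +kernel

theorem e0_68 : allRange 209078 1669 (fun u => chkE tab 0 u) = true := by decide +kernel

theorem e0_69 : allRange 210747 1578 (fun u => chkE tab 0 u) = true := by decide +kernel


end Cfsg.Agent.Helper9.TCData.X1692
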