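import Cfsg.Agent.Lib.Helper9.TCData.X1692.Main

set_option autoImplicit false
set_option maxRecDepth 1000000

namespace Cfsg.Agent.Helper9.TCData.X1692
open Cfsg.Agent.Helper9.TC2

theorem l_50 : allRange 144484 1943 (fun u => chkL tab u) = true := by decide +kernel

theorem l_51 : allRange 146427 2182 (fun u => chkL tab u) = true := by decide +kernel

theorem l_52 : allRange 148609 2023 (fun u => chkL tab u) = true := by decide +kernel

theorem l_53 : allRange 150632 1972 (fun u => chkL tab u) = true := by decide +kernel

theorem l_54 : allRange 152604 1753 (fun u => chkL tab u) = true := by decide +kernel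

theorem l_55 : allRange 154357 2075 (fun u => chkL tab u) = true := by decide +kernel

theorem l_56 : allRange 156432 2077 (fun u => chkL tab u) = true := by decide +kernel

theorem l_57 : allRange 158509 2106 (fun u => chkL tab u) = true := by decide +kernel

theorem l_58 : allRange 160615 1908 (fun u => chkL tab u) = true := by decide +kernel

theorem l_59 : allRange 162523 1965 (fun u => chkL tab u) = true := by decide +kernel


end Cfsg.Agent.Helper9.TCData.X1692
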