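import Cfsg.Agent.Lib.Helper9.TCData.X1692.Main

set_option autoImplicit false
set_option maxRecDepth 1000000

namespace Cfsg.Agent.Helper9.TCData.X1692
open Cfsg.Agent.Helper9.TC2

theorem l_60 : allRange 164488 1679 (fun u => chkL tab u) = true := by decide +kernel

theorem l_61 : allRange 166167 1866 (fun u => chkL tab u) = true := by decide +kernel

theorem l_62 : allRange 168033 1645 (fun u => chkL tab u) = true := by decide +kernel

theorem l_63 : allRange 169678 1742 (fun u => chkL tab u) = true := by decide +kernel

theorem l_64 : allRange 171420 1589 (fun u => chkL tab u) = true := by decide +kernel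

theorem l_65 : allRange 173009 1690 (fun u => chkL tab u) = true := by decide +kernel

theorem l_66 : allRange 174699 1635 (fun u => chkL tab u) = true := by decide +kernel

theorem l_67 : allRange 176334 1850 (fun u => chkL tab u) = true := by decide +kernel

theorem l_68 : allRange 178184 1679 (fun u => chkL tab u) = true := by decide +kernel

theorem l_69 : allRange 179863 1859 (fun u => chkL tab u) = true := by decide +kernel


end Cfsg.Agent.Helper9.TCData.X1692
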