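import Cfsg.Agent.Lib.Helper9.TCData.X1692.Main

set_option autoImplicit false
set_option maxRecDepth 1000000

namespace Cfsg.Agent.Helper9.TCData.X1692
open Cfsg.Agent.Helper9.TC2

theorem l_70 : allRange 181722 1685 (fun u => chkL tab u) = true := by decide +kernel

theorem l_71 : allRange 183407 1713 (fun u => chkL tab u) = true := by decide +kernel

theorem l_72 : allRange 185120 1885 (fun u => chkL tab u) = true := by decide +kernel

theorem l_73 : allRange 187005 1794 (fun u => chkL tab u) = true := by decide +kernel

theorem l_74 : allRange 188799 2081 (fun u => chkL tab u) = true := by decide +kernel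

theorem l_75 : allRange 190880 2505 (fun u => chkL tab u) = true := by decide +kernel

theorem l_76 : allRange 193385 20997 (fun u => chkL tab u) = true := by decide +kernel

theorem l_77 : allRange 214382 17212 (fun u => chkL tab u) = true := by decide +kernel


end Cfsg.Agent.Helper9.TCData.X1692
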