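import Cfsg.Agent.Lib.Helper9.TCData.X1692.Main

set_option autoImplicit false
set_option maxRecDepth 1000000

namespace Cfsg.Agent.Helper9.TCData.X1692
open Cfsg.Agent.Helper9.TC2

theorem f_70 : allRange 21560 308 (fun u => chkFin tab u) = true := by decide +kernel

theorem f_71 : allRange 21868 308 (fun u => chkFin tab u) = true := by decide +kernel

theorem f_72 : allRange 22176 308 (fun u => chkFin tab u) = true := by decide +kernel

theorem f_73 : allRange 22484 308 (fun u => chkFin tab u) = true := by decide +kernel

theorem f_74 : allRange 22792 308 (fun u => chkFin tab u) = true := by decide +kernel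

theorem f_75 : allRange 23100 308 (fun u => chkFin tab u) = true := by decide +kernel

theorem f_76 : allRange 23408 308 (fun u => chkFin tab u) = true := by decide +kernel

theorem f_77 : allRange 23716 308 (fun u => chkFin tab u) = true := by decide +kernel

theorem f_78 : allRange 24024 308 (fun u => chkFin tab u) = true := by decide +kernel

theorem f_79 : allRange 24332 308 (fun u => chkFin tab u) = true := by decide +kernel


end Cfsg.Agent.Helper9.TCData.X1692
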