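import Cfsg.Agent.Lib.Helper9.TCData.X1692.Main

set_option autoImplicit false
set_option maxRecDepth 1000000

namespace Cfsg.Agent.Helper9.TCData.X1692
open Cfsg.Agent.Helper9.TC2

theorem f_140 : allRange 43120 308 (fun u => chkFin tab u) = true := by decide +kernel

theorem f_141 : allRange 43428 308 (fun u => chkFin tab u) = true := by decide +kernel

theorem f_142 : allRange 43736 308 (fun u => chkFin tab u) = true := by decide +kernel

theorem f_143 : allRange 44044 308 (fun u => chkFin tab u) = true := by decide +kernel

theorem f_144 : allRange 44352 308 (fun u => chkFin tab u) = true := by decide +kernel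

theorem f_145 : allRange 44660 308 (fun u => chkFin tab u) = true := by decide +kernel

theorem f_146 : allRange 44968 308 (fun u => chkFin tab u) = true := by decide +kernel

theorem f_147 : allRange 45276 308 (fun u => chkFin tab u) = true := by decide +kernel

theorem f_148 : allRange 45584 308 (fun u => chkFin tab u) = true := by decide +kernel

theorem f_149 : allRange 45892 308 (fun u => chkFin tab u) = true := by decide +kernel


end Cfsg.Agent.Helper9.TCData.X1692
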