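import Cfsg.Agent.Lib.Helper9.TCData.X1692.Main

set_option autoImplicit false
set_option maxRecDepth 1000000

namespace Cfsg.Agent.Helper9.TCData.X1692
open Cfsg.Agent.Helper9.TC2

theorem f_150 : allRange 46200 308 (fun u => chkFin tab u) = true := by decide +kernel

theorem f_151 : allRange 46508 308 (fun u => chkFin tab u) = true := by decide +kernel

theorem f_152 : allRange 46816 308 (fun u => chkFin tab u) = true := by decide +kernel

theorem f_153 : allRange 47124 308 (fun u => chkFin tab u) = true := by decide +kernel

theorem f_154 : allRange 47432 308 (fun u => chkFin tab u) = true := by decide +kernel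

theorem f_155 : allRange 47740 308 (fun u => chkFin tab u) = true := by decide +kernel

theorem f_156 : allRange 48048 308 (fun u => chkFin tab u) = true := by decide +kernel

theorem f_157 : allRange 48356 308 (fun u => chkFin tab u) = true := by decide +kernel

theorem f_158 : allRange 48664 308 (fun u => chkFin tab u) = true := by decide +kernel

theorem f_159 : allRange 48972 308 (fun u => chkFin tab u) = true := by decide +kernel


end Cfsg.Agent.Helper9.TCData.X1692
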