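import Cfsg.Agent.Lib.Helper9.TCData.X1692.Main

set_option autoImplicit false
set_option maxRecDepth 1000000

namespace Cfsg.Agent.Helper9.TCData.X1692
open Cfsg.Agent.Helper9.TC2

theorem e0_80 : allRange 231478 116 (fun u => chkE tab 0 u) = true := by decide +kernel

theorem e1_0 : allRange 0 3144 (fun u => chkE tab 1 u) = true := by decide +kernel

theorem e1_1 : allRange 3144 3120 (fun u => chkE tab 1 u) = true := by decide +kernel

theorem e1_2 : allRange 6264 2929 (fun u => chkE tab 1 u) = true := by decide +kernel

theorem e1_3 : allRange 9193 2972 (fun u => chkE tab 1 u) = true := by decide +kernel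

theorem e1_4 : allRange 12165 2808 (fun u => chkE tab 1 u) = true := by decide +kernel

theorem e1_5 : allRange 14973 3127 (fun u => chkE tab 1 u) = true := by decide +kernel

theorem e1_6 : allRange 18100 3069 (fun u => chkE tab 1 u) = true := by decide +kernel

theorem e1_7 : allRange 21169 3269 (fun u => chkE tab 1 u) = true := by decide +kernel

theorem e1_8 : allRange 24438 2437 (fun u => chkE tab 1 u) = true := by decide +kernel


end Cfsg.Agent.Helper9.TCData.X1692
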