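import Cfsg.Agent.Lib.Helper9.TCData.X1692.Main

set_option autoImplicit false
set_option maxRecDepth 1000000

namespace Cfsg.Agent.Helper9.TCData.X1692
open Cfsg.Agent.Helper9.TC2

theorem f_160 : allRange 49280 308 (fun u => chkFin tab u) = true := by decide +kernel

theorem f_161 : allRange 49588 308 (fun u => chkFin tab u) = true := by decide +kernel

theorem f_162 : allRange 49896 308 (fun u => chkFin tab u) = true := by decide +kernel

theorem f_163 : allRange 50204 308 (fun u => chkFin tab u) = true := by decide +kernel

theorem f_164 : allRange 50512 308 (fun u => chkFin tab u) = true := by decide +kernel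

theorem f_165 : allRange 50820 308 (fun u => chkFin tab u) = true := by decide +kernel

theorem f_166 : allRange 51128 308 (fun u => chkFin tab u) = true := by decide +kernel

theorem f_167 : allRange 51436 308 (fun u => chkFin tab u) = true := by decide +kernel

theorem f_168 : allRange 51744 308 (fun u => chkFin tab u) = true := by decide +kernel

theorem f_169 : allRange 52052 308 (fun u => chkFin tab u) = true := by decide +kernel


end Cfsg.Agent.Helper9.TCData.X1692
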