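import Cfsg.Agent.Lib.Helper9.TCData.X1692.Main

set_option autoImplicit false
set_option maxRecDepth 1000000

namespace Cfsg.Agent.Helper9.TCData.X1692
open Cfsg.Agent.Helper9.TC2

theorem f_190 : allRange 58520 308 (fun u => chkFin tab u) = true := by decide +kernel

theorem f_191 : allRange 58828 308 (fun u => chkFin tab u) = true := by decide +kernel

theorem f_192 : allRange 59136 308 (fun u => chkFin tab u) = true := by decide +kernel

theorem f_193 : allRange 59444 308 (fun u => chkFin tab u) = true := by decide +kernel

theorem f_194 : allRange 59752 308 (fun u => chkFin tab u) = true := by decide +kernel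

theorem f_195 : allRange 60060 308 (fun u => chkFin tab u) = true := by decide +kernel

theorem f_196 : allRange 60368 308 (fun u => chkFin tab u) = true := by decide +kernel

theorem f_197 : allRange 60676 308 (fun u => chkFin tab u) = true := by decide +kernel

theorem f_198 : allRange 60984 308 (fun u => chkFin tab u) = true := by decide +kernel

theorem f_199 : allRange 61292 308 (fun u => chkFin tab u) = true := by decide +kernel


end Cfsg.Agent.Helper9.TCData.X1692
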