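import Cfsg.Agent.Lib.Helper9.TCData.X1692.Main

set_option autoImplicit false
set_option maxRecDepth 1000000

namespace Cfsg.Agent.Helper9.TCData.X1692
open Cfsg.Agent.Helper9.TC2

theorem f_230 : allRange 70840 308 (fun u => chkFin tab u) = true := by decide +kernel

theorem f_231 : allRange 71148 308 (fun u => chkFin tab u) = true := by decide +kernel

theorem f_232 : allRange 71456 308 (fun u => chkFin tab u) = true := by decide +kernel

theorem f_233 : allRange 71764 308 (fun u => chkFin tab u) = true := by decide +kernel

theorem f_234 : allRange 72072 308 (fun u => chkFin tab u) = true := by decide +kernel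

theorem f_235 : allRange 72380 308 (fun u => chkFin tab u) = true := by decide +kernel

theorem f_236 : allRange 72688 308 (fun u => chkFin tab u) = true := by decide +kernel

theorem f_237 : allRange 72996 308 (fun u => chkFin tab u) = true := by decide +kernel

theorem f_238 : allRange 73304 308 (fun u => chkFin tab u) = true := by decide +kernel

theorem f_239 : allRange 73612 308 (fun u => chkFin tab u) = true := by decide +kernel


end Cfsg.Agent.Helper9.TCData.X1692
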