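import Cfsg.Agent.Lib.Helper9.TCData.X1692.Main

set_option autoImplicit false
set_option maxRecDepth 1000000

namespace Cfsg.Agent.Helper9.TCData.X1692
open Cfsg.Agent.Helper9.TC2

theorem f_240 : allRange 73920 308 (fun u => chkFin tab u) = true := by decide +kernel

theorem f_241 : allRange 74228 308 (fun u => chkFin tab u) = true := by decide +kernel

theorem f_242 : allRange 74536 308 (fun u => chkFin tab u) = true := by decide +kernel

theorem f_243 : allRange 74844 308 (fun u => chkFin tab u) = true := by decide +kernel

theorem f_244 : allRange 75152 308 (fun u => chkFin tab u) = true := by decide +kernel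

theorem f_245 : allRange 75460 308 (fun u => chkFin tab u) = true := by decide +kernel

theorem f_246 : allRange 75768 308 (fun u => chkFin tab u) = true := by decide +kernel

theorem f_247 : allRange 76076 308 (fun u => chkFin tab u) = true := by decide +kernel

theorem f_248 : allRange 76384 308 (fun u => chkFin tab u) = true := by decide +kernel

theorem f_249 : allRange 76692 308 (fun u => chkFin tab u) = true := by decide +kernel


end Cfsg.Agent.Helper9.TCData.X1692
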