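import Cfsg.Agent.Lib.Helper9.TCData.X1692.Main

set_option autoImplicit false
set_option maxRecDepth 1000000

namespace Cfsg.Agent.Helper9.TCData.X1692
open Cfsg.Agent.Helper9.TC2

theorem f_250 : allRange 77000 308 (fun u => chkFin tab u) = true := by decide +kernel

theorem f_251 : allRange 77308 308 (fun u => chkFin tab u) = true := by decide +kernel

theorem f_252 : allRange 77616 308 (fun u => chkFin tab u) = true := by decide +kernel

theorem f_253 : allRange 77924 308 (fun u => chkFin tab u) = true := by decide +kernel

theorem f_254 : allRange 78232 308 (fun u => chkFin tab u) = true := by decide +kernel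

theorem f_255 : allRange 78540 308 (fun u => chkFin tab u) = true := by decide +kernel

theorem f_256 : allRange 78848 308 (fun u => chkFin tab u) = true := by decide +kernel

theorem f_257 : allRange 79156 308 (fun u => chkFin tab u) = true := by decide +kernel

theorem f_258 : allRange 79464 308 (fun u => chkFin tab u) = true := by decide +kernel

theorem f_259 : allRange 79772 308 (fun u => chkFin tab u) = true := by decide +kernel


end Cfsg.Agent.Helper9.TCData.X1692
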