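import Cfsg.Agent.Lib.Helper9.TCData.X1692.Main

set_option autoImplicit false
set_option maxRecDepth 1000000

namespace Cfsg.Agent.Helper9.TCData.X1692
open Cfsg.Agent.Helper9.TC2

theorem e1_9 : allRange 26875 2817 (fun u => chkE tab 1 u) = true := by decide +kernel

theorem e1_10 : allRange 29692 2873 (fun u => chkE tab 1 u) = true := by decide +kernel

theorem e1_11 : allRange 32565 2802 (fun u => chkE tab 1 u) = true := by decide +kernel

theorem e1_12 : allRange 35367 2936 (fun u => chkE tab 1 u) = true := by decide +kernel

theorem e1_13 : allRange 38303 3234 (fun u => chkE tab 1 u) = true := by decide +kernel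

theorem e1_14 : allRange 41537 2801 (fun u => chkE tab 1 u) = true := by decide +kernel

theorem e1_15 : allRange 44338 2707 (fun u => chkE tab 1 u) = true := by decide +kernel

theorem e1_16 : allRange 47045 2607 (fun u => chkE tab 1 u) = true := by decide +kernel

theorem e1_17 : allRange 49652 2725 (fun u => chkE tab 1 u) = true := by decide +kernel

theorem e1_18 : allRange 52377 2734 (fun u => chkE tab 1 u) = true := by decide +kernel


end Cfsg.Agent.Helper9.TCData.X1692
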