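import Cfsg.Agent.Lib.Helper9.TCData.X1692.Main

set_option autoImplicit false
set_option maxRecDepth 1000000

namespace Cfsg.Agent.Helper9.TCData.X1692
open Cfsg.Agent.Helper9.TC2

theorem f_260 : allRange 80080 308 (fun u => chkFin tab u) = true := by decide +kernel

theorem f_261 : allRange 80388 308 (fun u => chkFin tab u) = true := by decide +kernel

theorem f_262 : allRange 80696 308 (fun u => chkFin tab u) = true := by decide +kernel

theorem f_263 : allRange 81004 308 (fun u => chkFin tab u) = true := by decide +kernel

theorem f_264 : allRange 81312 308 (fun u => chkFin tab u) = true := by decide +kernel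

theorem f_265 : allRange 81620 308 (fun u => chkFin tab u) = true := by decide +kernel

theorem f_266 : allRange 81928 308 (fun u => chkFin tab u) = true := by decide +kernel

theorem f_267 : allRange 82236 308 (fun u => chkFin tab u) = true := by decide +kernel

theorem f_268 : allRange 82544 308 (fun u => chkFin tab u) = true := by decide +kernel

theorem f_269 : allRange 82852 308 (fun u => chkFin tab u) = true := by decide +kernel


end Cfsg.Agent.Helper9.TCData.X1692
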