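import Cfsg.Agent.Lib.Helper9.TCData.X1692.Main

set_option autoImplicit false
set_option maxRecDepth 1000000

namespace Cfsg.Agent.Helper9.TCData.X1692
open Cfsg.Agent.Helper9.TC2

theorem f_280 : allRange 86240 308 (fun u => chkFin tab u) = true := by decide +kernel

theorem f_281 : allRange 86548 308 (fun u => chkFin tab u) = true := by decide +kernel

theorem f_282 : allRange 86856 308 (fun u => chkFin tab u) = true := by decide +kernel

theorem f_283 : allRange 87164 308 (fun u => chkFin tab u) = true := by decide +kernel

theorem f_284 : allRange 87472 308 (fun u => chkFin tab u) = true := by decide +kernel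

theorem f_285 : allRange 87780 308 (fun u => chkFin tab u) = true := by decide +kernel

theorem f_286 : allRange 88088 308 (fun u => chkFin tab u) = true := by decide +kernel

theorem f_287 : allRange 88396 308 (fun u => chkFin tab u) = true := by decide +kernel

theorem f_288 : allRange 88704 308 (fun u => chkFin tab u) = true := by decide +kernel

theorem f_289 : allRange 89012 308 (fun u => chkFin tab u) = true := by decide +kernel


end Cfsg.Agent.Helper9.TCData.X1692
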