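import Cfsg.Agent.Lib.Helper9.TCData.X1692.S0
import Cfsg.Agent.Lib.Helper9.TCData.X1692.S1
import Cfsg.Agent.Lib.Helper9.TCData.X1692.S2
import Cfsg.Agent.Lib.Helper9.TCData.X1692.S3
import Cfsg.Agent.Lib.Helper9.TCData.X1692.S4
import Cfsg.Agent.Lib.Helper9.TCData.X1692.S5
import Cfsg.Agent.Lib.Helper9.TCData.X1692.S6
import Cfsg.Agent.Lib.Helper9.TCData.X1692.S7
import Cfsg.Agent.Lib.Helper9.TCData.X1692.S8
import Cfsg.Agent.Lib.Helper9.TCData.X1692.S9
import Cfsg.Agent.Lib.Helper9.TCData.X1692.S10
import Cfsg.Agent.Lib.Helper9.TCData.X1692.S11
import Cfsg.Agent.Lib.Helper9.TCData.X1692.S12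
import Cfsg.Agent.Lib.Helper9.TCData.X1692.S13
import Cfsg.Agent.Lib.Helper9.TCData.X1692.S14
import Cfsg.Agent.Lib.Helper9.TCData.X1692.S15
import Cfsg.Agent.Lib.Helper9.TCData.X1692.S16
import Cfsg.Agent.Lib.Helper9.TCData.X1692.S17
import Cfsg.Agent.Lib.Helper9.TCData.X1692.S18
import Cfsg.Agent.Lib.Helper9.TCData.X1692.S19
import Cfsg.Agent.Lib.Helper9.TCData.X1692.S20
import Cfsg.Agent.Lib.Helper9.TCData.X1692.S21
import Cfsg.Agent.Lib.Helper9.TCData.X1692.S22
import Cfsg.Agent.Lib.Helper9.TCData.X1692.S23
import Cfsg.Agent.Lib.Helper9.TCData.X1692.S24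
import Cfsg.Agent.Lib.Helper9.TCData.X1692.S25
import Cfsg.Agent.Lib.Helper9.TCData.X1692.S26
import Cfsg.Agent.Lib.Helper9.TCData.X1692.S27
import Cfsg.Agent.Lib.Helper9.TCData.X1692.S28
import Cfsg.Agent.Lib.Helper9.TCData.X1692.S29
import Cfsg.Agent.Lib.Helper9.TCData.X1692.S30
import Cfsg.Agent.Lib.Helper9.TCData.X1692.S31
import Cfsg.Agent.Lib.Helper9.TCData.X1692.S32
import Cfsg.Agent.Lib.Helper9.TCData.X1692.S33
import Cfsg.Agent.Lib.Helper9.TCData.X1692.S34
import Cfsg.Agent.Lib.Helper9.TCData.X1692.S35
import Cfsg.Agent.Lib.Helper9.TCData.X1692.S36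
import Cfsg.Agent.Lib.Helper9.TCData.X1692.S37
import Cfsg.Agent.Lib.Helper9.TCData.X1692.S38
import Cfsg.Agent.Lib.Helper9.TCData.X1692.S39
import Cfsg.Agent.Lib.Helper9.TCData.X1692.S40
import Cfsg.Agent.Lib.Helper9.TCData.X1692.S41
import Cfsg.Agent.Lib.Helper9.TCData.X1692.S42
import Cfsg.Agent.Lib.Helper9.TCData.X1692.S43
import Cfsg.Agent.Lib.Helper9.TCData.X1692.S44
import Cfsg.Agent.Lib.Helper9.TCData.X1692.S45
import Cfsg.Agent.Lib.Helper9.TCData.X1692.S46
import Cfsg.Agent.Lib.Helper9.TCData.X1692.S47
import Cfsg.Agent.Lib.Helper9.TCData.X1692.S48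
import Cfsg.Agent.Lib.Helper9.TCData.X1692.S49
import Cfsg.Agent.Lib.Helper9.TCData.X1692.S50
import Cfsg.Agent.Lib.Helper9.TCData.X1692.S51
import Cfsg.Agent.Lib.Helper9.TCData.X1692.S52
import Cfsg.Agent.Lib.Helper9.TCData.X1692.S53
import Cfsg.Agent.Lib.Helper9.TCData.X1692.S54
import Cfsg.Agent.Lib.Helper9.TCData.X1692.S55
import Cfsg.Agent.Lib.Helper9.TCData.X1692.S56
import Cfsg.Agent.Lib.Helper9.TCData.X1692.S57
import Cfsg.Agent.Lib.Helper9.TCData.X1692.S58
import Cfsg.Agent.Lib.Helper9.TCData.X1692.S59
import Cfsg.Agent.Lib.Helper9.TCData.X1692.S60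
import Cfsg.Agent.Lib.Helper9.TCData.X1692.S61
import Cfsg.Agent.Lib.Helper9.TCData.X1692.S62
import Cfsg.Agent.Lib.Helper9.TCData.X1692.S63
import Cfsg.Agent.Lib.Helper9.TCData.X1692.S64
import Cfsg.Agent.Lib.Helper9.TCData.X1692.S65
import Cfsg.Agent.Lib.Helper9.TCData.X1692.S66
import Cfsg.Agent.Lib.Helper9.TCData.X1692.S67
import Cfsg.Agent.Lib.Helper9.TCData.X1692.S68
import Cfsg.Agent.Lib.Helper9.TCData.X1692.S69
import Cfsg.Agent.Lib.Helper9.TCData.X1692.S70
import Cfsg.Agent.Lib.Helper9.TCData.X1692.S71
import Cfsg.Agent.Lib.Helper9.TCData.X1692.S72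
import Cfsg.Agent.Lib.Helper9.TCData.X1692.S73
import Cfsg.Agent.Lib.Helper9.TCData.X1692.S74
import Cfsg.Agent.Lib.Helper9.TCData.X1692.S75
import Cfsg.Agent.Lib.Helper9.TCData.X1692.S76
import Cfsg.Agent.Lib.Helper9.TCData.X1692.S77
import Cfsg.Agent.Lib.Helper9.TCData.X1692.S78
import Cfsg.Agent.Lib.Helper9.TCData.X1692.S79
import Cfsg.Agent.Lib.Helper9.TCData.X1692.S80
import Cfsg.Agent.Lib.Helper9.TCData.X1692.S81
import Cfsg.Agent.Lib.Helper9.TCData.X1692.S82
import Cfsg.Agent.Lib.Helper9.TCData.X1692.S83
import Cfsg.Agent.Lib.Helper9.TCData.X1692.S84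
import Cfsg.Agent.Lib.Helper9.TCData.X1692.S85
import Cfsg.Agent.Lib.Helper9.TCData.X1692.S86
import Cfsg.Agent.Lib.Helper9.TCData.X1692.S87
import Cfsg.Agent.Lib.Helper9.TCData.X1692.S88
import Cfsg.Agent.Lib.Helper9.TCData.X1692.S89
import Cfsg.Agent.Lib.Helper9.TCData.X1692.S90
import Cfsg.Agent.Lib.Helper9.TCData.X1692.S91
import Cfsg.Agent.Lib.Helper9.TCData.X1692.S92
import Cfsg.Agent.Lib.Helper9.TCData.X1692.S93
import Cfsg.Agent.Lib.Helper9.TCData.X1692.S94
import Cfsg.Agent.Lib.Helper9.TCData.X1692.S95
import Cfsg.Agent.Lib.Helper9.TCData.X1692.S96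
import Cfsg.Agent.Lib.Helper9.TCData.X1692.S97
import Cfsg.Agent.Lib.Helper9.TCData.X1692.S98
import Cfsg.Agent.Lib.Helper9.TCData.X1692.S99
import Cfsg.Agent.Lib.Helper9.TCData.X1692.S100
import Cfsg.Agent.Lib.Helper9.TCData.X1692.S101
import Cfsg.Agent.Lib.Helper9.TCData.X1692.S102
import Cfsg.Agent.Lib.Helper9.TCData.X1692.S103
import Cfsg.Agent.Lib.Helper9.TCData.X1692.S104
import Cfsg.Agent.Lib.Helper9.TCData.X1692.S105
import Cfsg.Agent.Lib.Helper9.TCData.X1692.S106
import Cfsg.Agent.Lib.Helper9.TCData.X1692.S107
import Cfsg.Agent.Lib.Helper9.TCData.X1692.S108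
import Cfsg.Agent.Lib.Helper9.TCData.X1692.S109
import Cfsg.Agent.Lib.Helper9.TCData.X1692.S110
import Cfsg.Agent.Lib.Helper9.TCData.X1692.S111
import Cfsg.Agent.Lib.Helper9.TCData.X1692.S112
import Cfsg.Agent.Lib.Helper9.TCData.X1692.S113
import Cfsg.Agent.Lib.Helper9.TCData.X1692.S114
import Cfsg.Agent.Lib.Helper9.TCData.X1692.S115
import Cfsg.Agent.Lib.Helper9.TCData.X1692.S116
import Cfsg.Agent.Lib.Helper9.TCData.X1692.S117
import Cfsg.Agent.Lib.Helper9.TCData.X1692.S118
import Cfsg.Agent.Lib.Helper9.TCData.X1692.S119
import Cfsg.Agent.Lib.Helper9.TCData.X1692.S120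
import Cfsg.Agent.Lib.Helper9.TCData.X1692.S121
import Cfsg.Agent.Lib.Helper9.TCData.X1692.S122
import Cfsg.Agent.Lib.Helper9.TCData.X1692.S123
import Cfsg.Agent.Lib.Helper9.TCData.X1692.S124
import Cfsg.Agent.Lib.Helper9.TCData.X1692.S125
import Cfsg.Agent.Lib.Helper9.TCData.X1692.S126
import Cfsg.Agent.Lib.Helper9.TCData.X1692.S127
import Cfsg.Agent.Lib.Helper9.TCData.X1692.S128
import Cfsg.Agent.Lib.Helper9.TCData.X1692.S129
import Cfsg.Agent.Lib.Helper9.TCData.X1692.S130
import Cfsg.Agent.Lib.Helper9.TCData.X1692.S131
import Cfsg.Agent.Lib.Helper9.TCData.X1692.S132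
import Cfsg.Agent.Lib.Helper9.TCData.X1692.S133
import Cfsg.Agent.Lib.Helper9.TCData.X1692.S134
import Cfsg.Agent.Lib.Helper9.TCData.X1692.S135
import Cfsg.Agent.Lib.Helper9.TCData.X1692.S136
import Cfsg.Agent.Lib.Helper9.TCData.X1692.S137
import Cfsg.Agent.Lib.Helper9.TCData.X1692.S138
import Cfsg.Agent.Lib.Helper9.TCData.X1692.S139
import Cfsg.Agent.Lib.Helper9.TCData.X1692.S140
import Cfsg.Agent.Lib.Helper9.TCData.X1692.S141
import Cfsg.Agent.Lib.Helper9.TCData.X1692.S142
import Cfsg.Agent.Lib.Helper9.TCData.X1692.S143
import Cfsg.Agent.Lib.Helper9.TCData.X1692.S144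
import Cfsg.Agent.Lib.Helper9.TCData.X1692.S145
import Cfsg.Agent.Lib.Helper9.TCData.X1692.S146
import Cfsg.Agent.Lib.Helper9.TCData.X1692.S147
import Cfsg.Agent.Lib.Helper9.TCData.X1692.S148
import Cfsg.Agent.Lib.Helper9.TCData.X1692.S149
import Cfsg.Agent.Lib.Helper9.TCData.X1692.S150
import Cfsg.Agent.Lib.Helper9.TCData.X1692.S151
import Cfsg.Agent.Lib.Helper9.TCData.X1692.S152
import Cfsg.Agent.Lib.Helper9.TCData.X1692.S153
import Cfsg.Agent.Lib.Helper9.TCData.X1692.S154
import Cfsg.Agent.Lib.Helper9.TCData.X1692.S155
import Cfsg.Agent.Lib.Helper9.TCData.X1692.S156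
import Cfsg.Agent.Lib.Helper9.TCData.X1692.S157
import Cfsg.Agent.Lib.Helper9.TCData.X1692.S158
import Cfsg.Agent.Lib.Helper9.TCData.X1692.S159
import Cfsg.Agent.Lib.Helper9.TCData.X1692.S160
import Cfsg.Agent.Lib.Helper9.TCData.X1692.S161
import Cfsg.Agent.Lib.Helper9.TCData.X1692.S162
import Cfsg.Agent.Lib.Helper9.TCData.X1692.S163
import Cfsg.Agent.Lib.Helper9.TCData.X1692.S164
import Cfsg.Agent.Lib.Helper9.TCData.X1692.S165
import Cfsg.Agent.Lib.Helper9.TCData.X1692.S166
import Cfsg.Agent.Lib.Helper9.TCData.X1692.S167
import Cfsg.Agent.Lib.Helper9.TCData.X1692.S168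
import Cfsg.Agent.Lib.Helper9.TCData.X1692.S169
import Cfsg.Agent.Lib.Helper9.TCData.X1692.S170
import Cfsg.Agent.Lib.Helper9.TCData.X1692.S171
import Cfsg.Agent.Lib.Helper9.TCData.X1692.S172
import Cfsg.Agent.Lib.Helper9.TCData.X1692.S173
import Cfsg.Agent.Lib.Helper9.TCData.X1692.S174
import Cfsg.Agent.Lib.Helper9.TCData.X1692.S175
import Cfsg.Agent.Lib.Helper9.TCData.X1692.S176
import Cfsg.Agent.Lib.Helper9.TCData.X1692.S177
import Cfsg.Agent.Lib.Helper9.TCData.X1692.S178
import Cfsg.Agent.Lib.Helper9.TCData.X1692.S179
import Cfsg.Agent.Lib.Helper9.TCData.X1692.S180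
import Cfsg.Agent.Lib.Helper9.TCData.X1692.S181
import Cfsg.Agent.Lib.Helper9.TCData.X1692.S182
import Cfsg.Agent.Lib.Helper9.TCData.X1692.S183
import Cfsg.Agent.Lib.Helper9.TCData.X1692.S184
import Cfsg.Agent.Lib.Helper9.TCData.X1692.S185
import Cfsg.Agent.Lib.Helper9.TCData.X1692.S186
import Cfsg.Agent.Lib.Helper9.TCData.X1692.S187
import Cfsg.Agent.Lib.Helper9.TCData.X1692.S188
import Cfsg.Agent.Lib.Helper9.TCData.X1692.S189
import Cfsg.Agent.Lib.Helper9.TCData.X1692.S190
import Cfsg.Agent.Lib.Helper9.TCData.X1692.S191
import Cfsg.Agent.Lib.Helper9.TCData.X1692.S192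
import Cfsg.Agent.Lib.Helper9.TCData.X1692.S193
import Cfsg.Agent.Lib.Helper9.TCData.X1692.S194
import Cfsg.Agent.Lib.Helper9.TCData.X1692.S195
import Cfsg.Agent.Lib.Helper9.TCData.X1692.S196
import Cfsg.Agent.Lib.Helper9.TCData.X1692.S197
import Cfsg.Agent.Lib.Helper9.TCData.X1692.S198
import Cfsg.Agent.Lib.Helper9.TCData.X1692.S199
import Cfsg.Agent.Lib.Helper9.TCData.X1692.S200
import Cfsg.Agent.Lib.Helper9.TCData.X1692.S201
import Cfsg.Agent.Lib.Helper9.TCData.X1692.S202
import Cfsg.Agent.Lib.Helper9.TCData.X1692.S203
import Cfsg.Agent.Lib.Helper9.TCData.X1692.S204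
import Cfsg.Agent.Lib.Helper9.TCData.X1692.S205
import Cfsg.Agent.Lib.Helper9.TCData.X1692.S206
import Cfsg.Agent.Lib.Helper9.TCData.X1692.S207
import Cfsg.Agent.Lib.Helper9.TCData.X1692.S208
import Cfsg.Agent.Lib.Helper9.TCData.X1692.S209
import Cfsg.Agent.Lib.Helper9.TCData.X1692.S210
import Cfsg.Agent.Lib.Helper9.TCData.X1692.S211
import Cfsg.Agent.Lib.Helper9.TCData.X1692.S212
import Cfsg.Agent.Lib.Helper9.TCData.X1692.S213
import Cfsg.Agent.Lib.Helper9.TCData.X1692.S214
import Cfsg.Agent.Lib.Helper9.TCData.X1692.S215
import Cfsg.Agent.Lib.Helper9.TCData.X1692.S216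
import Cfsg.Agent.Lib.Helper9.TCData.X1692.S217
import Cfsg.Agent.Lib.Helper9.TCData.X1692.S218
import Cfsg.Agent.Lib.Helper9.TCData.X1692.S219
import Cfsg.Agent.Lib.Helper9.TCData.X1692.S220
import Cfsg.Agent.Lib.Helper9.TCData.X1692.S221
import Cfsg.Agent.Lib.Helper9.TCData.X1692.S222
import Cfsg.Agent.Lib.Helper9.TCData.X1692.S223
import Cfsg.Agent.Lib.Helper9.TCData.X1692.S224
import Cfsg.Agent.Lib.Helper9.TCData.X1692.S225
import Cfsg.Agent.Lib.Helper9.TCData.X1692.S226
import Cfsg.Agent.Lib.Helper9.TCData.X1692.S227
import Cfsg.Agent.Lib.Helper9.TCData.X1692.S228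
import Cfsg.Agent.Lib.Helper9.TCData.X1692.S229
import Cfsg.Agent.Lib.Helper9.TCData.X1692.S230
import Cfsg.Agent.Lib.Helper9.TCData.X1692.S231
import Cfsg.Agent.Lib.Helper9.TCData.X1692.S232
import Cfsg.Agent.Lib.Helper9.TCData.X1692.S233
import Cfsg.Agent.Lib.Helper9.TCData.X1692.S234
import Cfsg.Agent.Lib.Helper9.TCData.X1692.S235
import Cfsg.Agent.Lib.Helper9.TCData.X1692.S236
import Cfsg.Agent.Lib.Helper9.TCData.X1692.S237
import Cfsg.Agent.Lib.Helper9.TCData.X1692.S238
import Cfsg.Agent.Lib.Helper9.TCData.X1692.S239
import Cfsg.Agent.Lib.Helper9.TCData.X1692.S240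
import Cfsg.Agent.Lib.Helper9.TCData.X1692.S241
import Cfsg.Agent.Lib.Helper9.TCData.X1692.S242
import Cfsg.Agent.Lib.Helper9.TCData.X1692.S243
import Cfsg.Agent.Lib.Helper9.TCData.X1692.S244
import Cfsg.Agent.Lib.Helper9.TCData.X1692.S245
import Cfsg.Agent.Lib.Helper9.TCData.X1692.S246
import Cfsg.Agent.Lib.Helper9.TCData.X1692.S247
import Cfsg.Agent.Lib.Helper9.TCData.X1692.S248
import Cfsg.Agent.Lib.Helper9.TCData.X1692.S249
import Cfsg.Agent.Lib.Helper9.TCData.X1692.S250
import Cfsg.Agent.Lib.Helper9.TCData.X1692.S251
import Cfsg.Agent.Lib.Helper9.TCData.X1692.S252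
import Cfsg.Agent.Lib.Helper9.TCData.X1692.S253
import Cfsg.Agent.Lib.Helper9.TCData.X1692.S254
import Cfsg.Agent.Lib.Helper9.TCData.X1692.S255
import Cfsg.Agent.Lib.Helper9.TCData.X1692.S256
import Cfsg.Agent.Lib.Helper9.TCData.X1692.S257
import Cfsg.Agent.Lib.Helper9.TCData.X1692.S258
import Cfsg.Agent.Lib.Helper9.TCData.X1692.S259
import Cfsg.Agent.Lib.Helper9.TCData.X1692.S260
import Cfsg.Agent.Lib.Helper9.TCData.X1692.S261
import Cfsg.Agent.Lib.Helper9.TCData.X1692.S262
import Cfsg.Agent.Lib.Helper9.TCData.X1692.S263
import Cfsg.Agent.Lib.Helper9.TCData.X1692.S264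
import Cfsg.Agent.Lib.Helper9.TCData.X1692.S265
import Cfsg.Agent.Lib.Helper9.TCData.X1692.S266
import Cfsg.Agent.Lib.Helper9.TCData.X1692.S267
import Cfsg.Agent.Lib.Helper9.TCData.X1692.S268
import Cfsg.Agent.Lib.Helper9.TCData.X1692.S269
import Cfsg.Agent.Lib.Helper9.TCData.X1692.S270
import Cfsg.Agent.Lib.Helper9.TCData.X1692.S271

set_option autoImplicit false
set_option maxRecDepth 1000000

namespace Cfsg.Agent.Helper9.TCData.X1692
open Cfsg.Agent.Helper9.TC2


theorem hE0 : ∀ u < 231594, chkE tab 0 u = true := by
  have h0 : ∀ u < 0, (fun u => chkE tab 0 u) u = true := range_zero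
  have h1 : ∀ u < 3850, (fun u => chkE tab 0 u) u = true := ext_range (a := 0) (len := 3850) h0 e0_0
  have h2 : ∀ u < 7411, (fun u => chkE tab 0 u) u = true := ext_range (a := 3850) (len := 3561) h1 e0_1
  have h3 : ∀ u < 10775, (fun u => chkE tab 0 u) u = true := ext_range (a := 7411) (len := 3364) h2 e0_2
  have h4 : ∀ u < 13780, (fun u => chkE tab 0 u) u = true := ext_range (a := 10775) (len := 3005) h3 e0_3
  have h5 : ∀ u < 17254, (fun u => chkE tab 0 u) u = true := ext_range (a := 13780) (len := 3474) h4 e0_4
  have h6 : ∀ u < 20542, (fun u => chkE tab 0 u) u = true := ext_range (a := 17254) (len := 3288) h5 e0_5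
  have h7 : ∀ u < 24430, (fun u => chkE tab 0 u) u = true := ext_range (a := 20542) (len := 3888) h6 e0_6
  have h8 : ∀ u < 27017, (fun u => chkE tab 0 u) u = true := ext_range (a := 24430) (len := 2587) h7 e0_7
  have h9 : ∀ u < 30024, (fun u => chkE tab 0 u) u = true := ext_range (a := 27017) (len := 3007) h8 e0_8
  have h10 : ∀ u < 33356, (fun u => chkE tab 0 u) u = true := ext_range (a := 30024) (len := 3332) h9 e0_9
  have h11 : ∀ u < 36584, (fun u => chkE tab 0 u) u = true := ext_range (a := 33356) (len := 3228) h10 e0_10
  have h12 : ∀ u < 40279, (fun u => chkE tab 0 u) u = true := ext_range (a := 36584) (len := 3695) h11 e0_11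
  have h13 : ∀ u < 43492, (fun u => chkE tab 0 u) u = true := ext_range (a := 40279) (len := 3213) h12 e0_12
  have h14 : ∀ u < 46141, (fun u => chkE tab 0 u) u = true := ext_range (a := 43492) (len := 2649) h13 e0_13
  have h15 : ∀ u < 49260, (fun u => chkE tab 0 u) u = true := ext_range (a := 46141) (len := 3119) h14 e0_14
  have h16 : ∀ u < 52233, (fun u => chkE tab 0 u) u = true := ext_range (a := 49260) (len := 2973) h15 e0_15
  have h17 : ∀ u < 55170, (fun u => chkE tab 0 u) u = true := ext_range (a := 52233) (len := 2937) h16 e0_16
  have h18 : ∀ u < 58599, (fun u => chkE tab 0 u) u = true := ext_range (a := 55170) (len := 3429) h17 e0_17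
  have h19 : ∀ u < 61668, (fun u => chkE tab 0 u) u = true := ext_range (a := 58599) (len := 3069) h18 e0_18
  have h20 : ∀ u < 64688, (fun u => chkE tab 0 u) u = true := ext_range (a := 61668) (len := 3020) h19 e0_19
  have h21 : ∀ u < 68555, (fun u => chkE tab 0 u) u = true := ext_range (a := 64688) (len := 3867) h20 e0_20
  have h22 : ∀ u < 71742, (fun u => chkE tab 0 u) u = true := ext_range (a := 68555) (len := 3187) h21 e0_21
  have h23 : ∀ u < 75309, (fun u => chkE tab 0 u) u = true := ext_range (a := 71742) (len := 3567) h22 e0_22
  have h24 : ∀ u < 78477, (fun u => chkE tab 0 u) u = true := ext_range (a := 75309) (len := 3168) h23 e0_23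
  have h25 : ∀ u < 81601, (fun u => chkE tab 0 u) u = true := ext_range (a := 78477) (len := 3124) h24 e0_24
  have h26 : ∀ u < 84252, (fun u => chkE tab 0 u) u = true := ext_range (a := 81601) (len := 2651) h25 e0_25
  have h27 : ∀ u < 87717, (fun u => chkE tab 0 u) u = true := ext_range (a := 84252) (len := 3465) h26 e0_26
  have h28 : ∀ u < 90725, (fun u => chkE tab 0 u) u = true := ext_range (a := 87717) (len := 3008) h27 e0_27
  have h29 : ∀ u < 94212, (fun u => chkE tab 0 u) u = true := ext_range (a := 90725) (len := 3487) h28 e0_28
  have h30 : ∀ u < 97555, (fun u => chkE tab 0 u) u = true := ext_range (a := 94212) (len := 3343) h29 e0_29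
  have h31 : ∀ u < 100907, (fun u => chkE tab 0 u) u = true := ext_range (a := 97555) (len := 3352) h30 e0_30
  have h32 : ∀ u < 104319, (fun u => chkE tab 0 u) u = true := ext_range (a := 100907) (len := 3412) h31 e0_31
  have h33 : ∀ u < 108049, (fun u => chkE tab 0 u) u = true := ext_range (a := 104319) (len := 3730) h32 e0_32
  have h34 : ∀ u < 110520, (fun u => chkE tab 0 u) u = true := ext_range (a := 108049) (len := 2471) h33 e0_33
  have h35 : ∀ u < 113394, (fun u => chkE tab 0 u) u = true := ext_range (a := 110520) (len := 2874) h34 e0_34
  have h36 : ∀ u < 116185, (fun u => chkE tab 0 u) u = true := ext_range (a := 113394) (len := 2791) h35 e0_35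
  have h37 : ∀ u < 119048, (fun u => chkE tab 0 u) u = true := ext_range (a := 116185) (len := 2863) h36 e0_36
  have h38 : ∀ u < 121965, (fun u => chkE tab 0 u) u = true := ext_range (a := 119048) (len := 2917) h37 e0_37
  have h39 : ∀ u < 125236, (fun u => chkE tab 0 u) u = true := ext_range (a := 121965) (len := 3271) h38 e0_38
  have h40 : ∀ u < 128285, (fun u => chkE tab 0 u) u = true := ext_range (a := 125236) (len := 3049) h39 e0_39
  have h41 : ∀ u < 130772, (fun u => chkE tab 0 u) u = true := ext_range (a := 128285) (len := 2487) h40 e0_40
  have h42 : ∀ u < 133428, (fun u => chkE tab 0 u) u = true := ext_range (a := 130772) (len := 2656) h41 e0_41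
  have h43 : ∀ u < 136101, (fun u => chkE tab 0 u) u = true := ext_range (a := 133428) (len := 2673) h42 e0_42
  have h44 : ∀ u < 138752, (fun u => chkE tab 0 u) u = true := ext_range (a := 136101) (len := 2651) h43 e0_43
  have h45 : ∀ u < 141236, (fun u => chkE tab 0 u) u = true := ext_range (a := 138752) (len := 2484) h44 e0_44
  have h46 : ∀ u < 144422, (fun u => chkE tab 0 u) u = true := ext_range (a := 141236) (len := 3186) h45 e0_45
  have h47 : ∀ u < 148339, (fun u => chkE tab 0 u) u = true := ext_range (a := 144422) (len := 3917) h46 e0_46
  have h48 : ∀ u < 151692, (fun u => chkE tab 0 u) u = true := ext_range (a := 148339) (len := 3353) h47 e0_47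
  have h49 : ∀ u < 155094, (fun u => chkE tab 0 u) u = true := ext_range (a := 151692) (len := 3402) h48 e0_48
  have h50 : ∀ u < 158294, (fun u => chkE tab 0 u) u = true := ext_range (a := 155094) (len := 3200) h49 e0_49
  have h51 : ∀ u < 162076, (fun u => chkE tab 0 u) u = true := ext_range (a := 158294) (len := 3782) h50 e0_50
  have h52 : ∀ u < 166002, (fun u => chkE tab 0 u) u = true := ext_range (a := 162076) (len := 3926) h51 e0_51
  have h53 : ∀ u < 170374, (fun u => chkE tab 0 u) u = true := ext_range (a := 166002) (len := 4372) h52 e0_52
  have h54 : ∀ u < 176138, (fun u => chkE tab 0 u) u = true := ext_range (a := 170374) (len := 5764) h53 e0_53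
  have h55 : ∀ u < 180677, (fun u => chkE tab 0 u) u = true := ext_range (a := 176138) (len := 4539) h54 e0_54
  have h56 : ∀ u < 185494, (fun u => chkE tab 0 u) u = true := ext_range (a := 180677) (len := 4817) h55 e0_55
  have h57 : ∀ u < 189686, (fun u => chkE tab 0 u) u = true := ext_range (a := 185494) (len := 4192) h56 e0_56
  have h58 : ∀ u < 193059, (fun u => chkE tab 0 u) u = true := ext_range (a := 189686) (len := 3373) h57 e0_57
  have h59 : ∀ u < 194682, (fun u => chkE tab 0 u) u = true := ext_range (a := 193059) (len := 1623) h58 e0_58
  have h60 : ∀ u < 196354, (fun u => chkE tab 0 u) u = true := ext_range (a := 194682) (len := 1672) h59 e0_59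
  have h61 : ∀ u < 197929, (fun u => chkE tab 0 u) u = true := ext_range (a := 196354) (len := 1575) h60 e0_60
  have h62 : ∀ u < 199515, (fun u => chkE tab 0 u) u = true := ext_range (a := 197929) (len := 1586) h61 e0_61
  have h63 : ∀ u < 201147, (fun u => chkE tab 0 u) u = true := ext_range (a := 199515) (len := 1632) h62 e0_62
  have h64 : ∀ u < 202667, (fun u => chkE tab 0 u) u = true := ext_range (a := 201147) (len := 1520) h63 e0_63
  have h65 : ∀ u < 204209, (fun u => chkE tab 0 u) u = true := ext_range (a := 202667) (len := 1542) h64 e0_64
  have h66 : ∀ u < 205864, (fun u => chkE tab 0 u) u = true := ext_range (a := 204209) (len := 1655) h65 e0_65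
  have h67 : ∀ u < 207476, (fun u => chkE tab 0 u) u = true := ext_range (a := 205864) (len := 1612) h66 e0_66
  have h68 : ∀ u < 209078, (fun u => chkE tab 0 u) u = true := ext_range (a := 207476) (len := 1602) h67 e0_67
  have h69 : ∀ u < 210747, (fun u => chkE tab 0 u) u = true := ext_range (a := 209078) (len := 1669) h68 e0_68
  have h70 : ∀ u < 212325, (fun u => chkE tab 0 u) u = true := ext_range (a := 210747) (len := 1578) h69 e0_69
  have h71 : ∀ u < 214067, (fun u => chkE tab 0 u) u = true := ext_range (a := 212325) (len := 1742) h70 e0_70
  have h72 : ∀ u < 215744, (fun u => chkE tab 0 u) u = true := ext_range (a := 214067) (len := 1677) h71 e0_71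
  have h73 : ∀ u < 217304, (fun u => chkE tab 0 u) u = true := ext_range (a := 215744) (len := 1560) h72 e0_72
  have h74 : ∀ u < 219026, (fun u => chkE tab 0 u) u = true := ext_range (a := 217304) (len := 1722) h73 e0_73
  have h75 : ∀ u < 220967, (fun u => chkE tab 0 u) u = true := ext_range (a := 219026) (len := 1941) h74 e0_74
  have h76 : ∀ u < 222761, (fun u => chkE tab 0 u) u = true := ext_range (a := 220967) (len := 1794) h75 e0_75
  have h77 : ∀ u < 224698, (fun u => chkE tab 0 u) u = true := ext_range (a := 222761) (len := 1937) h76 e0_76
  have h78 : ∀ u < 226642, (fun u => chkE tab 0 u) u = true := ext_range (a := 224698) (len := 1944) h77 e0_77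
  have h79 : ∀ u < 228854, (fun u => chkE tab 0 u) u = true := ext_range (a := 226642) (len := 2212) h78 e0_78
  have h80 : ∀ u < 231478, (fun u => chkE tab 0 u) u = true := ext_range (a := 228854) (len := 2624) h79 e0_79
  have h81 : ∀ u < 231594, (fun u => chkE tab 0 u) u = true := ext_range (a := 231478) (len := 116) h80 e0_80
  exact h81

theorem hE1 : ∀ u < 231594, chkE tab 1 u = true := by
  have h0 : ∀ u < 0, (fun u => chkE tab 1 u) u = true := range_zero
  have h1 : ∀ u < 3144, (fun u => chkE tab 1 u) u = true := ext_range (a := 0) (len := 3144) h0 e1_0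
  have h2 : ∀ u < 6264, (fun u => chkE tab 1 u) u = true := ext_range (a := 3144) (len := 3120) h1 e1_1
  have h3 : ∀ u < 9193, (fun u => chkE tab 1 u) u = true := ext_range (a := 6264) (len := 2929) h2 e1_2
  have h4 : ∀ u < 12165, (fun u => chkE tab 1 u) u = true := ext_range (a := 9193) (len := 2972) h3 e1_3
  have h5 : ∀ u < 14973, (fun u => chkE tab 1 u) u = true := ext_range (a := 12165) (len := 2808) h4 e1_4
  have h6 : ∀ u < 18100, (fun u => chkE tab 1 u) u = true := ext_range (a := 14973) (len := 3127) h5 e1_5
  have h7 : ∀ u < 21169, (fun u => chkE tab 1 u) u = true := ext_range (a := 18100) (len := 3069) h6 e1_6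
  have h8 : ∀ u < 24438, (fun u => chkE tab 1 u) u = true := ext_range (a := 21169) (len := 3269) h7 e1_7
  have h9 : ∀ u < 26875, (fun u => chkE tab 1 u) u = true := ext_range (a := 24438) (len := 2437) h8 e1_8
  have h10 : ∀ u < 29692, (fun u => chkE tab 1 u) u = true := ext_range (a := 26875) (len := 2817) h9 e1_9
  have h11 : ∀ u < 32565, (fun u => chkE tab 1 u) u = true := ext_range (a := 29692) (len := 2873) h10 e1_10
  have h12 : ∀ u < 35367, (fun u => chkE tab 1 u) u = true := ext_range (a := 32565) (len := 2802) h11 e1_11
  have h13 : ∀ u < 38303, (fun u => chkE tab 1 u) u = true := ext_range (a := 35367) (len := 2936) h12 e1_12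
  have h14 : ∀ u < 41537, (fun u => chkE tab 1 u) u = true := ext_range (a := 38303) (len := 3234) h13 e1_13
  have h15 : ∀ u < 44338, (fun u => chkE tab 1 u) u = true := ext_range (a := 41537) (len := 2801) h14 e1_14
  have h16 : ∀ u < 47045, (fun u => chkE tab 1 u) u = true := ext_range (a := 44338) (len := 2707) h15 e1_15
  have h17 : ∀ u < 49652, (fun u => chkE tab 1 u) u = true := ext_range (a := 47045) (len := 2607) h16 e1_16
  have h18 : ∀ u < 52377, (fun u => chkE tab 1 u) u = true := ext_range (a := 49652) (len := 2725) h17 e1_17
  have h19 : ∀ u < 55111, (fun u => chkE tab 1 u) u = true := ext_range (a := 52377) (len := 2734) h18 e1_18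
  have h20 : ∀ u < 58116, (fun u => chkE tab 1 u) u = true := ext_range (a := 55111) (len := 3005) h19 e1_19
  have h21 : ∀ u < 61268, (fun u => chkE tab 1 u) u = true := ext_range (a := 58116) (len := 3152) h20 e1_20
  have h22 : ∀ u < 64044, (fun u => chkE tab 1 u) u = true := ext_range (a := 61268) (len := 2776) h21 e1_21
  have h23 : ∀ u < 67064, (fun u => chkE tab 1 u) u = true := ext_range (a := 64044) (len := 3020) h22 e1_22
  have h24 : ∀ u < 70222, (fun u => chkE tab 1 u) u = true := ext_range (a := 67064) (len := 3158) h23 e1_23
  have h25 : ∀ u < 73355, (fun u => chkE tab 1 u) u = true := ext_range (a := 70222) (len := 3133) h24 e1_24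
  have h26 : ∀ u < 76510, (fun u => chkE tab 1 u) u = true := ext_range (a := 73355) (len := 3155) h25 e1_25
  have h27 : ∀ u < 79649, (fun u => chkE tab 1 u) u = true := ext_range (a := 76510) (len := 3139) h26 e1_26
  have h28 : ∀ u < 82486, (fun u => chkE tab 1 u) u = true := ext_range (a := 79649) (len := 2837) h27 e1_27
  have h29 : ∀ u < 85176, (fun u => chkE tab 1 u) u = true := ext_range (a := 82486) (len := 2690) h28 e1_28
  have h30 : ∀ u < 88163, (fun u => chkE tab 1 u) u = true := ext_range (a := 85176) (len := 2987) h29 e1_29
  have h31 : ∀ u < 90951, (fun u => chkE tab 1 u) u = true := ext_range (a := 88163) (len := 2788) h30 e1_30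
  have h32 : ∀ u < 94167, (fun u => chkE tab 1 u) u = true := ext_range (a := 90951) (len := 3216) h31 e1_31
  have h33 : ∀ u < 97635, (fun u => chkE tab 1 u) u = true := ext_range (a := 94167) (len := 3468) h32 e1_32
  have h34 : ∀ u < 100976, (fun u => chkE tab 1 u) u = true := ext_range (a := 97635) (len := 3341) h33 e1_33
  have h35 : ∀ u < 104476, (fun u => chkE tab 1 u) u = true := ext_range (a := 100976) (len := 3500) h34 e1_34
  have h36 : ∀ u < 108172, (fun u => chkE tab 1 u) u = true := ext_range (a := 104476) (len := 3696) h35 e1_35
  have h37 : ∀ u < 110847, (fun u => chkE tab 1 u) u = true := ext_range (a := 108172) (len := 2675) h36 e1_36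
  have h38 : ∀ u < 113794, (fun u => chkE tab 1 u) u = true := ext_range (a := 110847) (len := 2947) h37 e1_37
  have h39 : ∀ u < 116658, (fun u => chkE tab 1 u) u = true := ext_range (a := 113794) (len := 2864) h38 e1_38
  have h40 : ∀ u < 119546, (fun u => chkE tab 1 u) u = true := ext_range (a := 116658) (len := 2888) h39 e1_39
  have h41 : ∀ u < 122659, (fun u => chkE tab 1 u) u = true := ext_range (a := 119546) (len := 3113) h40 e1_40
  have h42 : ∀ u < 125753, (fun u => chkE tab 1 u) u = true := ext_range (a := 122659) (len := 3094) h41 e1_41
  have h43 : ∀ u < 128652, (fun u => chkE tab 1 u) u = true := ext_range (a := 125753) (len := 2899) h42 e1_42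
  have h44 : ∀ u < 131647, (fun u => chkE tab 1 u) u = true := ext_range (a := 128652) (len := 2995) h43 e1_43
  have h45 : ∀ u < 134481, (fun u => chkE tab 1 u) u = true := ext_range (a := 131647) (len := 2834) h44 e1_44
  have h46 : ∀ u < 137328, (fun u => chkE tab 1 u) u = true := ext_range (a := 134481) (len := 2847) h45 e1_45
  have h47 : ∀ u < 140075, (fun u => chkE tab 1 u) u = true := ext_range (a := 137328) (len := 2747) h46 e1_46
  have h48 : ∀ u < 143517, (fun u => chkE tab 1 u) u = true := ext_range (a := 140075) (len := 3442) h47 e1_47
  have h49 : ∀ u < 147864, (fun u => chkE tab 1 u) u = true := ext_range (a := 143517) (len := 4347) h48 e1_48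
  have h50 : ∀ u < 151740, (fun u => chkE tab 1 u) u = true := ext_range (a := 147864) (len := 3876) h49 e1_49
  have h51 : ∀ u < 155286, (fun u => chkE tab 1 u) u = true := ext_range (a := 151740) (len := 3546) h50 e1_50
  have h52 : ∀ u < 159087, (fun u => chkE tab 1 u) u = true := ext_range (a := 155286) (len := 3801) h51 e1_51
  have h53 : ∀ u < 162651, (fun u => chkE tab 1 u) u = true := ext_range (a := 159087) (len := 3564) h52 e1_52
  have h54 : ∀ u < 166571, (fun u => chkE tab 1 u) u = true := ext_range (a := 162651) (len := 3920) h53 e1_53
  have h55 : ∀ u < 171159, (fun u => chkE tab 1 u) u = true := ext_range (a := 166571) (len := 4588) h54 e1_54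
  have h56 : ∀ u < 176681, (fun u => chkE tab 1 u) u = true := ext_range (a := 171159) (len := 5522) h55 e1_55
  have h57 : ∀ u < 181365, (fun u => chkE tab 1 u) u = true := ext_range (a := 176681) (len := 4684) h56 e1_56
  have h58 : ∀ u < 186485, (fun u => chkE tab 1 u) u = true := ext_range (a := 181365) (len := 5120) h57 e1_57
  have h59 : ∀ u < 190601, (fun u => chkE tab 1 u) u = true := ext_range (a := 186485) (len := 4116) h58 e1_58
  have h60 : ∀ u < 193806, (fun u => chkE tab 1 u) u = true := ext_range (a := 190601) (len := 3205) h59 e1_59
  have h61 : ∀ u < 195797, (fun u => chkE tab 1 u) u = true := ext_range (a := 193806) (len := 1991) h60 e1_60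
  have h62 : ∀ u < 197770, (fun u => chkE tab 1 u) u = true := ext_range (a := 195797) (len := 1973) h61 e1_61
  have h63 : ∀ u < 199795, (fun u => chkE tab 1 u) u = true := ext_range (a := 197770) (len := 2025) h62 e1_62
  have h64 : ∀ u < 201845, (fun u => chkE tab 1 u) u = true := ext_range (a := 199795) (len := 2050) h63 e1_63
  have h65 : ∀ u < 203834, (fun u => chkE tab 1 u) u = true := ext_range (a := 201845) (len := 1989) h64 e1_64
  have h66 : ∀ u < 205978, (fun u => chkE tab 1 u) u = true := ext_range (a := 203834) (len := 2144) h65 e1_65
  have h67 : ∀ u < 208061, (fun u => chkE tab 1 u) u = true := ext_range (a := 205978) (len := 2083) h66 e1_66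
  have h68 : ∀ u < 210129, (fun u => chkE tab 1 u) u = true := ext_range (a := 208061) (len := 2068) h67 e1_67
  have h69 : ∀ u < 212353, (fun u => chkE tab 1 u) u = true := ext_range (a := 210129) (len := 2224) h68 e1_68
  have h70 : ∀ u < 214521, (fun u => chkE tab 1 u) u = true := ext_range (a := 212353) (len := 2168) h69 e1_69
  have h71 : ∀ u < 216605, (fun u => chkE tab 1 u) u = true := ext_range (a := 214521) (len := 2084) h70 e1_70
  have h72 : ∀ u < 218781, (fun u => chkE tab 1 u) u = true := ext_range (a := 216605) (len := 2176) h71 e1_71
  have h73 : ∀ u < 221097, (fun u => chkE tab 1 u) u = true := ext_range (a := 218781) (len := 2316) h72 e1_72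
  have h74 : ∀ u < 223232, (fun u => chkE tab 1 u) u = true := ext_range (a := 221097) (len := 2135) h73 e1_73
  have h75 : ∀ u < 225675, (fun u => chkE tab 1 u) u = true := ext_range (a := 223232) (len := 2443) h74 e1_74
  have h76 : ∀ u < 228251, (fun u => chkE tab 1 u) u = true := ext_range (a := 225675) (len := 2576) h75 e1_75
  have h77 : ∀ u < 230979, (fun u => chkE tab 1 u) u = true := ext_range (a := 228251) (len := 2728) h76 e1_76
  have h78 : ∀ u < 231594, (fun u => chkE tab 1 u) u = true := ext_range (a := 230979) (len := 615) h77 e1_77
  exact h78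

theorem hE2 : ∀ u < 231594, chkE tab 2 u = true := by
  have h0 : ∀ u < 0, (fun u => chkE tab 2 u) u = true := range_zero
  have h1 : ∀ u < 2774, (fun u => chkE tab 2 u) u = true := ext_range (a := 0) (len := 2774) h0 e2_0
  have h2 : ∀ u < 5831, (fun u => chkE tab 2 u) u = true := ext_range (a := 2774) (len := 3057) h1 e2_1
  have h3 : ∀ u < 8497, (fun u => chkE tab 2 u) u = true := ext_range (a := 5831) (len := 2666) h2 e2_2
  have h4 : ∀ u < 11359, (fun u => chkE tab 2 u) u = true := ext_range (a := 8497) (len := 2862) h3 e2_3
  have h5 : ∀ u < 14242, (fun u => chkE tab 2 u) u = true := ext_range (a := 11359) (len := 2883) h4 e2_4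
  have h6 : ∀ u < 17039, (fun u => chkE tab 2 u) u = true := ext_range (a := 14242) (len := 2797) h5 e2_5
  have h7 : ∀ u < 19629, (fun u => chkE tab 2 u) u = true := ext_range (a := 17039) (len := 2590) h6 e2_6
  have h8 : ∀ u < 22612, (fun u => chkE tab 2 u) u = true := ext_range (a := 19629) (len := 2983) h7 e2_7
  have h9 : ∀ u < 25567, (fun u => chkE tab 2 u) u = true := ext_range (a := 22612) (len := 2955) h8 e2_8
  have h10 : ∀ u < 28418, (fun u => chkE tab 2 u) u = true := ext_range (a := 25567) (len := 2851) h9 e2_9
  have h11 : ∀ u < 31121, (fun u => chkE tab 2 u) u = true := ext_range (a := 28418) (len := 2703) h10 e2_10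
  have h12 : ∀ u < 33551, (fun u => chkE tab 2 u) u = true := ext_range (a := 31121) (len := 2430) h11 e2_11
  have h13 : ∀ u < 36001, (fun u => chkE tab 2 u) u = true := ext_range (a := 33551) (len := 2450) h12 e2_12
  have h14 : ∀ u < 38783, (fun u => chkE tab 2 u) u = true := ext_range (a := 36001) (len := 2782) h13 e2_13
  have h15 : ∀ u < 41838, (fun u => chkE tab 2 u) u = true := ext_range (a := 38783) (len := 3055) h14 e2_14
  have h16 : ∀ u < 44614, (fun u => chkE tab 2 u) u = true := ext_range (a := 41838) (len := 2776) h15 e2_15
  have h17 : ∀ u < 47391, (fun u => chkE tab 2 u) u = true := ext_range (a := 44614) (len := 2777) h16 e2_16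
  have h18 : ∀ u < 49860, (fun u => chkE tab 2 u) u = true := ext_range (a := 47391) (len := 2469) h17 e2_17
  have h19 : ∀ u < 52598, (fun u => chkE tab 2 u) u = true := ext_range (a := 49860) (len := 2738) h18 e2_18
  have h20 : ∀ u < 55486, (fun u => chkE tab 2 u) u = true := ext_range (a := 52598) (len := 2888) h19 e2_19
  have h21 : ∀ u < 58779, (fun u => chkE tab 2 u) u = true := ext_range (a := 55486) (len := 3293) h20 e2_20
  have h22 : ∀ u < 61802, (fun u => chkE tab 2 u) u = true := ext_range (a := 58779) (len := 3023) h21 e2_21
  have h23 : ∀ u < 64540, (fun u => chkE tab 2 u) u = true := ext_range (a := 61802) (len := 2738) h22 e2_22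
  have h24 : ∀ u < 67280, (fun u => chkE tab 2 u) u = true := ext_range (a := 64540) (len := 2740) h23 e2_23
  have h25 : ∀ u < 70018, (fun u => chkE tab 2 u) u = true := ext_range (a := 67280) (len := 2738) h24 e2_24
  have h26 : ∀ u < 72735, (fun u => chkE tab 2 u) u = true := ext_range (a := 70018) (len := 2717) h25 e2_25
  have h27 : ∀ u < 75694, (fun u => chkE tab 2 u) u = true := ext_range (a := 72735) (len := 2959) h26 e2_26
  have h28 : ∀ u < 78934, (fun u => chkE tab 2 u) u = true := ext_range (a := 75694) (len := 3240) h27 e2_27
  have h29 : ∀ u < 81706, (fun u => chkE tab 2 u) u = true := ext_range (a := 78934) (len := 2772) h28 e2_28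
  have h30 : ∀ u < 84247, (fun u => chkE tab 2 u) u = true := ext_range (a := 81706) (len := 2541) h29 e2_29
  have h31 : ∀ u < 86749, (fun u => chkE tab 2 u) u = true := ext_range (a := 84247) (len := 2502) h30 e2_30
  have h32 : ∀ u < 89543, (fun u => chkE tab 2 u) u = true := ext_range (a := 86749) (len := 2794) h31 e2_31
  have h33 : ∀ u < 92274, (fun u => chkE tab 2 u) u = true := ext_range (a := 89543) (len := 2731) h32 e2_32
  have h34 : ∀ u < 96799, (fun u => chkE tab 2 u) u = true := ext_range (a := 92274) (len := 4525) h33 e2_33
  have h35 : ∀ u < 100648, (fun u => chkE tab 2 u) u = true := ext_range (a := 96799) (len := 3849) h34 e2_34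
  have h36 : ∀ u < 104408, (fun u => chkE tab 2 u) u = true := ext_range (a := 100648) (len := 3760) h35 e2_35
  have h37 : ∀ u < 108596, (fun u => chkE tab 2 u) u = true := ext_range (a := 104408) (len := 4188) h36 e2_36
  have h38 : ∀ u < 111622, (fun u => chkE tab 2 u) u = true := ext_range (a := 108596) (len := 3026) h37 e2_37
  have h39 : ∀ u < 115409, (fun u => chkE tab 2 u) u = true := ext_range (a := 111622) (len := 3787) h38 e2_38
  have h40 : ∀ u < 118719, (fun u => chkE tab 2 u) u = true := ext_range (a := 115409) (len := 3310) h39 e2_39
  have h41 : ∀ u < 123188, (fun u => chkE tab 2 u) u = true := ext_range (a := 118719) (len := 4469) h40 e2_40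
  have h42 : ∀ u < 127397, (fun u => chkE tab 2 u) u = true := ext_range (a := 123188) (len := 4209) h41 e2_41
  have h43 : ∀ u < 131130, (fun u => chkE tab 2 u) u = true := ext_range (a := 127397) (len := 3733) h42 e2_42
  have h44 : ∀ u < 134096, (fun u => chkE tab 2 u) u = true := ext_range (a := 131130) (len := 2966) h43 e2_43
  have h45 : ∀ u < 137790, (fun u => chkE tab 2 u) u = true := ext_range (a := 134096) (len := 3694) h44 e2_44
  have h46 : ∀ u < 141412, (fun u => chkE tab 2 u) u = true := ext_range (a := 137790) (len := 3622) h45 e2_45
  have h47 : ∀ u < 145642, (fun u => chkE tab 2 u) u = true := ext_range (a := 141412) (len := 4230) h46 e2_46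
  have h48 : ∀ u < 150421, (fun u => chkE tab 2 u) u = true := ext_range (a := 145642) (len := 4779) h47 e2_47
  have h49 : ∀ u < 154903, (fun u => chkE tab 2 u) u = true := ext_range (a := 150421) (len := 4482) h48 e2_48
  have h50 : ∀ u < 159595, (fun u => chkE tab 2 u) u = true := ext_range (a := 154903) (len := 4692) h49 e2_49
  have h51 : ∀ u < 164470, (fun u => chkE tab 2 u) u = true := ext_range (a := 159595) (len := 4875) h50 e2_50
  have h52 : ∀ u < 170500, (fun u => chkE tab 2 u) u = true := ext_range (a := 164470) (len := 6030) h51 e2_51
  have h53 : ∀ u < 177861, (fun u => chkE tab 2 u) u = true := ext_range (a := 170500) (len := 7361) h52 e2_52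
  have h54 : ∀ u < 184071, (fun u => chkE tab 2 u) u = true := ext_range (a := 177861) (len := 6210) h53 e2_53
  have h55 : ∀ u < 189787, (fun u => chkE tab 2 u) u = true := ext_range (a := 184071) (len := 5716) h54 e2_54
  have h56 : ∀ u < 194046, (fun u => chkE tab 2 u) u = true := ext_range (a := 189787) (len := 4259) h55 e2_55
  have h57 : ∀ u < 196720, (fun u => chkE tab 2 u) u = true := ext_range (a := 194046) (len := 2674) h56 e2_56
  have h58 : ∀ u < 199276, (fun u => chkE tab 2 u) u = true := ext_range (a := 196720) (len := 2556) h57 e2_57
  have h59 : ∀ u < 202062, (fun u => chkE tab 2 u) u = true := ext_range (a := 199276) (len := 2786) h58 e2_58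
  have h60 : ∀ u < 204769, (fun u => chkE tab 2 u) u = true := ext_range (a := 202062) (len := 2707) h59 e2_59
  have h61 : ∀ u < 207545, (fun u => chkE tab 2 u) u = true := ext_range (a := 204769) (len := 2776) h60 e2_60
  have h62 : ∀ u < 210407, (fun u => chkE tab 2 u) u = true := ext_range (a := 207545) (len := 2862) h61 e2_61
  have h63 : ∀ u < 213303, (fun u => chkE tab 2 u) u = true := ext_range (a := 210407) (len := 2896) h62 e2_62
  have h64 : ∀ u < 216187, (fun u => chkE tab 2 u) u = true := ext_range (a := 213303) (len := 2884) h63 e2_63
  have h65 : ∀ u < 219055, (fun u => chkE tab 2 u) u = true := ext_range (a := 216187) (len := 2868) h64 e2_64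
  have h66 : ∀ u < 222238, (fun u => chkE tab 2 u) u = true := ext_range (a := 219055) (len := 3183) h65 e2_65
  have h67 : ∀ u < 225573, (fun u => chkE tab 2 u) u = true := ext_range (a := 222238) (len := 3335) h66 e2_66
  have h68 : ∀ u < 229133, (fun u => chkE tab 2 u) u = true := ext_range (a := 225573) (len := 3560) h67 e2_67
  have h69 : ∀ u < 231594, (fun u => chkE tab 2 u) u = true := ext_range (a := 229133) (len := 2461) h68 e2_68
  exact h69

theorem hE3 : ∀ u < 231594, chkE tab 3 u = true := by
  have h0 : ∀ u < 0, (fun u => chkE tab 3 u) u = true := range_zero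
  have h1 : ∀ u < 3162, (fun u => chkE tab 3 u) u = true := ext_range (a := 0) (len := 3162) h0 e3_0
  have h2 : ∀ u < 6651, (fun u => chkE tab 3 u) u = true := ext_range (a := 3162) (len := 3489) h1 e3_1
  have h3 : ∀ u < 9811, (fun u => chkE tab 3 u) u = true := ext_range (a := 6651) (len := 3160) h2 e3_2
  have h4 : ∀ u < 13145, (fun u => chkE tab 3 u) u = true := ext_range (a := 9811) (len := 3334) h3 e3_3
  have h5 : ∀ u < 16467, (fun u => chkE tab 3 u) u = true := ext_range (a := 13145) (len := 3322) h4 e3_4
  have h6 : ∀ u < 19725, (fun u => chkE tab 3 u) u = true := ext_range (a := 16467) (len := 3258) h5 e3_5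
  have h7 : ∀ u < 23120, (fun u => chkE tab 3 u) u = true := ext_range (a := 19725) (len := 3395) h6 e3_6
  have h8 : ∀ u < 26324, (fun u => chkE tab 3 u) u = true := ext_range (a := 23120) (len := 3204) h7 e3_7
  have h9 : ∀ u < 29458, (fun u => chkE tab 3 u) u = true := ext_range (a := 26324) (len := 3134) h8 e3_8
  have h10 : ∀ u < 32592, (fun u => chkE tab 3 u) u = true := ext_range (a := 29458) (len := 3134) h9 e3_9
  have h11 : ∀ u < 35702, (fun u => chkE tab 3 u) u = true := ext_range (a := 32592) (len := 3110) h10 e3_10
  have h12 : ∀ u < 38932, (fun u => chkE tab 3 u) u = true := ext_range (a := 35702) (len := 3230) h11 e3_11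
  have h13 : ∀ u < 42395, (fun u => chkE tab 3 u) u = true := ext_range (a := 38932) (len := 3463) h12 e3_12
  have h14 : ∀ u < 45347, (fun u => chkE tab 3 u) u = true := ext_range (a := 42395) (len := 2952) h13 e3_13
  have h15 : ∀ u < 48228, (fun u => chkE tab 3 u) u = true := ext_range (a := 45347) (len := 2881) h14 e3_14
  have h16 : ∀ u < 51038, (fun u => chkE tab 3 u) u = true := ext_range (a := 48228) (len := 2810) h15 e3_15
  have h17 : ∀ u < 54000, (fun u => chkE tab 3 u) u = true := ext_range (a := 51038) (len := 2962) h16 e3_16
  have h18 : ∀ u < 57342, (fun u => chkE tab 3 u) u = true := ext_range (a := 54000) (len := 3342) h17 e3_17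
  have h19 : ∀ u < 60941, (fun u => chkE tab 3 u) u = true := ext_range (a := 57342) (len := 3599) h18 e3_18
  have h20 : ∀ u < 63976, (fun u => chkE tab 3 u) u = true := ext_range (a := 60941) (len := 3035) h19 e3_19
  have h21 : ∀ u < 67084, (fun u => chkE tab 3 u) u = true := ext_range (a := 63976) (len := 3108) h20 e3_20
  have h22 : ∀ u < 70436, (fun u => chkE tab 3 u) u = true := ext_range (a := 67084) (len := 3352) h21 e3_21
  have h23 : ∀ u < 73862, (fun u => chkE tab 3 u) u = true := ext_range (a := 70436) (len := 3426) h22 e3_22
  have h24 : ∀ u < 77562, (fun u => chkE tab 3 u) u = true := ext_range (a := 73862) (len := 3700) h23 e3_23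
  have h25 : ∀ u < 80899, (fun u => chkE tab 3 u) u = true := ext_range (a := 77562) (len := 3337) h24 e3_24
  have h26 : ∀ u < 83927, (fun u => chkE tab 3 u) u = true := ext_range (a := 80899) (len := 3028) h25 e3_25
  have h27 : ∀ u < 86936, (fun u => chkE tab 3 u) u = true := ext_range (a := 83927) (len := 3009) h26 e3_26
  have h28 : ∀ u < 90003, (fun u => chkE tab 3 u) u = true := ext_range (a := 86936) (len := 3067) h27 e3_27
  have h29 : ∀ u < 93699, (fun u => chkE tab 3 u) u = true := ext_range (a := 90003) (len := 3696) h28 e3_28
  have h30 : ∀ u < 98517, (fun u => chkE tab 3 u) u = true := ext_range (a := 93699) (len := 4818) h29 e3_29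
  have h31 : ∀ u < 103131, (fun u => chkE tab 3 u) u = true := ext_range (a := 98517) (len := 4614) h30 e3_30
  have h32 : ∀ u < 107948, (fun u => chkE tab 3 u) u = true := ext_range (a := 103131) (len := 4817) h31 e3_31
  have h33 : ∀ u < 110999, (fun u => chkE tab 3 u) u = true := ext_range (a := 107948) (len := 3051) h32 e3_32
  have h34 : ∀ u < 114937, (fun u => chkE tab 3 u) u = true := ext_range (a := 110999) (len := 3938) h33 e3_33
  have h35 : ∀ u < 118038, (fun u => chkE tab 3 u) u = true := ext_range (a := 114937) (len := 3101) h34 e3_34
  have h36 : ∀ u < 122909, (fun u => chkE tab 3 u) u = true := ext_range (a := 118038) (len := 4871) h35 e3_35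
  have h37 : ∀ u < 127847, (fun u => chkE tab 3 u) u = true := ext_range (a := 122909) (len := 4938) h36 e3_36
  have h38 : ∀ u < 131471, (fun u => chkE tab 3 u) u = true := ext_range (a := 127847) (len := 3624) h37 e3_37
  have h39 : ∀ u < 135075, (fun u => chkE tab 3 u) u = true := ext_range (a := 131471) (len := 3604) h38 e3_38
  have h40 : ∀ u < 138834, (fun u => chkE tab 3 u) u = true := ext_range (a := 135075) (len := 3759) h39 e3_39
  have h41 : ∀ u < 142992, (fun u => chkE tab 3 u) u = true := ext_range (a := 138834) (len := 4158) h40 e3_40
  have h42 : ∀ u < 148412, (fun u => chkE tab 3 u) u = true := ext_range (a := 142992) (len := 5420) h41 e3_41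
  have h43 : ∀ u < 153437, (fun u => chkE tab 3 u) u = true := ext_range (a := 148412) (len := 5025) h42 e3_42
  have h44 : ∀ u < 158128, (fun u => chkE tab 3 u) u = true := ext_range (a := 153437) (len := 4691) h43 e3_43
  have h45 : ∀ u < 163184, (fun u => chkE tab 3 u) u = true := ext_range (a := 158128) (len := 5056) h44 e3_44
  have h46 : ∀ u < 169833, (fun u => chkE tab 3 u) u = true := ext_range (a := 163184) (len := 6649) h45 e3_45
  have h47 : ∀ u < 178179, (fun u => chkE tab 3 u) u = true := ext_range (a := 169833) (len := 8346) h46 e3_46
  have h48 : ∀ u < 184378, (fun u => chkE tab 3 u) u = true := ext_range (a := 178179) (len := 6199) h47 e3_47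
  have h49 : ∀ u < 190587, (fun u => chkE tab 3 u) u = true := ext_range (a := 184378) (len := 6209) h48 e3_48
  have h50 : ∀ u < 194079, (fun u => chkE tab 3 u) u = true := ext_range (a := 190587) (len := 3492) h49 e3_49
  have h51 : ∀ u < 196430, (fun u => chkE tab 3 u) u = true := ext_range (a := 194079) (len := 2351) h50 e3_50
  have h52 : ∀ u < 198695, (fun u => chkE tab 3 u) u = true := ext_range (a := 196430) (len := 2265) h51 e3_51
  have h53 : ∀ u < 201154, (fun u => chkE tab 3 u) u = true := ext_range (a := 198695) (len := 2459) h52 e3_52
  have h54 : ∀ u < 203569, (fun u => chkE tab 3 u) u = true := ext_range (a := 201154) (len := 2415) h53 e3_53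
  have h55 : ∀ u < 206069, (fun u => chkE tab 3 u) u = true := ext_range (a := 203569) (len := 2500) h54 e3_54
  have h56 : ∀ u < 208596, (fun u => chkE tab 3 u) u = true := ext_range (a := 206069) (len := 2527) h55 e3_55
  have h57 : ∀ u < 211022, (fun u => chkE tab 3 u) u = true := ext_range (a := 208596) (len := 2426) h56 e3_56
  have h58 : ∀ u < 213565, (fun u => chkE tab 3 u) u = true := ext_range (a := 211022) (len := 2543) h57 e3_57
  have h59 : ∀ u < 216131, (fun u => chkE tab 3 u) u = true := ext_range (a := 213565) (len := 2566) h58 e3_58
  have h60 : ∀ u < 218799, (fun u => chkE tab 3 u) u = true := ext_range (a := 216131) (len := 2668) h59 e3_59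
  have h61 : ∀ u < 221527, (fun u => chkE tab 3 u) u = true := ext_range (a := 218799) (len := 2728) h60 e3_60
  have h62 : ∀ u < 224334, (fun u => chkE tab 3 u) u = true := ext_range (a := 221527) (len := 2807) h61 e3_61
  have h63 : ∀ u < 227385, (fun u => chkE tab 3 u) u = true := ext_range (a := 224334) (len := 3051) h62 e3_62
  have h64 : ∀ u < 230897, (fun u => chkE tab 3 u) u = true := ext_range (a := 227385) (len := 3512) h63 e3_63
  have h65 : ∀ u < 231594, (fun u => chkE tab 3 u) u = true := ext_range (a := 230897) (len := 697) h64 e3_64
  exact h65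

theorem hE4 : ∀ u < 231594, chkE tab 4 u = true := by
  have h0 : ∀ u < 0, (fun u => chkE tab 4 u) u = true := range_zero
  have h1 : ∀ u < 3146, (fun u => chkE tab 4 u) u = true := ext_range (a := 0) (len := 3146) h0 e4_0
  have h2 : ∀ u < 6599, (fun u => chkE tab 4 u) u = true := ext_range (a := 3146) (len := 3453) h1 e4_1
  have h3 : ∀ u < 9646, (fun u => chkE tab 4 u) u = true := ext_range (a := 6599) (len := 3047) h2 e4_2
  have h4 : ∀ u < 12649, (fun u => chkE tab 4 u) u = true := ext_range (a := 9646) (len := 3003) h3 e4_3
  have h5 : ∀ u < 15641, (fun u => chkE tab 4 u) u = true := ext_range (a := 12649) (len := 2992) h4 e4_4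
  have h6 : ∀ u < 18863, (fun u => chkE tab 4 u) u = true := ext_range (a := 15641) (len := 3222) h5 e4_5
  have h7 : ∀ u < 22006, (fun u => chkE tab 4 u) u = true := ext_range (a := 18863) (len := 3143) h6 e4_6
  have h8 : ∀ u < 25082, (fun u => chkE tab 4 u) u = true := ext_range (a := 22006) (len := 3076) h7 e4_7
  have h9 : ∀ u < 27655, (fun u => chkE tab 4 u) u = true := ext_range (a := 25082) (len := 2573) h8 e4_8
  have h10 : ∀ u < 30550, (fun u => chkE tab 4 u) u = true := ext_range (a := 27655) (len := 2895) h9 e4_9
  have h11 : ∀ u < 33224, (fun u => chkE tab 4 u) u = true := ext_range (a := 30550) (len := 2674) h10 e4_10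
  have h12 : ∀ u < 36099, (fun u => chkE tab 4 u) u = true := ext_range (a := 33224) (len := 2875) h11 e4_11
  have h13 : ∀ u < 39139, (fun u => chkE tab 4 u) u = true := ext_range (a := 36099) (len := 3040) h12 e4_12
  have h14 : ∀ u < 42404, (fun u => chkE tab 4 u) u = true := ext_range (a := 39139) (len := 3265) h13 e4_13
  have h15 : ∀ u < 45039, (fun u => chkE tab 4 u) u = true := ext_range (a := 42404) (len := 2635) h14 e4_14
  have h16 : ∀ u < 47665, (fun u => chkE tab 4 u) u = true := ext_range (a := 45039) (len := 2626) h15 e4_15
  have h17 : ∀ u < 50095, (fun u => chkE tab 4 u) u = true := ext_range (a := 47665) (len := 2430) h16 e4_16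
  have h18 : ∀ u < 52676, (fun u => chkE tab 4 u) u = true := ext_range (a := 50095) (len := 2581) h17 e4_17
  have h19 : ∀ u < 55568, (fun u => chkE tab 4 u) u = true := ext_range (a := 52676) (len := 2892) h18 e4_18
  have h20 : ∀ u < 58858, (fun u => chkE tab 4 u) u = true := ext_range (a := 55568) (len := 3290) h19 e4_19
  have h21 : ∀ u < 62006, (fun u => chkE tab 4 u) u = true := ext_range (a := 58858) (len := 3148) h20 e4_20
  have h22 : ∀ u < 64902, (fun u => chkE tab 4 u) u = true := ext_range (a := 62006) (len := 2896) h21 e4_21
  have h23 : ∀ u < 67982, (fun u => chkE tab 4 u) u = true := ext_range (a := 64902) (len := 3080) h22 e4_22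
  have h24 : ∀ u < 70909, (fun u => chkE tab 4 u) u = true := ext_range (a := 67982) (len := 2927) h23 e4_23
  have h25 : ∀ u < 74050, (fun u => chkE tab 4 u) u = true := ext_range (a := 70909) (len := 3141) h24 e4_24
  have h26 : ∀ u < 77477, (fun u => chkE tab 4 u) u = true := ext_range (a := 74050) (len := 3427) h25 e4_25
  have h27 : ∀ u < 80544, (fun u => chkE tab 4 u) u = true := ext_range (a := 77477) (len := 3067) h26 e4_26
  have h28 : ∀ u < 83337, (fun u => chkE tab 4 u) u = true := ext_range (a := 80544) (len := 2793) h27 e4_27
  have h29 : ∀ u < 86000, (fun u => chkE tab 4 u) u = true := ext_range (a := 83337) (len := 2663) h28 e4_28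
  have h30 : ∀ u < 89031, (fun u => chkE tab 4 u) u = true := ext_range (a := 86000) (len := 3031) h29 e4_29
  have h31 : ∀ u < 91409, (fun u => chkE tab 4 u) u = true := ext_range (a := 89031) (len := 2378) h30 e4_30
  have h32 : ∀ u < 94894, (fun u => chkE tab 4 u) u = true := ext_range (a := 91409) (len := 3485) h31 e4_31
  have h33 : ∀ u < 98667, (fun u => chkE tab 4 u) u = true := ext_range (a := 94894) (len := 3773) h32 e4_32
  have h34 : ∀ u < 102666, (fun u => chkE tab 4 u) u = true := ext_range (a := 98667) (len := 3999) h33 e4_33
  have h35 : ∀ u < 106988, (fun u => chkE tab 4 u) u = true := ext_range (a := 102666) (len := 4322) h34 e4_34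
  have h36 : ∀ u < 109856, (fun u => chkE tab 4 u) u = true := ext_range (a := 106988) (len := 2868) h35 e4_35
  have h37 : ∀ u < 112975, (fun u => chkE tab 4 u) u = true := ext_range (a := 109856) (len := 3119) h36 e4_36
  have h38 : ∀ u < 116018, (fun u => chkE tab 4 u) u = true := ext_range (a := 112975) (len := 3043) h37 e4_37
  have h39 : ∀ u < 119188, (fun u => chkE tab 4 u) u = true := ext_range (a := 116018) (len := 3170) h38 e4_38
  have h40 : ∀ u < 122893, (fun u => chkE tab 4 u) u = true := ext_range (a := 119188) (len := 3705) h39 e4_39
  have h41 : ∀ u < 126638, (fun u => chkE tab 4 u) u = true := ext_range (a := 122893) (len := 3745) h40 e4_40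
  have h42 : ∀ u < 129577, (fun u => chkE tab 4 u) u = true := ext_range (a := 126638) (len := 2939) h41 e4_41
  have h43 : ∀ u < 132478, (fun u => chkE tab 4 u) u = true := ext_range (a := 129577) (len := 2901) h42 e4_42
  have h44 : ∀ u < 135591, (fun u => chkE tab 4 u) u = true := ext_range (a := 132478) (len := 3113) h43 e4_43
  have h45 : ∀ u < 138770, (fun u => chkE tab 4 u) u = true := ext_range (a := 135591) (len := 3179) h44 e4_44
  have h46 : ∀ u < 141995, (fun u => chkE tab 4 u) u = true := ext_range (a := 138770) (len := 3225) h45 e4_45
  have h47 : ∀ u < 145834, (fun u => chkE tab 4 u) u = true := ext_range (a := 141995) (len := 3839) h46 e4_46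
  have h48 : ∀ u < 150099, (fun u => chkE tab 4 u) u = true := ext_range (a := 145834) (len := 4265) h47 e4_47
  have h49 : ∀ u < 154615, (fun u => chkE tab 4 u) u = true := ext_range (a := 150099) (len := 4516) h48 e4_48
  have h50 : ∀ u < 158324, (fun u => chkE tab 4 u) u = true := ext_range (a := 154615) (len := 3709) h49 e4_49
  have h51 : ∀ u < 162568, (fun u => chkE tab 4 u) u = true := ext_range (a := 158324) (len := 4244) h50 e4_50
  have h52 : ∀ u < 166627, (fun u => chkE tab 4 u) u = true := ext_range (a := 162568) (len := 4059) h51 e4_51
  have h53 : ∀ u < 172334, (fun u => chkE tab 4 u) u = true := ext_range (a := 166627) (len := 5707) h52 e4_52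
  have h54 : ∀ u < 178448, (fun u => chkE tab 4 u) u = true := ext_range (a := 172334) (len := 6114) h53 e4_53
  have h55 : ∀ u < 183546, (fun u => chkE tab 4 u) u = true := ext_range (a := 178448) (len := 5098) h54 e4_54
  have h56 : ∀ u < 188935, (fun u => chkE tab 4 u) u = true := ext_range (a := 183546) (len := 5389) h55 e4_55
  have h57 : ∀ u < 192882, (fun u => chkE tab 4 u) u = true := ext_range (a := 188935) (len := 3947) h56 e4_56
  have h58 : ∀ u < 194920, (fun u => chkE tab 4 u) u = true := ext_range (a := 192882) (len := 2038) h57 e4_57
  have h59 : ∀ u < 196892, (fun u => chkE tab 4 u) u = true := ext_range (a := 194920) (len := 1972) h58 e4_58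
  have h60 : ∀ u < 198757, (fun u => chkE tab 4 u) u = true := ext_range (a := 196892) (len := 1865) h59 e4_59
  have h61 : ∀ u < 200849, (fun u => chkE tab 4 u) u = true := ext_range (a := 198757) (len := 2092) h60 e4_60
  have h62 : ∀ u < 202892, (fun u => chkE tab 4 u) u = true := ext_range (a := 200849) (len := 2043) h61 e4_61
  have h63 : ∀ u < 204935, (fun u => chkE tab 4 u) u = true := ext_range (a := 202892) (len := 2043) h62 e4_62
  have h64 : ∀ u < 207045, (fun u => chkE tab 4 u) u = true := ext_range (a := 204935) (len := 2110) h63 e4_63
  have h65 : ∀ u < 209179, (fun u => chkE tab 4 u) u = true := ext_range (a := 207045) (len := 2134) h64 e4_64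
  have h66 : ∀ u < 211398, (fun u => chkE tab 4 u) u = true := ext_range (a := 209179) (len := 2219) h65 e4_65
  have h67 : ∀ u < 213655, (fun u => chkE tab 4 u) u = true := ext_range (a := 211398) (len := 2257) h66 e4_66
  have h68 : ∀ u < 215762, (fun u => chkE tab 4 u) u = true := ext_range (a := 213655) (len := 2107) h67 e4_67
  have h69 : ∀ u < 217962, (fun u => chkE tab 4 u) u = true := ext_range (a := 215762) (len := 2200) h68 e4_68
  have h70 : ∀ u < 220274, (fun u => chkE tab 4 u) u = true := ext_range (a := 217962) (len := 2312) h69 e4_69
  have h71 : ∀ u < 222545, (fun u => chkE tab 4 u) u = true := ext_range (a := 220274) (len := 2271) h70 e4_70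
  have h72 : ∀ u < 224965, (fun u => chkE tab 4 u) u = true := ext_range (a := 222545) (len := 2420) h71 e4_71
  have h73 : ∀ u < 227643, (fun u => chkE tab 4 u) u = true := ext_range (a := 224965) (len := 2678) h72 e4_72
  have h74 : ∀ u < 230658, (fun u => chkE tab 4 u) u = true := ext_range (a := 227643) (len := 3015) h73 e4_73
  have h75 : ∀ u < 231594, (fun u => chkE tab 4 u) u = true := ext_range (a := 230658) (len := 936) h74 e4_74
  exact h75

theorem hE5 : ∀ u < 231594, chkE tab 5 u = true := by
  have h0 : ∀ u < 0, (fun u => chkE tab 5 u) u = true := range_zero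
  have h1 : ∀ u < 4098, (fun u => chkE tab 5 u) u = true := ext_range (a := 0) (len := 4098) h0 e5_0
  have h2 : ∀ u < 8093, (fun u => chkE tab 5 u) u = true := ext_range (a := 4098) (len := 3995) h1 e5_1
  have h3 : ∀ u < 12056, (fun u => chkE tab 5 u) u = true := ext_range (a := 8093) (len := 3963) h2 e5_2
  have h4 : ∀ u < 15291, (fun u => chkE tab 5 u) u = true := ext_range (a := 12056) (len := 3235) h3 e5_3
  have h5 : ∀ u < 19180, (fun u => chkE tab 5 u) u = true := ext_range (a := 15291) (len := 3889) h4 e5_4
  have h6 : ∀ u < 23013, (fun u => chkE tab 5 u) u = true := ext_range (a := 19180) (len := 3833) h5 e5_5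
  have h7 : ∀ u < 26084, (fun u => chkE tab 5 u) u = true := ext_range (a := 23013) (len := 3071) h6 e5_6
  have h8 : ∀ u < 29463, (fun u => chkE tab 5 u) u = true := ext_range (a := 26084) (len := 3379) h7 e5_7
  have h9 : ∀ u < 32748, (fun u => chkE tab 5 u) u = true := ext_range (a := 29463) (len := 3285) h8 e5_8
  have h10 : ∀ u < 35973, (fun u => chkE tab 5 u) u = true := ext_range (a := 32748) (len := 3225) h9 e5_9
  have h11 : ∀ u < 39824, (fun u => chkE tab 5 u) u = true := ext_range (a := 35973) (len := 3851) h10 e5_10
  have h12 : ∀ u < 43722, (fun u => chkE tab 5 u) u = true := ext_range (a := 39824) (len := 3898) h11 e5_11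
  have h13 : ∀ u < 46888, (fun u => chkE tab 5 u) u = true := ext_range (a := 43722) (len := 3166) h12 e5_12
  have h14 : ∀ u < 50102, (fun u => chkE tab 5 u) u = true := ext_range (a := 46888) (len := 3214) h13 e5_13
  have h15 : ∀ u < 53374, (fun u => chkE tab 5 u) u = true := ext_range (a := 50102) (len := 3272) h14 e5_14
  have h16 : ∀ u < 56871, (fun u => chkE tab 5 u) u = true := ext_range (a := 53374) (len := 3497) h15 e5_15
  have h17 : ∀ u < 61000, (fun u => chkE tab 5 u) u = true := ext_range (a := 56871) (len := 4129) h16 e5_16
  have h18 : ∀ u < 64494, (fun u => chkE tab 5 u) u = true := ext_range (a := 61000) (len := 3494) h17 e5_17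
  have h19 : ∀ u < 68722, (fun u => chkE tab 5 u) u = true := ext_range (a := 64494) (len := 4228) h18 e5_18
  have h20 : ∀ u < 72322, (fun u => chkE tab 5 u) u = true := ext_range (a := 68722) (len := 3600) h19 e5_19
  have h21 : ∀ u < 76207, (fun u => chkE tab 5 u) u = true := ext_range (a := 72322) (len := 3885) h20 e5_20
  have h22 : ∀ u < 80195, (fun u => chkE tab 5 u) u = true := ext_range (a := 76207) (len := 3988) h21 e5_21
  have h23 : ∀ u < 83516, (fun u => chkE tab 5 u) u = true := ext_range (a := 80195) (len := 3321) h22 e5_22
  have h24 : ∀ u < 87035, (fun u => chkE tab 5 u) u = true := ext_range (a := 83516) (len := 3519) h23 e5_23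
  have h25 : ∀ u < 90296, (fun u => chkE tab 5 u) u = true := ext_range (a := 87035) (len := 3261) h24 e5_24
  have h26 : ∀ u < 94162, (fun u => chkE tab 5 u) u = true := ext_range (a := 90296) (len := 3866) h25 e5_25
  have h27 : ∀ u < 98263, (fun u => chkE tab 5 u) u = true := ext_range (a := 94162) (len := 4101) h26 e5_26
  have h28 : ∀ u < 102518, (fun u => chkE tab 5 u) u = true := ext_range (a := 98263) (len := 4255) h27 e5_27
  have h29 : ∀ u < 106685, (fun u => chkE tab 5 u) u = true := ext_range (a := 102518) (len := 4167) h28 e5_28
  have h30 : ∀ u < 109884, (fun u => chkE tab 5 u) u = true := ext_range (a := 106685) (len := 3199) h29 e5_29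
  have h31 : ∀ u < 113145, (fun u => chkE tab 5 u) u = true := ext_range (a := 109884) (len := 3261) h30 e5_30
  have h32 : ∀ u < 116299, (fun u => chkE tab 5 u) u = true := ext_range (a := 113145) (len := 3154) h31 e5_31
  have h33 : ∀ u < 119614, (fun u => chkE tab 5 u) u = true := ext_range (a := 116299) (len := 3315) h32 e5_32
  have h34 : ∀ u < 123590, (fun u => chkE tab 5 u) u = true := ext_range (a := 119614) (len := 3976) h33 e5_33
  have h35 : ∀ u < 127398, (fun u => chkE tab 5 u) u = true := ext_range (a := 123590) (len := 3808) h34 e5_34
  have h36 : ∀ u < 130593, (fun u => chkE tab 5 u) u = true := ext_range (a := 127398) (len := 3195) h35 e5_35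
  have h37 : ∀ u < 133675, (fun u => chkE tab 5 u) u = true := ext_range (a := 130593) (len := 3082) h36 e5_36
  have h38 : ∀ u < 136694, (fun u => chkE tab 5 u) u = true := ext_range (a := 133675) (len := 3019) h37 e5_37
  have h39 : ∀ u < 139782, (fun u => chkE tab 5 u) u = true := ext_range (a := 136694) (len := 3088) h38 e5_38
  have h40 : ∀ u < 143605, (fun u => chkE tab 5 u) u = true := ext_range (a := 139782) (len := 3823) h39 e5_39
  have h41 : ∀ u < 148033, (fun u => chkE tab 5 u) u = true := ext_range (a := 143605) (len := 4428) h40 e5_40
  have h42 : ∀ u < 152126, (fun u => chkE tab 5 u) u = true := ext_range (a := 148033) (len := 4093) h41 e5_41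
  have h43 : ∀ u < 156378, (fun u => chkE tab 5 u) u = true := ext_range (a := 152126) (len := 4252) h42 e5_42
  have h44 : ∀ u < 160500, (fun u => chkE tab 5 u) u = true := ext_range (a := 156378) (len := 4122) h43 e5_43
  have h45 : ∀ u < 164649, (fun u => chkE tab 5 u) u = true := ext_range (a := 160500) (len := 4149) h44 e5_44
  have h46 : ∀ u < 169860, (fun u => chkE tab 5 u) u = true := ext_range (a := 164649) (len := 5211) h45 e5_45
  have h47 : ∀ u < 176277, (fun u => chkE tab 5 u) u = true := ext_range (a := 169860) (len := 6417) h46 e5_46
  have h48 : ∀ u < 181487, (fun u => chkE tab 5 u) u = true := ext_range (a := 176277) (len := 5210) h47 e5_47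
  have h49 : ∀ u < 187058, (fun u => chkE tab 5 u) u = true := ext_range (a := 181487) (len := 5571) h48 e5_48
  have h50 : ∀ u < 191456, (fun u => chkE tab 5 u) u = true := ext_range (a := 187058) (len := 4398) h49 e5_49
  have h51 : ∀ u < 194276, (fun u => chkE tab 5 u) u = true := ext_range (a := 191456) (len := 2820) h50 e5_50
  have h52 : ∀ u < 196354, (fun u => chkE tab 5 u) u = true := ext_range (a := 194276) (len := 2078) h51 e5_51
  have h53 : ∀ u < 198396, (fun u => chkE tab 5 u) u = true := ext_range (a := 196354) (len := 2042) h52 e5_52
  have h54 : ∀ u < 200364, (fun u => chkE tab 5 u) u = true := ext_range (a := 198396) (len := 1968) h53 e5_53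
  have h55 : ∀ u < 202476, (fun u => chkE tab 5 u) u = true := ext_range (a := 200364) (len := 2112) h54 e5_54
  have h56 : ∀ u < 204510, (fun u => chkE tab 5 u) u = true := ext_range (a := 202476) (len := 2034) h55 e5_55
  have h57 : ∀ u < 206559, (fun u => chkE tab 5 u) u = true := ext_range (a := 204510) (len := 2049) h56 e5_56
  have h58 : ∀ u < 208749, (fun u => chkE tab 5 u) u = true := ext_range (a := 206559) (len := 2190) h57 e5_57
  have h59 : ∀ u < 210850, (fun u => chkE tab 5 u) u = true := ext_range (a := 208749) (len := 2101) h58 e5_58
  have h60 : ∀ u < 212998, (fun u => chkE tab 5 u) u = true := ext_range (a := 210850) (len := 2148) h59 e5_59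
  have h61 : ∀ u < 215116, (fun u => chkE tab 5 u) u = true := ext_range (a := 212998) (len := 2118) h60 e5_60
  have h62 : ∀ u < 217269, (fun u => chkE tab 5 u) u = true := ext_range (a := 215116) (len := 2153) h61 e5_61
  have h63 : ∀ u < 219631, (fun u => chkE tab 5 u) u = true := ext_range (a := 217269) (len := 2362) h62 e5_62
  have h64 : ∀ u < 222092, (fun u => chkE tab 5 u) u = true := ext_range (a := 219631) (len := 2461) h63 e5_63
  have h65 : ∀ u < 224571, (fun u => chkE tab 5 u) u = true := ext_range (a := 222092) (len := 2479) h64 e5_64
  have h66 : ∀ u < 227134, (fun u => chkE tab 5 u) u = true := ext_range (a := 224571) (len := 2563) h65 e5_65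
  have h67 : ∀ u < 230172, (fun u => chkE tab 5 u) u = true := ext_range (a := 227134) (len := 3038) h66 e5_66
  have h68 : ∀ u < 231594, (fun u => chkE tab 5 u) u = true := ext_range (a := 230172) (len := 1422) h67 e5_67
  exact h68

theorem hE6 : ∀ u < 231594, chkE tab 6 u = true := by
  have h0 : ∀ u < 0, (fun u => chkE tab 6 u) u = true := range_zero
  have h1 : ∀ u < 4641, (fun u => chkE tab 6 u) u = true := ext_range (a := 0) (len := 4641) h0 e6_0
  have h2 : ∀ u < 9339, (fun u => chkE tab 6 u) u = true := ext_range (a := 4641) (len := 4698) h1 e6_1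
  have h3 : ∀ u < 13956, (fun u => chkE tab 6 u) u = true := ext_range (a := 9339) (len := 4617) h2 e6_2
  have h4 : ∀ u < 18604, (fun u => chkE tab 6 u) u = true := ext_range (a := 13956) (len := 4648) h3 e6_3
  have h5 : ∀ u < 22986, (fun u => chkE tab 6 u) u = true := ext_range (a := 18604) (len := 4382) h4 e6_4
  have h6 : ∀ u < 27655, (fun u => chkE tab 6 u) u = true := ext_range (a := 22986) (len := 4669) h5 e6_5
  have h7 : ∀ u < 31808, (fun u => chkE tab 6 u) u = true := ext_range (a := 27655) (len := 4153) h6 e6_6
  have h8 : ∀ u < 36193, (fun u => chkE tab 6 u) u = true := ext_range (a := 31808) (len := 4385) h7 e6_7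
  have h9 : ∀ u < 40804, (fun u => chkE tab 6 u) u = true := ext_range (a := 36193) (len := 4611) h8 e6_8
  have h10 : ∀ u < 45142, (fun u => chkE tab 6 u) u = true := ext_range (a := 40804) (len := 4338) h9 e6_9
  have h11 : ∀ u < 49365, (fun u => chkE tab 6 u) u = true := ext_range (a := 45142) (len := 4223) h10 e6_10
  have h12 : ∀ u < 53641, (fun u => chkE tab 6 u) u = true := ext_range (a := 49365) (len := 4276) h11 e6_11
  have h13 : ∀ u < 58382, (fun u => chkE tab 6 u) u = true := ext_range (a := 53641) (len := 4741) h12 e6_12
  have h14 : ∀ u < 62983, (fun u => chkE tab 6 u) u = true := ext_range (a := 58382) (len := 4601) h13 e6_13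
  have h15 : ∀ u < 67481, (fun u => chkE tab 6 u) u = true := ext_range (a := 62983) (len := 4498) h14 e6_14
  have h16 : ∀ u < 71938, (fun u => chkE tab 6 u) u = true := ext_range (a := 67481) (len := 4457) h15 e6_15
  have h17 : ∀ u < 76575, (fun u => chkE tab 6 u) u = true := ext_range (a := 71938) (len := 4637) h16 e6_16
  have h18 : ∀ u < 81162, (fun u => chkE tab 6 u) u = true := ext_range (a := 76575) (len := 4587) h17 e6_17
  have h19 : ∀ u < 85244, (fun u => chkE tab 6 u) u = true := ext_range (a := 81162) (len := 4082) h18 e6_18
  have h20 : ∀ u < 89557, (fun u => chkE tab 6 u) u = true := ext_range (a := 85244) (len := 4313) h19 e6_19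
  have h21 : ∀ u < 94575, (fun u => chkE tab 6 u) u = true := ext_range (a := 89557) (len := 5018) h20 e6_20
  have h22 : ∀ u < 100122, (fun u => chkE tab 6 u) u = true := ext_range (a := 94575) (len := 5547) h21 e6_21
  have h23 : ∀ u < 105371, (fun u => chkE tab 6 u) u = true := ext_range (a := 100122) (len := 5249) h22 e6_22
  have h24 : ∀ u < 109990, (fun u => chkE tab 6 u) u = true := ext_range (a := 105371) (len := 4619) h23 e6_23
  have h25 : ∀ u < 114042, (fun u => chkE tab 6 u) u = true := ext_range (a := 109990) (len := 4052) h24 e6_24
  have h26 : ∀ u < 118010, (fun u => chkE tab 6 u) u = true := ext_range (a := 114042) (len := 3968) h25 e6_25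
  have h27 : ∀ u < 122830, (fun u => chkE tab 6 u) u = true := ext_range (a := 118010) (len := 4820) h26 e6_26
  have h28 : ∀ u < 127624, (fun u => chkE tab 6 u) u = true := ext_range (a := 122830) (len := 4794) h27 e6_27
  have h29 : ∀ u < 131440, (fun u => chkE tab 6 u) u = true := ext_range (a := 127624) (len := 3816) h28 e6_28
  have h30 : ∀ u < 135366, (fun u => chkE tab 6 u) u = true := ext_range (a := 131440) (len := 3926) h29 e6_29
  have h31 : ∀ u < 139384, (fun u => chkE tab 6 u) u = true := ext_range (a := 135366) (len := 4018) h30 e6_30
  have h32 : ∀ u < 143676, (fun u => chkE tab 6 u) u = true := ext_range (a := 139384) (len := 4292) h31 e6_31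
  have h33 : ∀ u < 149216, (fun u => chkE tab 6 u) u = true := ext_range (a := 143676) (len := 5540) h32 e6_32
  have h34 : ∀ u < 153962, (fun u => chkE tab 6 u) u = true := ext_range (a := 149216) (len := 4746) h33 e6_33
  have h35 : ∀ u < 159081, (fun u => chkE tab 6 u) u = true := ext_range (a := 153962) (len := 5119) h34 e6_34
  have h36 : ∀ u < 164199, (fun u => chkE tab 6 u) u = true := ext_range (a := 159081) (len := 5118) h35 e6_35
  have h37 : ∀ u < 171459, (fun u => chkE tab 6 u) u = true := ext_range (a := 164199) (len := 7260) h36 e6_36
  have h38 : ∀ u < 179622, (fun u => chkE tab 6 u) u = true := ext_range (a := 171459) (len := 8163) h37 e6_37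
  have h39 : ∀ u < 186412, (fun u => chkE tab 6 u) u = true := ext_range (a := 179622) (len := 6790) h38 e6_38
  have h40 : ∀ u < 191849, (fun u => chkE tab 6 u) u = true := ext_range (a := 186412) (len := 5437) h39 e6_39
  have h41 : ∀ u < 194837, (fun u => chkE tab 6 u) u = true := ext_range (a := 191849) (len := 2988) h40 e6_40
  have h42 : ∀ u < 197249, (fun u => chkE tab 6 u) u = true := ext_range (a := 194837) (len := 2412) h41 e6_41
  have h43 : ∀ u < 199824, (fun u => chkE tab 6 u) u = true := ext_range (a := 197249) (len := 2575) h42 e6_42
  have h44 : ∀ u < 202328, (fun u => chkE tab 6 u) u = true := ext_range (a := 199824) (len := 2504) h43 e6_43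
  have h45 : ∀ u < 204889, (fun u => chkE tab 6 u) u = true := ext_range (a := 202328) (len := 2561) h44 e6_44
  have h46 : ∀ u < 207449, (fun u => chkE tab 6 u) u = true := ext_range (a := 204889) (len := 2560) h45 e6_45
  have h47 : ∀ u < 210141, (fun u => chkE tab 6 u) u = true := ext_range (a := 207449) (len := 2692) h46 e6_46
  have h48 : ∀ u < 212830, (fun u => chkE tab 6 u) u = true := ext_range (a := 210141) (len := 2689) h47 e6_47
  have h49 : ∀ u < 215535, (fun u => chkE tab 6 u) u = true := ext_range (a := 212830) (len := 2705) h48 e6_48
  have h50 : ∀ u < 218192, (fun u => chkE tab 6 u) u = true := ext_range (a := 215535) (len := 2657) h49 e6_49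
  have h51 : ∀ u < 221028, (fun u => chkE tab 6 u) u = true := ext_range (a := 218192) (len := 2836) h50 e6_50
  have h52 : ∀ u < 223932, (fun u => chkE tab 6 u) u = true := ext_range (a := 221028) (len := 2904) h51 e6_51
  have h53 : ∀ u < 227013, (fun u => chkE tab 6 u) u = true := ext_range (a := 223932) (len := 3081) h52 e6_52
  have h54 : ∀ u < 230506, (fun u => chkE tab 6 u) u = true := ext_range (a := 227013) (len := 3493) h53 e6_53
  have h55 : ∀ u < 231594, (fun u => chkE tab 6 u) u = true := ext_range (a := 230506) (len := 1088) h54 e6_54
  exact h55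

theorem hE7 : ∀ u < 231594, chkE tab 7 u = true := by
  have h0 : ∀ u < 0, (fun u => chkE tab 7 u) u = true := range_zero
  have h1 : ∀ u < 3458, (fun u => chkE tab 7 u) u = true := ext_range (a := 0) (len := 3458) h0 e7_0
  have h2 : ∀ u < 7037, (fun u => chkE tab 7 u) u = true := ext_range (a := 3458) (len := 3579) h1 e7_1
  have h3 : ∀ u < 10379, (fun u => chkE tab 7 u) u = true := ext_range (a := 7037) (len := 3342) h2 e7_2
  have h4 : ∀ u < 13838, (fun u => chkE tab 7 u) u = true := ext_range (a := 10379) (len := 3459) h3 e7_3
  have h5 : ∀ u < 17159, (fun u => chkE tab 7 u) u = true := ext_range (a := 13838) (len := 3321) h4 e7_4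
  have h6 : ∀ u < 20192, (fun u => chkE tab 7 u) u = true := ext_range (a := 17159) (len := 3033) h5 e7_5
  have h7 : ∀ u < 23643, (fun u => chkE tab 7 u) u = true := ext_range (a := 20192) (len := 3451) h6 e7_6
  have h8 : ∀ u < 27003, (fun u => chkE tab 7 u) u = true := ext_range (a := 23643) (len := 3360) h7 e7_7
  have h9 : ∀ u < 30294, (fun u => chkE tab 7 u) u = true := ext_range (a := 27003) (len := 3291) h8 e7_8
  have h10 : ∀ u < 33281, (fun u => chkE tab 7 u) u = true := ext_range (a := 30294) (len := 2987) h9 e7_9
  have h11 : ∀ u < 36340, (fun u => chkE tab 7 u) u = true := ext_range (a := 33281) (len := 3059) h10 e7_10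
  have h12 : ∀ u < 39581, (fun u => chkE tab 7 u) u = true := ext_range (a := 36340) (len := 3241) h11 e7_11
  have h13 : ∀ u < 42927, (fun u => chkE tab 7 u) u = true := ext_range (a := 39581) (len := 3346) h12 e7_12
  have h14 : ∀ u < 45907, (fun u => chkE tab 7 u) u = true := ext_range (a := 42927) (len := 2980) h13 e7_13
  have h15 : ∀ u < 48982, (fun u => chkE tab 7 u) u = true := ext_range (a := 45907) (len := 3075) h14 e7_14
  have h16 : ∀ u < 52022, (fun u => chkE tab 7 u) u = true := ext_range (a := 48982) (len := 3040) h15 e7_15
  have h17 : ∀ u < 55505, (fun u => chkE tab 7 u) u = true := ext_range (a := 52022) (len := 3483) h16 e7_16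
  have h18 : ∀ u < 59252, (fun u => chkE tab 7 u) u = true := ext_range (a := 55505) (len := 3747) h17 e7_17
  have h19 : ∀ u < 62436, (fun u => chkE tab 7 u) u = true := ext_range (a := 59252) (len := 3184) h18 e7_18
  have h20 : ∀ u < 65798, (fun u => chkE tab 7 u) u = true := ext_range (a := 62436) (len := 3362) h19 e7_19
  have h21 : ∀ u < 69008, (fun u => chkE tab 7 u) u = true := ext_range (a := 65798) (len := 3210) h20 e7_20
  have h22 : ∀ u < 72128, (fun u => chkE tab 7 u) u = true := ext_range (a := 69008) (len := 3120) h21 e7_21
  have h23 : ∀ u < 75528, (fun u => chkE tab 7 u) u = true := ext_range (a := 72128) (len := 3400) h22 e7_22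
  have h24 : ∀ u < 79143, (fun u => chkE tab 7 u) u = true := ext_range (a := 75528) (len := 3615) h23 e7_23
  have h25 : ∀ u < 82258, (fun u => chkE tab 7 u) u = true := ext_range (a := 79143) (len := 3115) h24 e7_24
  have h26 : ∀ u < 85049, (fun u => chkE tab 7 u) u = true := ext_range (a := 82258) (len := 2791) h25 e7_25
  have h27 : ∀ u < 88137, (fun u => chkE tab 7 u) u = true := ext_range (a := 85049) (len := 3088) h26 e7_26
  have h28 : ∀ u < 91244, (fun u => chkE tab 7 u) u = true := ext_range (a := 88137) (len := 3107) h27 e7_27
  have h29 : ∀ u < 95242, (fun u => chkE tab 7 u) u = true := ext_range (a := 91244) (len := 3998) h28 e7_28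
  have h30 : ∀ u < 99436, (fun u => chkE tab 7 u) u = true := ext_range (a := 95242) (len := 4194) h29 e7_29
  have h31 : ∀ u < 103573, (fun u => chkE tab 7 u) u = true := ext_range (a := 99436) (len := 4137) h30 e7_30
  have h32 : ∀ u < 108139, (fun u => chkE tab 7 u) u = true := ext_range (a := 103573) (len := 4566) h31 e7_31
  have h33 : ∀ u < 111393, (fun u => chkE tab 7 u) u = true := ext_range (a := 108139) (len := 3254) h32 e7_32
  have h34 : ∀ u < 115362, (fun u => chkE tab 7 u) u = true := ext_range (a := 111393) (len := 3969) h33 e7_33
  have h35 : ∀ u < 118992, (fun u => chkE tab 7 u) u = true := ext_range (a := 115362) (len := 3630) h34 e7_34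
  have h36 : ∀ u < 123405, (fun u => chkE tab 7 u) u = true := ext_range (a := 118992) (len := 4413) h35 e7_35
  have h37 : ∀ u < 127540, (fun u => chkE tab 7 u) u = true := ext_range (a := 123405) (len := 4135) h36 e7_36
  have h38 : ∀ u < 131319, (fun u => chkE tab 7 u) u = true := ext_range (a := 127540) (len := 3779) h37 e7_37
  have h39 : ∀ u < 134454, (fun u => chkE tab 7 u) u = true := ext_range (a := 131319) (len := 3135) h38 e7_38
  have h40 : ∀ u < 138320, (fun u => chkE tab 7 u) u = true := ext_range (a := 134454) (len := 3866) h39 e7_39
  have h41 : ∀ u < 142009, (fun u => chkE tab 7 u) u = true := ext_range (a := 138320) (len := 3689) h40 e7_40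
  have h42 : ∀ u < 146772, (fun u => chkE tab 7 u) u = true := ext_range (a := 142009) (len := 4763) h41 e7_41
  have h43 : ∀ u < 151435, (fun u => chkE tab 7 u) u = true := ext_range (a := 146772) (len := 4663) h42 e7_42
  have h44 : ∀ u < 155835, (fun u => chkE tab 7 u) u = true := ext_range (a := 151435) (len := 4400) h43 e7_43
  have h45 : ∀ u < 161092, (fun u => chkE tab 7 u) u = true := ext_range (a := 155835) (len := 5257) h44 e7_44
  have h46 : ∀ u < 166021, (fun u => chkE tab 7 u) u = true := ext_range (a := 161092) (len := 4929) h45 e7_45
  have h47 : ∀ u < 172121, (fun u => chkE tab 7 u) u = true := ext_range (a := 166021) (len := 6100) h46 e7_46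
  have h48 : ∀ u < 178361, (fun u => chkE tab 7 u) u = true := ext_range (a := 172121) (len := 6240) h47 e7_47
  have h49 : ∀ u < 184697, (fun u => chkE tab 7 u) u = true := ext_range (a := 178361) (len := 6336) h48 e7_48
  have h50 : ∀ u < 190553, (fun u => chkE tab 7 u) u = true := ext_range (a := 184697) (len := 5856) h49 e7_49
  have h51 : ∀ u < 194418, (fun u => chkE tab 7 u) u = true := ext_range (a := 190553) (len := 3865) h50 e7_50
  have h52 : ∀ u < 197011, (fun u => chkE tab 7 u) u = true := ext_range (a := 194418) (len := 2593) h51 e7_51
  have h53 : ∀ u < 199630, (fun u => chkE tab 7 u) u = true := ext_range (a := 197011) (len := 2619) h52 e7_52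
  have h54 : ∀ u < 202366, (fun u => chkE tab 7 u) u = true := ext_range (a := 199630) (len := 2736) h53 e7_53
  have h55 : ∀ u < 205200, (fun u => chkE tab 7 u) u = true := ext_range (a := 202366) (len := 2834) h54 e7_54
  have h56 : ∀ u < 207889, (fun u => chkE tab 7 u) u = true := ext_range (a := 205200) (len := 2689) h55 e7_55
  have h57 : ∀ u < 210813, (fun u => chkE tab 7 u) u = true := ext_range (a := 207889) (len := 2924) h56 e7_56
  have h58 : ∀ u < 213723, (fun u => chkE tab 7 u) u = true := ext_range (a := 210813) (len := 2910) h57 e7_57
  have h59 : ∀ u < 216429, (fun u => chkE tab 7 u) u = true := ext_range (a := 213723) (len := 2706) h58 e7_58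
  have h60 : ∀ u < 219308, (fun u => chkE tab 7 u) u = true := ext_range (a := 216429) (len := 2879) h59 e7_59
  have h61 : ∀ u < 222426, (fun u => chkE tab 7 u) u = true := ext_range (a := 219308) (len := 3118) h60 e7_60
  have h62 : ∀ u < 225693, (fun u => chkE tab 7 u) u = true := ext_range (a := 222426) (len := 3267) h61 e7_61
  have h63 : ∀ u < 229129, (fun u => chkE tab 7 u) u = true := ext_range (a := 225693) (len := 3436) h62 e7_62
  have h64 : ∀ u < 231594, (fun u => chkE tab 7 u) u = true := ext_range (a := 229129) (len := 2465) h63 e7_63
  exact h64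

theorem hL : ∀ u < 231594, chkL tab u = true := by
  have h0 : ∀ u < 0, (fun u => chkL tab u) u = true := range_zero
  have h1 : ∀ u < 4259, (fun u => chkL tab u) u = true := ext_range (a := 0) (len := 4259) h0 l_0
  have h2 : ∀ u < 7942, (fun u => chkL tab u) u = true := ext_range (a := 4259) (len := 3683) h1 l_1
  have h3 : ∀ u < 10916, (fun u => chkL tab u) u = true := ext_range (a := 7942) (len := 2974) h2 l_2
  have h4 : ∀ u < 15992, (fun u => chkL tab u) u = true := ext_range (a := 10916) (len := 5076) h3 l_3
  have h5 : ∀ u < 19244, (fun u => chkL tab u) u = true := ext_range (a := 15992) (len := 3252) h4 l_4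
  have h6 : ∀ u < 22092, (fun u => chkL tab u) u = true := ext_range (a := 19244) (len := 2848) h5 l_5
  have h7 : ∀ u < 25317, (fun u => chkL tab u) u = true := ext_range (a := 22092) (len := 3225) h6 l_6
  have h8 : ∀ u < 30600, (fun u => chkL tab u) u = true := ext_range (a := 25317) (len := 5283) h7 l_7
  have h9 : ∀ u < 35045, (fun u => chkL tab u) u = true := ext_range (a := 30600) (len := 4445) h8 l_8
  have h10 : ∀ u < 38071, (fun u => chkL tab u) u = true := ext_range (a := 35045) (len := 3026) h9 l_9
  have h11 : ∀ u < 40501, (fun u => chkL tab u) u = true := ext_range (a := 38071) (len := 2430) h10 l_10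
  have h12 : ∀ u < 43220, (fun u => chkL tab u) u = true := ext_range (a := 40501) (len := 2719) h11 l_11
  have h13 : ∀ u < 45527, (fun u => chkL tab u) u = true := ext_range (a := 43220) (len := 2307) h12 l_12
  have h14 : ∀ u < 48774, (fun u => chkL tab u) u = true := ext_range (a := 45527) (len := 3247) h13 l_13
  have h15 : ∀ u < 53462, (fun u => chkL tab u) u = true := ext_range (a := 48774) (len := 4688) h14 l_14
  have h16 : ∀ u < 57265, (fun u => chkL tab u) u = true := ext_range (a := 53462) (len := 3803) h15 l_15
  have h17 : ∀ u < 59321, (fun u => chkL tab u) u = true := ext_range (a := 57265) (len := 2056) h16 l_16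
  have h18 : ∀ u < 63362, (fun u => chkL tab u) u = true := ext_range (a := 59321) (len := 4041) h17 l_17
  have h19 : ∀ u < 67119, (fun u => chkL tab u) u = true := ext_range (a := 63362) (len := 3757) h18 l_18
  have h20 : ∀ u < 70012, (fun u => chkL tab u) u = true := ext_range (a := 67119) (len := 2893) h19 l_19
  have h21 : ∀ u < 72620, (fun u => chkL tab u) u = true := ext_range (a := 70012) (len := 2608) h20 l_20
  have h22 : ∀ u < 75102, (fun u => chkL tab u) u = true := ext_range (a := 72620) (len := 2482) h21 l_21
  have h23 : ∀ u < 77445, (fun u => chkL tab u) u = true := ext_range (a := 75102) (len := 2343) h22 l_22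
  have h24 : ∀ u < 79677, (fun u => chkL tab u) u = true := ext_range (a := 77445) (len := 2232) h23 l_23
  have h25 : ∀ u < 81844, (fun u => chkL tab u) u = true := ext_range (a := 79677) (len := 2167) h24 l_24
  have h26 : ∀ u < 83696, (fun u => chkL tab u) u = true := ext_range (a := 81844) (len := 1852) h25 l_25
  have h27 : ∀ u < 86195, (fun u => chkL tab u) u = true := ext_range (a := 83696) (len := 2499) h26 l_26
  have h28 : ∀ u < 88394, (fun u => chkL tab u) u = true := ext_range (a := 86195) (len := 2199) h27 l_27
  have h29 : ∀ u < 91075, (fun u => chkL tab u) u = true := ext_range (a := 88394) (len := 2681) h28 l_28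
  have h30 : ∀ u < 93589, (fun u => chkL tab u) u = true := ext_range (a := 91075) (len := 2514) h29 l_29
  have h31 : ∀ u < 95944, (fun u => chkL tab u) u = true := ext_range (a := 93589) (len := 2355) h30 l_30
  have h32 : ∀ u < 98358, (fun u => chkL tab u) u = true := ext_range (a := 95944) (len := 2414) h31 l_31
  have h33 : ∀ u < 100611, (fun u => chkL tab u) u = true := ext_range (a := 98358) (len := 2253) h32 l_32
  have h34 : ∀ u < 103091, (fun u => chkL tab u) u = true := ext_range (a := 100611) (len := 2480) h33 l_33
  have h35 : ∀ u < 105612, (fun u => chkL tab u) u = true := ext_range (a := 103091) (len := 2521) h34 l_34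
  have h36 : ∀ u < 108075, (fun u => chkL tab u) u = true := ext_range (a := 105612) (len := 2463) h35 l_35
  have h37 : ∀ u < 111739, (fun u => chkL tab u) u = true := ext_range (a := 108075) (len := 3664) h36 l_36
  have h38 : ∀ u < 114494, (fun u => chkL tab u) u = true := ext_range (a := 111739) (len := 2755) h37 l_37
  have h39 : ∀ u < 118173, (fun u => chkL tab u) u = true := ext_range (a := 114494) (len := 3679) h38 l_38
  have h40 : ∀ u < 120383, (fun u => chkL tab u) u = true := ext_range (a := 118173) (len := 2210) h39 l_39
  have h41 : ∀ u < 122474, (fun u => chkL tab u) u = true := ext_range (a := 120383) (len := 2091) h40 l_40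
  have h42 : ∀ u < 124435, (fun u => chkL tab u) u = true := ext_range (a := 122474) (len := 1961) h41 l_41
  have h43 : ∀ u < 126497, (fun u => chkL tab u) u = true := ext_range (a := 124435) (len := 2062) h42 l_42
  have h44 : ∀ u < 129135, (fun u => chkL tab u) u = true := ext_range (a := 126497) (len := 2638) h43 l_43
  have h45 : ∀ u < 131997, (fun u => chkL tab u) u = true := ext_range (a := 129135) (len := 2862) h44 l_44
  have h46 : ∀ u < 134329, (fun u => chkL tab u) u = true := ext_range (a := 131997) (len := 2332) h45 l_45
  have h47 : ∀ u < 136861, (fun u => chkL tab u) u = true := ext_range (a := 134329) (len := 2532) h46 l_46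
  have h48 : ∀ u < 139948, (fun u => chkL tab u) u = true := ext_range (a := 136861) (len := 3087) h47 l_47
  have h49 : ∀ u < 142152, (fun u => chkL tab u) u = true := ext_range (a := 139948) (len := 2204) h48 l_48
  have h50 : ∀ u < 144484, (fun u => chkL tab u) u = true := ext_range (a := 142152) (len := 2332) h49 l_49
  have h51 : ∀ u < 146427, (fun u => chkL tab u) u = true := ext_range (a := 144484) (len := 1943) h50 l_50
  have h52 : ∀ u < 148609, (fun u => chkL tab u) u = true := ext_range (a := 146427) (len := 2182) h51 l_51
  have h53 : ∀ u < 150632, (fun u => chkL tab u) u = true := ext_range (a := 148609) (len := 2023) h52 l_52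
  have h54 : ∀ u < 152604, (fun u => chkL tab u) u = true := ext_range (a := 150632) (len := 1972) h53 l_53
  have h55 : ∀ u < 154357, (fun u => chkL tab u) u = true := ext_range (a := 152604) (len := 1753) h54 l_54
  have h56 : ∀ u < 156432, (fun u => chkL tab u) u = true := ext_range (a := 154357) (len := 2075) h55 l_55
  have h57 : ∀ u < 158509, (fun u => chkL tab u) u = true := ext_range (a := 156432) (len := 2077) h56 l_56
  have h58 : ∀ u < 160615, (fun u => chkL tab u) u = true := ext_range (a := 158509) (len := 2106) h57 l_57
  have h59 : ∀ u < 162523, (fun u => chkL tab u) u = true := ext_range (a := 160615) (len := 1908) h58 l_58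
  have h60 : ∀ u < 164488, (fun u => chkL tab u) u = true := ext_range (a := 162523) (len := 1965) h59 l_59
  have h61 : ∀ u < 166167, (fun u => chkL tab u) u = true := ext_range (a := 164488) (len := 1679) h60 l_60
  have h62 : ∀ u < 168033, (fun u => chkL tab u) u = true := ext_range (a := 166167) (len := 1866) h61 l_61
  have h63 : ∀ u < 169678, (fun u => chkL tab u) u = true := ext_range (a := 168033) (len := 1645) h62 l_62
  have h64 : ∀ u < 171420, (fun u => chkL tab u) u = true := ext_range (a := 169678) (len := 1742) h63 l_63
  have h65 : ∀ u < 173009, (fun u => chkL tab u) u = true := ext_range (a := 171420) (len := 1589) h64 l_64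
  have h66 : ∀ u < 174699, (fun u => chkL tab u) u = true := ext_range (a := 173009) (len := 1690) h65 l_65
  have h67 : ∀ u < 176334, (fun u => chkL tab u) u = true := ext_range (a := 174699) (len := 1635) h66 l_66
  have h68 : ∀ u < 178184, (fun u => chkL tab u) u = true := ext_range (a := 176334) (len := 1850) h67 l_67
  have h69 : ∀ u < 179863, (fun u => chkL tab u) u = true := ext_range (a := 178184) (len := 1679) h68 l_68
  have h70 : ∀ u < 181722, (fun u => chkL tab u) u = true := ext_range (a := 179863) (len := 1859) h69 l_69
  have h71 : ∀ u < 183407, (fun u => chkL tab u) u = true := ext_range (a := 181722) (len := 1685) h70 l_70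
  have h72 : ∀ u < 185120, (fun u => chkL tab u) u = true := ext_range (a := 183407) (len := 1713) h71 l_71
  have h73 : ∀ u < 187005, (fun u => chkL tab u) u = true := ext_range (a := 185120) (len := 1885) h72 l_72
  have h74 : ∀ u < 188799, (fun u => chkL tab u) u = true := ext_range (a := 187005) (len := 1794) h73 l_73
  have h75 : ∀ u < 190880, (fun u => chkL tab u) u = true := ext_range (a := 188799) (len := 2081) h74 l_74
  have h76 : ∀ u < 193385, (fun u => chkL tab u) u = true := ext_range (a := 190880) (len := 2505) h75 l_75
  have h77 : ∀ u < 214382, (fun u => chkL tab u) u = true := ext_range (a := 193385) (len := 20997) h76 l_76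
  have h78 : ∀ u < 231594, (fun u => chkL tab u) u = true := ext_range (a := 214382) (len := 17212) h77 l_77
  exact h78

theorem hF : ∀ u < 122760, chkFin tab u = true := by
  have h0 : ∀ u < 0, (fun u => chkFin tab u) u = true := range_zero
  have h1 : ∀ u < 308, (fun u => chkFin tab u) u = true := ext_range (a := 0) (len := 308) h0 f_0
  have h2 : ∀ u < 616, (fun u => chkFin tab u) u = true := ext_range (a := 308) (len := 308) h1 f_1
  have h3 : ∀ u < 924, (fun u => chkFin tab u) u = true := ext_range (a := 616) (len := 308) h2 f_2
  have h4 : ∀ u < 1232, (fun u => chkFin tab u) u = true := ext_range (a := 924) (len := 308) h3 f_3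
  have h5 : ∀ u < 1540, (fun u => chkFin tab u) u = true := ext_range (a := 1232) (len := 308) h4 f_4
  have h6 : ∀ u < 1848, (fun u => chkFin tab u) u = true := ext_range (a := 1540) (len := 308) h5 f_5
  have h7 : ∀ u < 2156, (fun u => chkFin tab u) u = true := ext_range (a := 1848) (len := 308) h6 f_6
  have h8 : ∀ u < 2464, (fun u => chkFin tab u) u = true := ext_range (a := 2156) (len := 308) h7 f_7
  have h9 : ∀ u < 2772, (fun u => chkFin tab u) u = true := ext_range (a := 2464) (len := 308) h8 f_8
  have h10 : ∀ u < 3080, (fun u => chkFin tab u) u = true := ext_range (a := 2772) (len := 308) h9 f_9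
  have h11 : ∀ u < 3388, (fun u => chkFin tab u) u = true := ext_range (a := 3080) (len := 308) h10 f_10
  have h12 : ∀ u < 3696, (fun u => chkFin tab u) u = true := ext_range (a := 3388) (len := 308) h11 f_11
  have h13 : ∀ u < 4004, (fun u => chkFin tab u) u = true := ext_range (a := 3696) (len := 308) h12 f_12
  have h14 : ∀ u < 4312, (fun u => chkFin tab u) u = true := ext_range (a := 4004) (len := 308) h13 f_13
  have h15 : ∀ u < 4620, (fun u => chkFin tab u) u = true := ext_range (a := 4312) (len := 308) h14 f_14
  have h16 : ∀ u < 4928, (fun u => chkFin tab u) u = true := ext_range (a := 4620) (len := 308) h15 f_15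
  have h17 : ∀ u < 5236, (fun u => chkFin tab u) u = true := ext_range (a := 4928) (len := 308) h16 f_16
  have h18 : ∀ u < 5544, (fun u => chkFin tab u) u = true := ext_range (a := 5236) (len := 308) h17 f_17
  have h19 : ∀ u < 5852, (fun u => chkFin tab u) u = true := ext_range (a := 5544) (len := 308) h18 f_18
  have h20 : ∀ u < 6160, (fun u => chkFin tab u) u = true := ext_range (a := 5852) (len := 308) h19 f_19
  have h21 : ∀ u < 6468, (fun u => chkFin tab u) u = true := ext_range (a := 6160) (len := 308) h20 f_20
  have h22 : ∀ u < 6776, (fun u => chkFin tab u) u = true := ext_range (a := 6468) (len := 308) h21 f_21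
  have h23 : ∀ u < 7084, (fun u => chkFin tab u) u = true := ext_range (a := 6776) (len := 308) h22 f_22
  have h24 : ∀ u < 7392, (fun u => chkFin tab u) u = true := ext_range (a := 7084) (len := 308) h23 f_23
  have h25 : ∀ u < 7700, (fun u => chkFin tab u) u = true := ext_range (a := 7392) (len := 308) h24 f_24
  have h26 : ∀ u < 8008, (fun u => chkFin tab u) u = true := ext_range (a := 7700) (len := 308) h25 f_25
  have h27 : ∀ u < 8316, (fun u => chkFin tab u) u = true := ext_range (a := 8008) (len := 308) h26 f_26
  have h28 : ∀ u < 8624, (fun u => chkFin tab u) u = true := ext_range (a := 8316) (len := 308) h27 f_27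
  have h29 : ∀ u < 8932, (fun u => chkFin tab u) u = true := ext_range (a := 8624) (len := 308) h28 f_28
  have h30 : ∀ u < 9240, (fun u => chkFin tab u) u = true := ext_range (a := 8932) (len := 308) h29 f_29
  have h31 : ∀ u < 9548, (fun u => chkFin tab u) u = true := ext_range (a := 9240) (len := 308) h30 f_30
  have h32 : ∀ u < 9856, (fun u => chkFin tab u) u = true := ext_range (a := 9548) (len := 308) h31 f_31
  have h33 : ∀ u < 10164, (fun u => chkFin tab u) u = true := ext_range (a := 9856) (len := 308) h32 f_32
  have h34 : ∀ u < 10472, (fun u => chkFin tab u) u = true := ext_range (a := 10164) (len := 308) h33 f_33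
  have h35 : ∀ u < 10780, (fun u => chkFin tab u) u = true := ext_range (a := 10472) (len := 308) h34 f_34
  have h36 : ∀ u < 11088, (fun u => chkFin tab u) u = true := ext_range (a := 10780) (len := 308) h35 f_35
  have h37 : ∀ u < 11396, (fun u => chkFin tab u) u = true := ext_range (a := 11088) (len := 308) h36 f_36
  have h38 : ∀ u < 11704, (fun u => chkFin tab u) u = true := ext_range (a := 11396) (len := 308) h37 f_37
  have h39 : ∀ u < 12012, (fun u => chkFin tab u) u = true := ext_range (a := 11704) (len := 308) h38 f_38
  have h40 : ∀ u < 12320, (fun u => chkFin tab u) u = true := ext_range (a := 12012) (len := 308) h39 f_39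
  have h41 : ∀ u < 12628, (fun u => chkFin tab u) u = true := ext_range (a := 12320) (len := 308) h40 f_40
  have h42 : ∀ u < 12936, (fun u => chkFin tab u) u = true := ext_range (a := 12628) (len := 308) h41 f_41
  have h43 : ∀ u < 13244, (fun u => chkFin tab u) u = true := ext_range (a := 12936) (len := 308) h42 f_42
  have h44 : ∀ u < 13552, (fun u => chkFin tab u) u = true := ext_range (a := 13244) (len := 308) h43 f_43
  have h45 : ∀ u < 13860, (fun u => chkFin tab u) u = true := ext_range (a := 13552) (len := 308) h44 f_44
  have h46 : ∀ u < 14168, (fun u => chkFin tab u) u = true := ext_range (a := 13860) (len := 308) h45 f_45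
  have h47 : ∀ u < 14476, (fun u => chkFin tab u) u = true := ext_range (a := 14168) (len := 308) h46 f_46
  have h48 : ∀ u < 14784, (fun u => chkFin tab u) u = true := ext_range (a := 14476) (len := 308) h47 f_47
  have h49 : ∀ u < 15092, (fun u => chkFin tab u) u = true := ext_range (a := 14784) (len := 308) h48 f_48
  have h50 : ∀ u < 15400, (fun u => chkFin tab u) u = true := ext_range (a := 15092) (len := 308) h49 f_49
  have h51 : ∀ u < 15708, (fun u => chkFin tab u) u = true := ext_range (a := 15400) (len := 308) h50 f_50
  have h52 : ∀ u < 16016, (fun u => chkFin tab u) u = true := ext_range (a := 15708) (len := 308) h51 f_51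
  have h53 : ∀ u < 16324, (fun u => chkFin tab u) u = true := ext_range (a := 16016) (len := 308) h52 f_52
  have h54 : ∀ u < 16632, (fun u => chkFin tab u) u = true := ext_range (a := 16324) (len := 308) h53 f_53
  have h55 : ∀ u < 16940, (fun u => chkFin tab u) u = true := ext_range (a := 16632) (len := 308) h54 f_54
  have h56 : ∀ u < 17248, (fun u => chkFin tab u) u = true := ext_range (a := 16940) (len := 308) h55 f_55
  have h57 : ∀ u < 17556, (fun u => chkFin tab u) u = true := ext_range (a := 17248) (len := 308) h56 f_56
  have h58 : ∀ u < 17864, (fun u => chkFin tab u) u = true := ext_range (a := 17556) (len := 308) h57 f_57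
  have h59 : ∀ u < 18172, (fun u => chkFin tab u) u = true := ext_range (a := 17864) (len := 308) h58 f_58
  have h60 : ∀ u < 18480, (fun u => chkFin tab u) u = true := ext_range (a := 18172) (len := 308) h59 f_59
  have h61 : ∀ u < 18788, (fun u => chkFin tab u) u = true := ext_range (a := 18480) (len := 308) h60 f_60
  have h62 : ∀ u < 19096, (fun u => chkFin tab u) u = true := ext_range (a := 18788) (len := 308) h61 f_61
  have h63 : ∀ u < 19404, (fun u => chkFin tab u) u = true := ext_range (a := 19096) (len := 308) h62 f_62
  have h64 : ∀ u < 19712, (fun u => chkFin tab u) u = true := ext_range (a := 19404) (len := 308) h63 f_63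
  have h65 : ∀ u < 20020, (fun u => chkFin tab u) u = true := ext_range (a := 19712) (len := 308) h64 f_64
  have h66 : ∀ u < 20328, (fun u => chkFin tab u) u = true := ext_range (a := 20020) (len := 308) h65 f_65
  have h67 : ∀ u < 20636, (fun u => chkFin tab u) u = true := ext_range (a := 20328) (len := 308) h66 f_66
  have h68 : ∀ u < 20944, (fun u => chkFin tab u) u = true := ext_range (a := 20636) (len := 308) h67 f_67
  have h69 : ∀ u < 21252, (fun u => chkFin tab u) u = true := ext_range (a := 20944) (len := 308) h68 f_68
  have h70 : ∀ u < 21560, (fun u => chkFin tab u) u = true := ext_range (a := 21252) (len := 308) h69 f_69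
  have h71 : ∀ u < 21868, (fun u => chkFin tab u) u = true := ext_range (a := 21560) (len := 308) h70 f_70
  have h72 : ∀ u < 22176, (fun u => chkFin tab u) u = true := ext_range (a := 21868) (len := 308) h71 f_71
  have h73 : ∀ u < 22484, (fun u => chkFin tab u) u = true := ext_range (a := 22176) (len := 308) h72 f_72
  have h74 : ∀ u < 22792, (fun u => chkFin tab u) u = true := ext_range (a := 22484) (len := 308) h73 f_73
  have h75 : ∀ u < 23100, (fun u => chkFin tab u) u = true := ext_range (a := 22792) (len := 308) h74 f_74
  have h76 : ∀ u < 23408, (fun u => chkFin tab u) u = true := ext_range (a := 23100) (len := 308) h75 f_75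
  have h77 : ∀ u < 23716, (fun u => chkFin tab u) u = true := ext_range (a := 23408) (len := 308) h76 f_76
  have h78 : ∀ u < 24024, (fun u => chkFin tab u) u = true := ext_range (a := 23716) (len := 308) h77 f_77
  have h79 : ∀ u < 24332, (fun u => chkFin tab u) u = true := ext_range (a := 24024) (len := 308) h78 f_78
  have h80 : ∀ u < 24640, (fun u => chkFin tab u) u = true := ext_range (a := 24332) (len := 308) h79 f_79
  have h81 : ∀ u < 24948, (fun u => chkFin tab u) u = true := ext_range (a := 24640) (len := 308) h80 f_80
  have h82 : ∀ u < 25256, (fun u => chkFin tab u) u = true := ext_range (a := 24948) (len := 308) h81 f_81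
  have h83 : ∀ u < 25564, (fun u => chkFin tab u) u = true := ext_range (a := 25256) (len := 308) h82 f_82
  have h84 : ∀ u < 25872, (fun u => chkFin tab u) u = true := ext_range (a := 25564) (len := 308) h83 f_83
  have h85 : ∀ u < 26180, (fun u => chkFin tab u) u = true := ext_range (a := 25872) (len := 308) h84 f_84
  have h86 : ∀ u < 26488, (fun u => chkFin tab u) u = true := ext_range (a := 26180) (len := 308) h85 f_85
  have h87 : ∀ u < 26796, (fun u => chkFin tab u) u = true := ext_range (a := 26488) (len := 308) h86 f_86
  have h88 : ∀ u < 27104, (fun u => chkFin tab u) u = true := ext_range (a := 26796) (len := 308) h87 f_87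
  have h89 : ∀ u < 27412, (fun u => chkFin tab u) u = true := ext_range (a := 27104) (len := 308) h88 f_88
  have h90 : ∀ u < 27720, (fun u => chkFin tab u) u = true := ext_range (a := 27412) (len := 308) h89 f_89
  have h91 : ∀ u < 28028, (fun u => chkFin tab u) u = true := ext_range (a := 27720) (len := 308) h90 f_90
  have h92 : ∀ u < 28336, (fun u => chkFin tab u) u = true := ext_range (a := 28028) (len := 308) h91 f_91
  have h93 : ∀ u < 28644, (fun u => chkFin tab u) u = true := ext_range (a := 28336) (len := 308) h92 f_92
  have h94 : ∀ u < 28952, (fun u => chkFin tab u) u = true := ext_range (a := 28644) (len := 308) h93 f_93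
  have h95 : ∀ u < 29260, (fun u => chkFin tab u) u = true := ext_range (a := 28952) (len := 308) h94 f_94
  have h96 : ∀ u < 29568, (fun u => chkFin tab u) u = true := ext_range (a := 29260) (len := 308) h95 f_95
  have h97 : ∀ u < 29876, (fun u => chkFin tab u) u = true := ext_range (a := 29568) (len := 308) h96 f_96
  have h98 : ∀ u < 30184, (fun u => chkFin tab u) u = true := ext_range (a := 29876) (len := 308) h97 f_97
  have h99 : ∀ u < 30492, (fun u => chkFin tab u) u = true := ext_range (a := 30184) (len := 308) h98 f_98
  have h100 : ∀ u < 30800, (fun u => chkFin tab u) u = true := ext_range (a := 30492) (len := 308) h99 f_99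
  have h101 : ∀ u < 31108, (fun u => chkFin tab u) u = true := ext_range (a := 30800) (len := 308) h100 f_100
  have h102 : ∀ u < 31416, (fun u => chkFin tab u) u = true := ext_range (a := 31108) (len := 308) h101 f_101
  have h103 : ∀ u < 31724, (fun u => chkFin tab u) u = true := ext_range (a := 31416) (len := 308) h102 f_102
  have h104 : ∀ u < 32032, (fun u => chkFin tab u) u = true := ext_range (a := 31724) (len := 308) h103 f_103
  have h105 : ∀ u < 32340, (fun u => chkFin tab u) u = true := ext_range (a := 32032) (len := 308) h104 f_104
  have h106 : ∀ u < 32648, (fun u => chkFin tab u) u = true := ext_range (a := 32340) (len := 308) h105 f_105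
  have h107 : ∀ u < 32956, (fun u => chkFin tab u) u = true := ext_range (a := 32648) (len := 308) h106 f_106
  have h108 : ∀ u < 33264, (fun u => chkFin tab u) u = true := ext_range (a := 32956) (len := 308) h107 f_107
  have h109 : ∀ u < 33572, (fun u => chkFin tab u) u = true := ext_range (a := 33264) (len := 308) h108 f_108
  have h110 : ∀ u < 33880, (fun u => chkFin tab u) u = true := ext_range (a := 33572) (len := 308) h109 f_109
  have h111 : ∀ u < 34188, (fun u => chkFin tab u) u = true := ext_range (a := 33880) (len := 308) h110 f_110
  have h112 : ∀ u < 34496, (fun u => chkFin tab u) u = true := ext_range (a := 34188) (len := 308) h111 f_111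
  have h113 : ∀ u < 34804, (fun u => chkFin tab u) u = true := ext_range (a := 34496) (len := 308) h112 f_112
  have h114 : ∀ u < 35112, (fun u => chkFin tab u) u = true := ext_range (a := 34804) (len := 308) h113 f_113
  have h115 : ∀ u < 35420, (fun u => chkFin tab u) u = true := ext_range (a := 35112) (len := 308) h114 f_114
  have h116 : ∀ u < 35728, (fun u => chkFin tab u) u = true := ext_range (a := 35420) (len := 308) h115 f_115
  have h117 : ∀ u < 36036, (fun u => chkFin tab u) u = true := ext_range (a := 35728) (len := 308) h116 f_116
  have h118 : ∀ u < 36344, (fun u => chkFin tab u) u = true := ext_range (a := 36036) (len := 308) h117 f_117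
  have h119 : ∀ u < 36652, (fun u => chkFin tab u) u = true := ext_range (a := 36344) (len := 308) h118 f_118
  have h120 : ∀ u < 36960, (fun u => chkFin tab u) u = true := ext_range (a := 36652) (len := 308) h119 f_119
  have h121 : ∀ u < 37268, (fun u => chkFin tab u) u = true := ext_range (a := 36960) (len := 308) h120 f_120
  have h122 : ∀ u < 37576, (fun u => chkFin tab u) u = true := ext_range (a := 37268) (len := 308) h121 f_121
  have h123 : ∀ u < 37884, (fun u => chkFin tab u) u = true := ext_range (a := 37576) (len := 308) h122 f_122
  have h124 : ∀ u < 38192, (fun u => chkFin tab u) u = true := ext_range (a := 37884) (len := 308) h123 f_123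
  have h125 : ∀ u < 38500, (fun u => chkFin tab u) u = true := ext_range (a := 38192) (len := 308) h124 f_124
  have h126 : ∀ u < 38808, (fun u => chkFin tab u) u = true := ext_range (a := 38500) (len := 308) h125 f_125
  have h127 : ∀ u < 39116, (fun u => chkFin tab u) u = true := ext_range (a := 38808) (len := 308) h126 f_126
  have h128 : ∀ u < 39424, (fun u => chkFin tab u) u = true := ext_range (a := 39116) (len := 308) h127 f_127
  have h129 : ∀ u < 39732, (fun u => chkFin tab u) u = true := ext_range (a := 39424) (len := 308) h128 f_128
  have h130 : ∀ u < 40040, (fun u => chkFin tab u) u = true := ext_range (a := 39732) (len := 308) h129 f_129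
  have h131 : ∀ u < 40348, (fun u => chkFin tab u) u = true := ext_range (a := 40040) (len := 308) h130 f_130
  have h132 : ∀ u < 40656, (fun u => chkFin tab u) u = true := ext_range (a := 40348) (len := 308) h131 f_131
  have h133 : ∀ u < 40964, (fun u => chkFin tab u) u = true := ext_range (a := 40656) (len := 308) h132 f_132
  have h134 : ∀ u < 41272, (fun u => chkFin tab u) u = true := ext_range (a := 40964) (len := 308) h133 f_133
  have h135 : ∀ u < 41580, (fun u => chkFin tab u) u = true := ext_range (a := 41272) (len := 308) h134 f_134
  have h136 : ∀ u < 41888, (fun u => chkFin tab u) u = true := ext_range (a := 41580) (len := 308) h135 f_135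
  have h137 : ∀ u < 42196, (fun u => chkFin tab u) u = true := ext_range (a := 41888) (len := 308) h136 f_136
  have h138 : ∀ u < 42504, (fun u => chkFin tab u) u = true := ext_range (a := 42196) (len := 308) h137 f_137
  have h139 : ∀ u < 42812, (fun u => chkFin tab u) u = true := ext_range (a := 42504) (len := 308) h138 f_138
  have h140 : ∀ u < 43120, (fun u => chkFin tab u) u = true := ext_range (a := 42812) (len := 308) h139 f_139
  have h141 : ∀ u < 43428, (fun u => chkFin tab u) u = true := ext_range (a := 43120) (len := 308) h140 f_140
  have h142 : ∀ u < 43736, (fun u => chkFin tab u) u = true := ext_range (a := 43428) (len := 308) h141 f_141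
  have h143 : ∀ u < 44044, (fun u => chkFin tab u) u = true := ext_range (a := 43736) (len := 308) h142 f_142
  have h144 : ∀ u < 44352, (fun u => chkFin tab u) u = true := ext_range (a := 44044) (len := 308) h143 f_143
  have h145 : ∀ u < 44660, (fun u => chkFin tab u) u = true := ext_range (a := 44352) (len := 308) h144 f_144
  have h146 : ∀ u < 44968, (fun u => chkFin tab u) u = true := ext_range (a := 44660) (len := 308) h145 f_145
  have h147 : ∀ u < 45276, (fun u => chkFin tab u) u = true := ext_range (a := 44968) (len := 308) h146 f_146
  have h148 : ∀ u < 45584, (fun u => chkFin tab u) u = true := ext_range (a := 45276) (len := 308) h147 f_147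
  have h149 : ∀ u < 45892, (fun u => chkFin tab u) u = true := ext_range (a := 45584) (len := 308) h148 f_148
  have h150 : ∀ u < 46200, (fun u => chkFin tab u) u = true := ext_range (a := 45892) (len := 308) h149 f_149
  have h151 : ∀ u < 46508, (fun u => chkFin tab u) u = true := ext_range (a := 46200) (len := 308) h150 f_150
  have h152 : ∀ u < 46816, (fun u => chkFin tab u) u = true := ext_range (a := 46508) (len := 308) h151 f_151
  have h153 : ∀ u < 47124, (fun u => chkFin tab u) u = true := ext_range (a := 46816) (len := 308) h152 f_152
  have h154 : ∀ u < 47432, (fun u => chkFin tab u) u = true := ext_range (a := 47124) (len := 308) h153 f_153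
  have h155 : ∀ u < 47740, (fun u => chkFin tab u) u = true := ext_range (a := 47432) (len := 308) h154 f_154
  have h156 : ∀ u < 48048, (fun u => chkFin tab u) u = true := ext_range (a := 47740) (len := 308) h155 f_155
  have h157 : ∀ u < 48356, (fun u => chkFin tab u) u = true := ext_range (a := 48048) (len := 308) h156 f_156
  have h158 : ∀ u < 48664, (fun u => chkFin tab u) u = true := ext_range (a := 48356) (len := 308) h157 f_157
  have h159 : ∀ u < 48972, (fun u => chkFin tab u) u = true := ext_range (a := 48664) (len := 308) h158 f_158
  have h160 : ∀ u < 49280, (fun u => chkFin tab u) u = true := ext_range (a := 48972) (len := 308) h159 f_159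
  have h161 : ∀ u < 49588, (fun u => chkFin tab u) u = true := ext_range (a := 49280) (len := 308) h160 f_160
  have h162 : ∀ u < 49896, (fun u => chkFin tab u) u = true := ext_range (a := 49588) (len := 308) h161 f_161
  have h163 : ∀ u < 50204, (fun u => chkFin tab u) u = true := ext_range (a := 49896) (len := 308) h162 f_162
  have h164 : ∀ u < 50512, (fun u => chkFin tab u) u = true := ext_range (a := 50204) (len := 308) h163 f_163
  have h165 : ∀ u < 50820, (fun u => chkFin tab u) u = true := ext_range (a := 50512) (len := 308) h164 f_164
  have h166 : ∀ u < 51128, (fun u => chkFin tab u) u = true := ext_range (a := 50820) (len := 308) h165 f_165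
  have h167 : ∀ u < 51436, (fun u => chkFin tab u) u = true := ext_range (a := 51128) (len := 308) h166 f_166
  have h168 : ∀ u < 51744, (fun u => chkFin tab u) u = true := ext_range (a := 51436) (len := 308) h167 f_167
  have h169 : ∀ u < 52052, (fun u => chkFin tab u) u = true := ext_range (a := 51744) (len := 308) h168 f_168
  have h170 : ∀ u < 52360, (fun u => chkFin tab u) u = true := ext_range (a := 52052) (len := 308) h169 f_169
  have h171 : ∀ u < 52668, (fun u => chkFin tab u) u = true := ext_range (a := 52360) (len := 308) h170 f_170
  have h172 : ∀ u < 52976, (fun u => chkFin tab u) u = true := ext_range (a := 52668) (len := 308) h171 f_171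
  have h173 : ∀ u < 53284, (fun u => chkFin tab u) u = true := ext_range (a := 52976) (len := 308) h172 f_172
  have h174 : ∀ u < 53592, (fun u => chkFin tab u) u = true := ext_range (a := 53284) (len := 308) h173 f_173
  have h175 : ∀ u < 53900, (fun u => chkFin tab u) u = true := ext_range (a := 53592) (len := 308) h174 f_174
  have h176 : ∀ u < 54208, (fun u => chkFin tab u) u = true := ext_range (a := 53900) (len := 308) h175 f_175
  have h177 : ∀ u < 54516, (fun u => chkFin tab u) u = true := ext_range (a := 54208) (len := 308) h176 f_176
  have h178 : ∀ u < 54824, (fun u => chkFin tab u) u = true := ext_range (a := 54516) (len := 308) h177 f_177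
  have h179 : ∀ u < 55132, (fun u => chkFin tab u) u = true := ext_range (a := 54824) (len := 308) h178 f_178
  have h180 : ∀ u < 55440, (fun u => chkFin tab u) u = true := ext_range (a := 55132) (len := 308) h179 f_179
  have h181 : ∀ u < 55748, (fun u => chkFin tab u) u = true := ext_range (a := 55440) (len := 308) h180 f_180
  have h182 : ∀ u < 56056, (fun u => chkFin tab u) u = true := ext_range (a := 55748) (len := 308) h181 f_181
  have h183 : ∀ u < 56364, (fun u => chkFin tab u) u = true := ext_range (a := 56056) (len := 308) h182 f_182
  have h184 : ∀ u < 56672, (fun u => chkFin tab u) u = true := ext_range (a := 56364) (len := 308) h183 f_183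
  have h185 : ∀ u < 56980, (fun u => chkFin tab u) u = true := ext_range (a := 56672) (len := 308) h184 f_184
  have h186 : ∀ u < 57288, (fun u => chkFin tab u) u = true := ext_range (a := 56980) (len := 308) h185 f_185
  have h187 : ∀ u < 57596, (fun u => chkFin tab u) u = true := ext_range (a := 57288) (len := 308) h186 f_186
  have h188 : ∀ u < 57904, (fun u => chkFin tab u) u = true := ext_range (a := 57596) (len := 308) h187 f_187
  have h189 : ∀ u < 58212, (fun u => chkFin tab u) u = true := ext_range (a := 57904) (len := 308) h188 f_188
  have h190 : ∀ u < 58520, (fun u => chkFin tab u) u = true := ext_range (a := 58212) (len := 308) h189 f_189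
  have h191 : ∀ u < 58828, (fun u => chkFin tab u) u = true := ext_range (a := 58520) (len := 308) h190 f_190
  have h192 : ∀ u < 59136, (fun u => chkFin tab u) u = true := ext_range (a := 58828) (len := 308) h191 f_191
  have h193 : ∀ u < 59444, (fun u => chkFin tab u) u = true := ext_range (a := 59136) (len := 308) h192 f_192
  have h194 : ∀ u < 59752, (fun u => chkFin tab u) u = true := ext_range (a := 59444) (len := 308) h193 f_193
  have h195 : ∀ u < 60060, (fun u => chkFin tab u) u = true := ext_range (a := 59752) (len := 308) h194 f_194
  have h196 : ∀ u < 60368, (fun u => chkFin tab u) u = true := ext_range (a := 60060) (len := 308) h195 f_195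
  have h197 : ∀ u < 60676, (fun u => chkFin tab u) u = true := ext_range (a := 60368) (len := 308) h196 f_196
  have h198 : ∀ u < 60984, (fun u => chkFin tab u) u = true := ext_range (a := 60676) (len := 308) h197 f_197
  have h199 : ∀ u < 61292, (fun u => chkFin tab u) u = true := ext_range (a := 60984) (len := 308) h198 f_198
  have h200 : ∀ u < 61600, (fun u => chkFin tab u) u = true := ext_range (a := 61292) (len := 308) h199 f_199
  have h201 : ∀ u < 61908, (fun u => chkFin tab u) u = true := ext_range (a := 61600) (len := 308) h200 f_200
  have h202 : ∀ u < 62216, (fun u => chkFin tab u) u = true := ext_range (a := 61908) (len := 308) h201 f_201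
  have h203 : ∀ u < 62524, (fun u => chkFin tab u) u = true := ext_range (a := 62216) (len := 308) h202 f_202
  have h204 : ∀ u < 62832, (fun u => chkFin tab u) u = true := ext_range (a := 62524) (len := 308) h203 f_203
  have h205 : ∀ u < 63140, (fun u => chkFin tab u) u = true := ext_range (a := 62832) (len := 308) h204 f_204
  have h206 : ∀ u < 63448, (fun u => chkFin tab u) u = true := ext_range (a := 63140) (len := 308) h205 f_205
  have h207 : ∀ u < 63756, (fun u => chkFin tab u) u = true := ext_range (a := 63448) (len := 308) h206 f_206
  have h208 : ∀ u < 64064, (fun u => chkFin tab u) u = true := ext_range (a := 63756) (len := 308) h207 f_207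
  have h209 : ∀ u < 64372, (fun u => chkFin tab u) u = true := ext_range (a := 64064) (len := 308) h208 f_208
  have h210 : ∀ u < 64680, (fun u => chkFin tab u) u = true := ext_range (a := 64372) (len := 308) h209 f_209
  have h211 : ∀ u < 64988, (fun u => chkFin tab u) u = true := ext_range (a := 64680) (len := 308) h210 f_210
  have h212 : ∀ u < 65296, (fun u => chkFin tab u) u = true := ext_range (a := 64988) (len := 308) h211 f_211
  have h213 : ∀ u < 65604, (fun u => chkFin tab u) u = true := ext_range (a := 65296) (len := 308) h212 f_212
  have h214 : ∀ u < 65912, (fun u => chkFin tab u) u = true := ext_range (a := 65604) (len := 308) h213 f_213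
  have h215 : ∀ u < 66220, (fun u => chkFin tab u) u = true := ext_range (a := 65912) (len := 308) h214 f_214
  have h216 : ∀ u < 66528, (fun u => chkFin tab u) u = true := ext_range (a := 66220) (len := 308) h215 f_215
  have h217 : ∀ u < 66836, (fun u => chkFin tab u) u = true := ext_range (a := 66528) (len := 308) h216 f_216
  have h218 : ∀ u < 67144, (fun u => chkFin tab u) u = true := ext_range (a := 66836) (len := 308) h217 f_217
  have h219 : ∀ u < 67452, (fun u => chkFin tab u) u = true := ext_range (a := 67144) (len := 308) h218 f_218
  have h220 : ∀ u < 67760, (fun u => chkFin tab u) u = true := ext_range (a := 67452) (len := 308) h219 f_219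
  have h221 : ∀ u < 68068, (fun u => chkFin tab u) u = true := ext_range (a := 67760) (len := 308) h220 f_220
  have h222 : ∀ u < 68376, (fun u => chkFin tab u) u = true := ext_range (a := 68068) (len := 308) h221 f_221
  have h223 : ∀ u < 68684, (fun u => chkFin tab u) u = true := ext_range (a := 68376) (len := 308) h222 f_222
  have h224 : ∀ u < 68992, (fun u => chkFin tab u) u = true := ext_range (a := 68684) (len := 308) h223 f_223
  have h225 : ∀ u < 69300, (fun u => chkFin tab u) u = true := ext_range (a := 68992) (len := 308) h224 f_224
  have h226 : ∀ u < 69608, (fun u => chkFin tab u) u = true := ext_range (a := 69300) (len := 308) h225 f_225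
  have h227 : ∀ u < 69916, (fun u => chkFin tab u) u = true := ext_range (a := 69608) (len := 308) h226 f_226
  have h228 : ∀ u < 70224, (fun u => chkFin tab u) u = true := ext_range (a := 69916) (len := 308) h227 f_227
  have h229 : ∀ u < 70532, (fun u => chkFin tab u) u = true := ext_range (a := 70224) (len := 308) h228 f_228
  have h230 : ∀ u < 70840, (fun u => chkFin tab u) u = true := ext_range (a := 70532) (len := 308) h229 f_229
  have h231 : ∀ u < 71148, (fun u => chkFin tab u) u = true := ext_range (a := 70840) (len := 308) h230 f_230
  have h232 : ∀ u < 71456, (fun u => chkFin tab u) u = true := ext_range (a := 71148) (len := 308) h231 f_231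
  have h233 : ∀ u < 71764, (fun u => chkFin tab u) u = true := ext_range (a := 71456) (len := 308) h232 f_232
  have h234 : ∀ u < 72072, (fun u => chkFin tab u) u = true := ext_range (a := 71764) (len := 308) h233 f_233
  have h235 : ∀ u < 72380, (fun u => chkFin tab u) u = true := ext_range (a := 72072) (len := 308) h234 f_234
  have h236 : ∀ u < 72688, (fun u => chkFin tab u) u = true := ext_range (a := 72380) (len := 308) h235 f_235
  have h237 : ∀ u < 72996, (fun u => chkFin tab u) u = true := ext_range (a := 72688) (len := 308) h236 f_236
  have h238 : ∀ u < 73304, (fun u => chkFin tab u) u = true := ext_range (a := 72996) (len := 308) h237 f_237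
  have h239 : ∀ u < 73612, (fun u => chkFin tab u) u = true := ext_range (a := 73304) (len := 308) h238 f_238
  have h240 : ∀ u < 73920, (fun u => chkFin tab u) u = true := ext_range (a := 73612) (len := 308) h239 f_239
  have h241 : ∀ u < 74228, (fun u => chkFin tab u) u = true := ext_range (a := 73920) (len := 308) h240 f_240
  have h242 : ∀ u < 74536, (fun u => chkFin tab u) u = true := ext_range (a := 74228) (len := 308) h241 f_241
  have h243 : ∀ u < 74844, (fun u => chkFin tab u) u = true := ext_range (a := 74536) (len := 308) h242 f_242
  have h244 : ∀ u < 75152, (fun u => chkFin tab u) u = true := ext_range (a := 74844) (len := 308) h243 f_243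
  have h245 : ∀ u < 75460, (fun u => chkFin tab u) u = true := ext_range (a := 75152) (len := 308) h244 f_244
  have h246 : ∀ u < 75768, (fun u => chkFin tab u) u = true := ext_range (a := 75460) (len := 308) h245 f_245
  have h247 : ∀ u < 76076, (fun u => chkFin tab u) u = true := ext_range (a := 75768) (len := 308) h246 f_246
  have h248 : ∀ u < 76384, (fun u => chkFin tab u) u = true := ext_range (a := 76076) (len := 308) h247 f_247
  have h249 : ∀ u < 76692, (fun u => chkFin tab u) u = true := ext_range (a := 76384) (len := 308) h248 f_248
  have h250 : ∀ u < 77000, (fun u => chkFin tab u) u = true := ext_range (a := 76692) (len := 308) h249 f_249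
  have h251 : ∀ u < 77308, (fun u => chkFin tab u) u = true := ext_range (a := 77000) (len := 308) h250 f_250
  have h252 : ∀ u < 77616, (fun u => chkFin tab u) u = true := ext_range (a := 77308) (len := 308) h251 f_251
  have h253 : ∀ u < 77924, (fun u => chkFin tab u) u = true := ext_range (a := 77616) (len := 308) h252 f_252
  have h254 : ∀ u < 78232, (fun u => chkFin tab u) u = true := ext_range (a := 77924) (len := 308) h253 f_253
  have h255 : ∀ u < 78540, (fun u => chkFin tab u) u = true := ext_range (a := 78232) (len := 308) h254 f_254
  have h256 : ∀ u < 78848, (fun u => chkFin tab u) u = true := ext_range (a := 78540) (len := 308) h255 f_255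
  have h257 : ∀ u < 79156, (fun u => chkFin tab u) u = true := ext_range (a := 78848) (len := 308) h256 f_256
  have h258 : ∀ u < 79464, (fun u => chkFin tab u) u = true := ext_range (a := 79156) (len := 308) h257 f_257
  have h259 : ∀ u < 79772, (fun u => chkFin tab u) u = true := ext_range (a := 79464) (len := 308) h258 f_258
  have h260 : ∀ u < 80080, (fun u => chkFin tab u) u = true := ext_range (a := 79772) (len := 308) h259 f_259
  have h261 : ∀ u < 80388, (fun u => chkFin tab u) u = true := ext_range (a := 80080) (len := 308) h260 f_260
  have h262 : ∀ u < 80696, (fun u => chkFin tab u) u = true := ext_range (a := 80388) (len := 308) h261 f_261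
  have h263 : ∀ u < 81004, (fun u => chkFin tab u) u = true := ext_range (a := 80696) (len := 308) h262 f_262
  have h264 : ∀ u < 81312, (fun u => chkFin tab u) u = true := ext_range (a := 81004) (len := 308) h263 f_263
  have h265 : ∀ u < 81620, (fun u => chkFin tab u) u = true := ext_range (a := 81312) (len := 308) h264 f_264
  have h266 : ∀ u < 81928, (fun u => chkFin tab u) u = true := ext_range (a := 81620) (len := 308) h265 f_265
  have h267 : ∀ u < 82236, (fun u => chkFin tab u) u = true := ext_range (a := 81928) (len := 308) h266 f_266
  have h268 : ∀ u < 82544, (fun u => chkFin tab u) u = true := ext_range (a := 82236) (len := 308) h267 f_267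
  have h269 : ∀ u < 82852, (fun u => chkFin tab u) u = true := ext_range (a := 82544) (len := 308) h268 f_268
  have h270 : ∀ u < 83160, (fun u => chkFin tab u) u = true := ext_range (a := 82852) (len := 308) h269 f_269
  have h271 : ∀ u < 83468, (fun u => chkFin tab u) u = true := ext_range (a := 83160) (len := 308) h270 f_270
  have h272 : ∀ u < 83776, (fun u => chkFin tab u) u = true := ext_range (a := 83468) (len := 308) h271 f_271
  have h273 : ∀ u < 84084, (fun u => chkFin tab u) u = true := ext_range (a := 83776) (len := 308) h272 f_272
  have h274 : ∀ u < 84392, (fun u => chkFin tab u) u = true := ext_range (a := 84084) (len := 308) h273 f_273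
  have h275 : ∀ u < 84700, (fun u => chkFin tab u) u = true := ext_range (a := 84392) (len := 308) h274 f_274
  have h276 : ∀ u < 85008, (fun u => chkFin tab u) u = true := ext_range (a := 84700) (len := 308) h275 f_275
  have h277 : ∀ u < 85316, (fun u => chkFin tab u) u = true := ext_range (a := 85008) (len := 308) h276 f_276
  have h278 : ∀ u < 85624, (fun u => chkFin tab u) u = true := ext_range (a := 85316) (len := 308) h277 f_277
  have h279 : ∀ u < 85932, (fun u => chkFin tab u) u = true := ext_range (a := 85624) (len := 308) h278 f_278
  have h280 : ∀ u < 86240, (fun u => chkFin tab u) u = true := ext_range (a := 85932) (len := 308) h279 f_279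
  have h281 : ∀ u < 86548, (fun u => chkFin tab u) u = true := ext_range (a := 86240) (len := 308) h280 f_280
  have h282 : ∀ u < 86856, (fun u => chkFin tab u) u = true := ext_range (a := 86548) (len := 308) h281 f_281
  have h283 : ∀ u < 87164, (fun u => chkFin tab u) u = true := ext_range (a := 86856) (len := 308) h282 f_282
  have h284 : ∀ u < 87472, (fun u => chkFin tab u) u = true := ext_range (a := 87164) (len := 308) h283 f_283
  have h285 : ∀ u < 87780, (fun u => chkFin tab u) u = true := ext_range (a := 87472) (len := 308) h284 f_284
  have h286 : ∀ u < 88088, (fun u => chkFin tab u) u = true := ext_range (a := 87780) (len := 308) h285 f_285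
  have h287 : ∀ u < 88396, (fun u => chkFin tab u) u = true := ext_range (a := 88088) (len := 308) h286 f_286
  have h288 : ∀ u < 88704, (fun u => chkFin tab u) u = true := ext_range (a := 88396) (len := 308) h287 f_287
  have h289 : ∀ u < 89012, (fun u => chkFin tab u) u = true := ext_range (a := 88704) (len := 308) h288 f_288
  have h290 : ∀ u < 89320, (fun u => chkFin tab u) u = true := ext_range (a := 89012) (len := 308) h289 f_289
  have h291 : ∀ u < 89628, (fun u => chkFin tab u) u = true := ext_range (a := 89320) (len := 308) h290 f_290
  have h292 : ∀ u < 89936, (fun u => chkFin tab u) u = true := ext_range (a := 89628) (len := 308) h291 f_291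
  have h293 : ∀ u < 90244, (fun u => chkFin tab u) u = true := ext_range (a := 89936) (len := 308) h292 f_292
  have h294 : ∀ u < 90552, (fun u => chkFin tab u) u = true := ext_range (a := 90244) (len := 308) h293 f_293
  have h295 : ∀ u < 90860, (fun u => chkFin tab u) u = true := ext_range (a := 90552) (len := 308) h294 f_294
  have h296 : ∀ u < 91168, (fun u => chkFin tab u) u = true := ext_range (a := 90860) (len := 308) h295 f_295
  have h297 : ∀ u < 91476, (fun u => chkFin tab u) u = true := ext_range (a := 91168) (len := 308) h296 f_296
  have h298 : ∀ u < 91784, (fun u => chkFin tab u) u = true := ext_range (a := 91476) (len := 308) h297 f_297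
  have h299 : ∀ u < 92092, (fun u => chkFin tab u) u = true := ext_range (a := 91784) (len := 308) h298 f_298
  have h300 : ∀ u < 92400, (fun u => chkFin tab u) u = true := ext_range (a := 92092) (len := 308) h299 f_299
  have h301 : ∀ u < 92708, (fun u => chkFin tab u) u = true := ext_range (a := 92400) (len := 308) h300 f_300
  have h302 : ∀ u < 93016, (fun u => chkFin tab u) u = true := ext_range (a := 92708) (len := 308) h301 f_301
  have h303 : ∀ u < 93324, (fun u => chkFin tab u) u = true := ext_range (a := 93016) (len := 308) h302 f_302
  have h304 : ∀ u < 93632, (fun u => chkFin tab u) u = true := ext_range (a := 93324) (len := 308) h303 f_303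
  have h305 : ∀ u < 93940, (fun u => chkFin tab u) u = true := ext_range (a := 93632) (len := 308) h304 f_304
  have h306 : ∀ u < 94248, (fun u => chkFin tab u) u = true := ext_range (a := 93940) (len := 308) h305 f_305
  have h307 : ∀ u < 94556, (fun u => chkFin tab u) u = true := ext_range (a := 94248) (len := 308) h306 f_306
  have h308 : ∀ u < 94864, (fun u => chkFin tab u) u = true := ext_range (a := 94556) (len := 308) h307 f_307
  have h309 : ∀ u < 95172, (fun u => chkFin tab u) u = true := ext_range (a := 94864) (len := 308) h308 f_308
  have h310 : ∀ u < 95480, (fun u => chkFin tab u) u = true := ext_range (a := 95172) (len := 308) h309 f_309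
  have h311 : ∀ u < 95788, (fun u => chkFin tab u) u = true := ext_range (a := 95480) (len := 308) h310 f_310
  have h312 : ∀ u < 96096, (fun u => chkFin tab u) u = true := ext_range (a := 95788) (len := 308) h311 f_311
  have h313 : ∀ u < 96404, (fun u => chkFin tab u) u = true := ext_range (a := 96096) (len := 308) h312 f_312
  have h314 : ∀ u < 96712, (fun u => chkFin tab u) u = true := ext_range (a := 96404) (len := 308) h313 f_313
  have h315 : ∀ u < 97020, (fun u => chkFin tab u) u = true := ext_range (a := 96712) (len := 308) h314 f_314
  have h316 : ∀ u < 97328, (fun u => chkFin tab u) u = true := ext_range (a := 97020) (len := 308) h315 f_315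
  have h317 : ∀ u < 97636, (fun u => chkFin tab u) u = true := ext_range (a := 97328) (len := 308) h316 f_316
  have h318 : ∀ u < 97944, (fun u => chkFin tab u) u = true := ext_range (a := 97636) (len := 308) h317 f_317
  have h319 : ∀ u < 98252, (fun u => chkFin tab u) u = true := ext_range (a := 97944) (len := 308) h318 f_318
  have h320 : ∀ u < 98560, (fun u => chkFin tab u) u = true := ext_range (a := 98252) (len := 308) h319 f_319
  have h321 : ∀ u < 98868, (fun u => chkFin tab u) u = true := ext_range (a := 98560) (len := 308) h320 f_320
  have h322 : ∀ u < 99176, (fun u => chkFin tab u) u = true := ext_range (a := 98868) (len := 308) h321 f_321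
  have h323 : ∀ u < 99484, (fun u => chkFin tab u) u = true := ext_range (a := 99176) (len := 308) h322 f_322
  have h324 : ∀ u < 99792, (fun u => chkFin tab u) u = true := ext_range (a := 99484) (len := 308) h323 f_323
  have h325 : ∀ u < 100100, (fun u => chkFin tab u) u = true := ext_range (a := 99792) (len := 308) h324 f_324
  have h326 : ∀ u < 100408, (fun u => chkFin tab u) u = true := ext_range (a := 100100) (len := 308) h325 f_325
  have h327 : ∀ u < 100716, (fun u => chkFin tab u) u = true := ext_range (a := 100408) (len := 308) h326 f_326
  have h328 : ∀ u < 101024, (fun u => chkFin tab u) u = true := ext_range (a := 100716) (len := 308) h327 f_327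
  have h329 : ∀ u < 101332, (fun u => chkFin tab u) u = true := ext_range (a := 101024) (len := 308) h328 f_328
  have h330 : ∀ u < 101640, (fun u => chkFin tab u) u = true := ext_range (a := 101332) (len := 308) h329 f_329
  have h331 : ∀ u < 101948, (fun u => chkFin tab u) u = true := ext_range (a := 101640) (len := 308) h330 f_330
  have h332 : ∀ u < 102256, (fun u => chkFin tab u) u = true := ext_range (a := 101948) (len := 308) h331 f_331
  have h333 : ∀ u < 102564, (fun u => chkFin tab u) u = true := ext_range (a := 102256) (len := 308) h332 f_332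
  have h334 : ∀ u < 102872, (fun u => chkFin tab u) u = true := ext_range (a := 102564) (len := 308) h333 f_333
  have h335 : ∀ u < 103180, (fun u => chkFin tab u) u = true := ext_range (a := 102872) (len := 308) h334 f_334
  have h336 : ∀ u < 103488, (fun u => chkFin tab u) u = true := ext_range (a := 103180) (len := 308) h335 f_335
  have h337 : ∀ u < 103796, (fun u => chkFin tab u) u = true := ext_range (a := 103488) (len := 308) h336 f_336
  have h338 : ∀ u < 104104, (fun u => chkFin tab u) u = true := ext_range (a := 103796) (len := 308) h337 f_337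
  have h339 : ∀ u < 104412, (fun u => chkFin tab u) u = true := ext_range (a := 104104) (len := 308) h338 f_338
  have h340 : ∀ u < 104720, (fun u => chkFin tab u) u = true := ext_range (a := 104412) (len := 308) h339 f_339
  have h341 : ∀ u < 105028, (fun u => chkFin tab u) u = true := ext_range (a := 104720) (len := 308) h340 f_340
  have h342 : ∀ u < 105336, (fun u => chkFin tab u) u = true := ext_range (a := 105028) (len := 308) h341 f_341
  have h343 : ∀ u < 105644, (fun u => chkFin tab u) u = true := ext_range (a := 105336) (len := 308) h342 f_342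
  have h344 : ∀ u < 105952, (fun u => chkFin tab u) u = true := ext_range (a := 105644) (len := 308) h343 f_343
  have h345 : ∀ u < 106260, (fun u => chkFin tab u) u = true := ext_range (a := 105952) (len := 308) h344 f_344
  have h346 : ∀ u < 106568, (fun u => chkFin tab u) u = true := ext_range (a := 106260) (len := 308) h345 f_345
  have h347 : ∀ u < 106876, (fun u => chkFin tab u) u = true := ext_range (a := 106568) (len := 308) h346 f_346
  have h348 : ∀ u < 107184, (fun u => chkFin tab u) u = true := ext_range (a := 106876) (len := 308) h347 f_347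
  have h349 : ∀ u < 107492, (fun u => chkFin tab u) u = true := ext_range (a := 107184) (len := 308) h348 f_348
  have h350 : ∀ u < 107800, (fun u => chkFin tab u) u = true := ext_range (a := 107492) (len := 308) h349 f_349
  have h351 : ∀ u < 108108, (fun u => chkFin tab u) u = true := ext_range (a := 107800) (len := 308) h350 f_350
  have h352 : ∀ u < 108416, (fun u => chkFin tab u) u = true := ext_range (a := 108108) (len := 308) h351 f_351
  have h353 : ∀ u < 108724, (fun u => chkFin tab u) u = true := ext_range (a := 108416) (len := 308) h352 f_352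
  have h354 : ∀ u < 109032, (fun u => chkFin tab u) u = true := ext_range (a := 108724) (len := 308) h353 f_353
  have h355 : ∀ u < 109340, (fun u => chkFin tab u) u = true := ext_range (a := 109032) (len := 308) h354 f_354
  have h356 : ∀ u < 109648, (fun u => chkFin tab u) u = true := ext_range (a := 109340) (len := 308) h355 f_355
  have h357 : ∀ u < 109956, (fun u => chkFin tab u) u = true := ext_range (a := 109648) (len := 308) h356 f_356
  have h358 : ∀ u < 110264, (fun u => chkFin tab u) u = true := ext_range (a := 109956) (len := 308) h357 f_357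
  have h359 : ∀ u < 110572, (fun u => chkFin tab u) u = true := ext_range (a := 110264) (len := 308) h358 f_358
  have h360 : ∀ u < 110880, (fun u => chkFin tab u) u = true := ext_range (a := 110572) (len := 308) h359 f_359
  have h361 : ∀ u < 111188, (fun u => chkFin tab u) u = true := ext_range (a := 110880) (len := 308) h360 f_360
  have h362 : ∀ u < 111496, (fun u => chkFin tab u) u = true := ext_range (a := 111188) (len := 308) h361 f_361
  have h363 : ∀ u < 111804, (fun u => chkFin tab u) u = true := ext_range (a := 111496) (len := 308) h362 f_362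
  have h364 : ∀ u < 112112, (fun u => chkFin tab u) u = true := ext_range (a := 111804) (len := 308) h363 f_363
  have h365 : ∀ u < 112420, (fun u => chkFin tab u) u = true := ext_range (a := 112112) (len := 308) h364 f_364
  have h366 : ∀ u < 112728, (fun u => chkFin tab u) u = true := ext_range (a := 112420) (len := 308) h365 f_365
  have h367 : ∀ u < 113036, (fun u => chkFin tab u) u = true := ext_range (a := 112728) (len := 308) h366 f_366
  have h368 : ∀ u < 113344, (fun u => chkFin tab u) u = true := ext_range (a := 113036) (len := 308) h367 f_367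
  have h369 : ∀ u < 113652, (fun u => chkFin tab u) u = true := ext_range (a := 113344) (len := 308) h368 f_368
  have h370 : ∀ u < 113960, (fun u => chkFin tab u) u = true := ext_range (a := 113652) (len := 308) h369 f_369
  have h371 : ∀ u < 114268, (fun u => chkFin tab u) u = true := ext_range (a := 113960) (len := 308) h370 f_370
  have h372 : ∀ u < 114576, (fun u => chkFin tab u) u = true := ext_range (a := 114268) (len := 308) h371 f_371
  have h373 : ∀ u < 114884, (fun u => chkFin tab u) u = true := ext_range (a := 114576) (len := 308) h372 f_372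
  have h374 : ∀ u < 115192, (fun u => chkFin tab u) u = true := ext_range (a := 114884) (len := 308) h373 f_373
  have h375 : ∀ u < 115500, (fun u => chkFin tab u) u = true := ext_range (a := 115192) (len := 308) h374 f_374
  have h376 : ∀ u < 115808, (fun u => chkFin tab u) u = true := ext_range (a := 115500) (len := 308) h375 f_375
  have h377 : ∀ u < 116116, (fun u => chkFin tab u) u = true := ext_range (a := 115808) (len := 308) h376 f_376
  have h378 : ∀ u < 116424, (fun u => chkFin tab u) u = true := ext_range (a := 116116) (len := 308) h377 f_377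
  have h379 : ∀ u < 116732, (fun u => chkFin tab u) u = true := ext_range (a := 116424) (len := 308) h378 f_378
  have h380 : ∀ u < 117040, (fun u => chkFin tab u) u = true := ext_range (a := 116732) (len := 308) h379 f_379
  have h381 : ∀ u < 117348, (fun u => chkFin tab u) u = true := ext_range (a := 117040) (len := 308) h380 f_380
  have h382 : ∀ u < 117656, (fun u => chkFin tab u) u = true := ext_range (a := 117348) (len := 308) h381 f_381
  have h383 : ∀ u < 117964, (fun u => chkFin tab u) u = true := ext_range (a := 117656) (len := 308) h382 f_382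
  have h384 : ∀ u < 118272, (fun u => chkFin tab u) u = true := ext_range (a := 117964) (len := 308) h383 f_383
  have h385 : ∀ u < 118580, (fun u => chkFin tab u) u = true := ext_range (a := 118272) (len := 308) h384 f_384
  have h386 : ∀ u < 118888, (fun u => chkFin tab u) u = true := ext_range (a := 118580) (len := 308) h385 f_385
  have h387 : ∀ u < 119196, (fun u => chkFin tab u) u = true := ext_range (a := 118888) (len := 308) h386 f_386
  have h388 : ∀ u < 119504, (fun u => chkFin tab u) u = true := ext_range (a := 119196) (len := 308) h387 f_387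
  have h389 : ∀ u < 119812, (fun u => chkFin tab u) u = true := ext_range (a := 119504) (len := 308) h388 f_388
  have h390 : ∀ u < 120120, (fun u => chkFin tab u) u = true := ext_range (a := 119812) (len := 308) h389 f_389
  have h391 : ∀ u < 120428, (fun u => chkFin tab u) u = true := ext_range (a := 120120) (len := 308) h390 f_390
  have h392 : ∀ u < 120736, (fun u => chkFin tab u) u = true := ext_range (a := 120428) (len := 308) h391 f_391
  have h393 : ∀ u < 121044, (fun u => chkFin tab u) u = true := ext_range (a := 120736) (len := 308) h392 f_392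
  have h394 : ∀ u < 121352, (fun u => chkFin tab u) u = true := ext_range (a := 121044) (len := 308) h393 f_393
  have h395 : ∀ u < 121660, (fun u => chkFin tab u) u = true := ext_range (a := 121352) (len := 308) h394 f_394
  have h396 : ∀ u < 121968, (fun u => chkFin tab u) u = true := ext_range (a := 121660) (len := 308) h395 f_395
  have h397 : ∀ u < 122276, (fun u => chkFin tab u) u = true := ext_range (a := 121968) (len := 308) h396 f_396
  have h398 : ∀ u < 122584, (fun u => chkFin tab u) u = true := ext_range (a := 122276) (len := 308) h397 f_397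
  have h399 : ∀ u < 122760, (fun u => chkFin tab u) u = true := ext_range (a := 122584) (len := 176) h398 f_398
  exact h399

theorem hC : ∀ u < 231594, chkCls tab u = true := by
  have h0 : ∀ u < 0, (fun u => chkCls tab u) u = true := range_zero
  have h1 : ∀ u < 2667, (fun u => chkCls tab u) u = true := ext_range (a := 0) (len := 2667) h0 c_0
  have h2 : ∀ u < 5334, (fun u => chkCls tab u) u = true := ext_range (a := 2667) (len := 2667) h1 c_1
  have h3 : ∀ u < 8001, (fun u => chkCls tab u) u = true := ext_range (a := 5334) (len := 2667) h2 c_2
  have h4 : ∀ u < 10668, (fun u => chkCls tab u) u = true := ext_range (a := 8001) (len := 2667) h3 c_3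
  have h5 : ∀ u < 13335, (fun u => chkCls tab u) u = true := ext_range (a := 10668) (len := 2667) h4 c_4
  have h6 : ∀ u < 16002, (fun u => chkCls tab u) u = true := ext_range (a := 13335) (len := 2667) h5 c_5
  have h7 : ∀ u < 18669, (fun u => chkCls tab u) u = true := ext_range (a := 16002) (len := 2667) h6 c_6
  have h8 : ∀ u < 21336, (fun u => chkCls tab u) u = true := ext_range (a := 18669) (len := 2667) h7 c_7
  have h9 : ∀ u < 24003, (fun u => chkCls tab u) u = true := ext_range (a := 21336) (len := 2667) h8 c_8
  have h10 : ∀ u < 26670, (fun u => chkCls tab u) u = true := ext_range (a := 24003) (len := 2667) h9 c_9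
  have h11 : ∀ u < 29337, (fun u => chkCls tab u) u = true := ext_range (a := 26670) (len := 2667) h10 c_10
  have h12 : ∀ u < 32004, (fun u => chkCls tab u) u = true := ext_range (a := 29337) (len := 2667) h11 c_11
  have h13 : ∀ u < 34671, (fun u => chkCls tab u) u = true := ext_range (a := 32004) (len := 2667) h12 c_12
  have h14 : ∀ u < 37338, (fun u => chkCls tab u) u = true := ext_range (a := 34671) (len := 2667) h13 c_13
  have h15 : ∀ u < 40005, (fun u => chkCls tab u) u = true := ext_range (a := 37338) (len := 2667) h14 c_14
  have h16 : ∀ u < 42672, (fun u => chkCls tab u) u = true := ext_range (a := 40005) (len := 2667) h15 c_15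
  have h17 : ∀ u < 45339, (fun u => chkCls tab u) u = true := ext_range (a := 42672) (len := 2667) h16 c_16
  have h18 : ∀ u < 48006, (fun u => chkCls tab u) u = true := ext_range (a := 45339) (len := 2667) h17 c_17
  have h19 : ∀ u < 50673, (fun u => chkCls tab u) u = true := ext_range (a := 48006) (len := 2667) h18 c_18
  have h20 : ∀ u < 53340, (fun u => chkCls tab u) u = true := ext_range (a := 50673) (len := 2667) h19 c_19
  have h21 : ∀ u < 56007, (fun u => chkCls tab u) u = true := ext_range (a := 53340) (len := 2667) h20 c_20
  have h22 : ∀ u < 58674, (fun u => chkCls tab u) u = true := ext_range (a := 56007) (len := 2667) h21 c_21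
  have h23 : ∀ u < 61341, (fun u => chkCls tab u) u = true := ext_range (a := 58674) (len := 2667) h22 c_22
  have h24 : ∀ u < 64008, (fun u => chkCls tab u) u = true := ext_range (a := 61341) (len := 2667) h23 c_23
  have h25 : ∀ u < 66675, (fun u => chkCls tab u) u = true := ext_range (a := 64008) (len := 2667) h24 c_24
  have h26 : ∀ u < 69342, (fun u => chkCls tab u) u = true := ext_range (a := 66675) (len := 2667) h25 c_25
  have h27 : ∀ u < 72009, (fun u => chkCls tab u) u = true := ext_range (a := 69342) (len := 2667) h26 c_26
  have h28 : ∀ u < 74676, (fun u => chkCls tab u) u = true := ext_range (a := 72009) (len := 2667) h27 c_27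
  have h29 : ∀ u < 77343, (fun u => chkCls tab u) u = true := ext_range (a := 74676) (len := 2667) h28 c_28
  have h30 : ∀ u < 80010, (fun u => chkCls tab u) u = true := ext_range (a := 77343) (len := 2667) h29 c_29
  have h31 : ∀ u < 82677, (fun u => chkCls tab u) u = true := ext_range (a := 80010) (len := 2667) h30 c_30
  have h32 : ∀ u < 85344, (fun u => chkCls tab u) u = true := ext_range (a := 82677) (len := 2667) h31 c_31
  have h33 : ∀ u < 88011, (fun u => chkCls tab u) u = true := ext_range (a := 85344) (len := 2667) h32 c_32
  have h34 : ∀ u < 90678, (fun u => chkCls tab u) u = true := ext_range (a := 88011) (len := 2667) h33 c_33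
  have h35 : ∀ u < 93345, (fun u => chkCls tab u) u = true := ext_range (a := 90678) (len := 2667) h34 c_34
  have h36 : ∀ u < 96012, (fun u => chkCls tab u) u = true := ext_range (a := 93345) (len := 2667) h35 c_35
  have h37 : ∀ u < 98679, (fun u => chkCls tab u) u = true := ext_range (a := 96012) (len := 2667) h36 c_36
  have h38 : ∀ u < 101346, (fun u => chkCls tab u) u = true := ext_range (a := 98679) (len := 2667) h37 c_37
  have h39 : ∀ u < 104013, (fun u => chkCls tab u) u = true := ext_range (a := 101346) (len := 2667) h38 c_38
  have h40 : ∀ u < 106680, (fun u => chkCls tab u) u = true := ext_range (a := 104013) (len := 2667) h39 c_39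
  have h41 : ∀ u < 109347, (fun u => chkCls tab u) u = true := ext_range (a := 106680) (len := 2667) h40 c_40
  have h42 : ∀ u < 112014, (fun u => chkCls tab u) u = true := ext_range (a := 109347) (len := 2667) h41 c_41
  have h43 : ∀ u < 114681, (fun u => chkCls tab u) u = true := ext_range (a := 112014) (len := 2667) h42 c_42
  have h44 : ∀ u < 117348, (fun u => chkCls tab u) u = true := ext_range (a := 114681) (len := 2667) h43 c_43
  have h45 : ∀ u < 120015, (fun u => chkCls tab u) u = true := ext_range (a := 117348) (len := 2667) h44 c_44
  have h46 : ∀ u < 122682, (fun u => chkCls tab u) u = true := ext_range (a := 120015) (len := 2667) h45 c_45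
  have h47 : ∀ u < 125349, (fun u => chkCls tab u) u = true := ext_range (a := 122682) (len := 2667) h46 c_46
  have h48 : ∀ u < 128016, (fun u => chkCls tab u) u = true := ext_range (a := 125349) (len := 2667) h47 c_47
  have h49 : ∀ u < 130683, (fun u => chkCls tab u) u = true := ext_range (a := 128016) (len := 2667) h48 c_48
  have h50 : ∀ u < 133350, (fun u => chkCls tab u) u = true := ext_range (a := 130683) (len := 2667) h49 c_49
  have h51 : ∀ u < 136017, (fun u => chkCls tab u) u = true := ext_range (a := 133350) (len := 2667) h50 c_50
  have h52 : ∀ u < 138684, (fun u => chkCls tab u) u = true := ext_range (a := 136017) (len := 2667) h51 c_51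
  have h53 : ∀ u < 141351, (fun u => chkCls tab u) u = true := ext_range (a := 138684) (len := 2667) h52 c_52
  have h54 : ∀ u < 144018, (fun u => chkCls tab u) u = true := ext_range (a := 141351) (len := 2667) h53 c_53
  have h55 : ∀ u < 146685, (fun u => chkCls tab u) u = true := ext_range (a := 144018) (len := 2667) h54 c_54
  have h56 : ∀ u < 149352, (fun u => chkCls tab u) u = true := ext_range (a := 146685) (len := 2667) h55 c_55
  have h57 : ∀ u < 152019, (fun u => chkCls tab u) u = true := ext_range (a := 149352) (len := 2667) h56 c_56
  have h58 : ∀ u < 154686, (fun u => chkCls tab u) u = true := ext_range (a := 152019) (len := 2667) h57 c_57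
  have h59 : ∀ u < 157353, (fun u => chkCls tab u) u = true := ext_range (a := 154686) (len := 2667) h58 c_58
  have h60 : ∀ u < 160020, (fun u => chkCls tab u) u = true := ext_range (a := 157353) (len := 2667) h59 c_59
  have h61 : ∀ u < 162687, (fun u => chkCls tab u) u = true := ext_range (a := 160020) (len := 2667) h60 c_60
  have h62 : ∀ u < 165354, (fun u => chkCls tab u) u = true := ext_range (a := 162687) (len := 2667) h61 c_61
  have h63 : ∀ u < 168021, (fun u => chkCls tab u) u = true := ext_range (a := 165354) (len := 2667) h62 c_62
  have h64 : ∀ u < 170688, (fun u => chkCls tab u) u = true := ext_range (a := 168021) (len := 2667) h63 c_63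
  have h65 : ∀ u < 173355, (fun u => chkCls tab u) u = true := ext_range (a := 170688) (len := 2667) h64 c_64
  have h66 : ∀ u < 176022, (fun u => chkCls tab u) u = true := ext_range (a := 173355) (len := 2667) h65 c_65
  have h67 : ∀ u < 178689, (fun u => chkCls tab u) u = true := ext_range (a := 176022) (len := 2667) h66 c_66
  have h68 : ∀ u < 181356, (fun u => chkCls tab u) u = true := ext_range (a := 178689) (len := 2667) h67 c_67
  have h69 : ∀ u < 184023, (fun u => chkCls tab u) u = true := ext_range (a := 181356) (len := 2667) h68 c_68
  have h70 : ∀ u < 186690, (fun u => chkCls tab u) u = true := ext_range (a := 184023) (len := 2667) h69 c_69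
  have h71 : ∀ u < 189357, (fun u => chkCls tab u) u = true := ext_range (a := 186690) (len := 2667) h70 c_70
  have h72 : ∀ u < 192024, (fun u => chkCls tab u) u = true := ext_range (a := 189357) (len := 2667) h71 c_71
  have h73 : ∀ u < 194691, (fun u => chkCls tab u) u = true := ext_range (a := 192024) (len := 2667) h72 c_72
  have h74 : ∀ u < 197358, (fun u => chkCls tab u) u = true := ext_range (a := 194691) (len := 2667) h73 c_73
  have h75 : ∀ u < 200025, (fun u => chkCls tab u) u = true := ext_range (a := 197358) (len := 2667) h74 c_74
  have h76 : ∀ u < 202692, (fun u => chkCls tab u) u = true := ext_range (a := 200025) (len := 2667) h75 c_75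
  have h77 : ∀ u < 205359, (fun u => chkCls tab u) u = true := ext_range (a := 202692) (len := 2667) h76 c_76
  have h78 : ∀ u < 208026, (fun u => chkCls tab u) u = true := ext_range (a := 205359) (len := 2667) h77 c_77
  have h79 : ∀ u < 210693, (fun u => chkCls tab u) u = true := ext_range (a := 208026) (len := 2667) h78 c_78
  have h80 : ∀ u < 213360, (fun u => chkCls tab u) u = true := ext_range (a := 210693) (len := 2667) h79 c_79
  have h81 : ∀ u < 216027, (fun u => chkCls tab u) u = true := ext_range (a := 213360) (len := 2667) h80 c_80
  have h82 : ∀ u < 218694, (fun u => chkCls tab u) u = true := ext_range (a := 216027) (len := 2667) h81 c_81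
  have h83 : ∀ u < 221361, (fun u => chkCls tab u) u = true := ext_range (a := 218694) (len := 2667) h82 c_82
  have h84 : ∀ u < 224028, (fun u => chkCls tab u) u = true := ext_range (a := 221361) (len := 2667) h83 c_83
  have h85 : ∀ u < 226695, (fun u => chkCls tab u) u = true := ext_range (a := 224028) (len := 2667) h84 c_84
  have h86 : ∀ u < 229362, (fun u => chkCls tab u) u = true := ext_range (a := 226695) (len := 2667) h85 c_85
  have h87 : ∀ u < 231594, (fun u => chkCls tab u) u = true := ext_range (a := 229362) (len := 2232) h86 c_86
  exact h87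

theorem hM1 : ∀ u < 122760, chkM1 tab u = true := by
  have h0 : ∀ u < 0, (fun u => chkM1 tab u) u = true := range_zero
  have h1 : ∀ u < 793, (fun u => chkM1 tab u) u = true := ext_range (a := 0) (len := 793) h0 m1_0
  have h2 : ∀ u < 1586, (fun u => chkM1 tab u) u = true := ext_range (a := 793) (len := 793) h1 m1_1
  have h3 : ∀ u < 2379, (fun u => chkM1 tab u) u = true := ext_range (a := 1586) (len := 793) h2 m1_2
  have h4 : ∀ u < 3172, (fun u => chkM1 tab u) u = true := ext_range (a := 2379) (len := 793) h3 m1_3
  have h5 : ∀ u < 3965, (fun u => chkM1 tab u) u = true := ext_range (a := 3172) (len := 793) h4 m1_4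
  have h6 : ∀ u < 4758, (fun u => chkM1 tab u) u = true := ext_range (a := 3965) (len := 793) h5 m1_5
  have h7 : ∀ u < 5551, (fun u => chkM1 tab u) u = true := ext_range (a := 4758) (len := 793) h6 m1_6
  have h8 : ∀ u < 6344, (fun u => chkM1 tab u) u = true := ext_range (a := 5551) (len := 793) h7 m1_7
  have h9 : ∀ u < 7137, (fun u => chkM1 tab u) u = true := ext_range (a := 6344) (len := 793) h8 m1_8
  have h10 : ∀ u < 7930, (fun u => chkM1 tab u) u = true := ext_range (a := 7137) (len := 793) h9 m1_9
  have h11 : ∀ u < 8723, (fun u => chkM1 tab u) u = true := ext_range (a := 7930) (len := 793) h10 m1_10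
  have h12 : ∀ u < 9516, (fun u => chkM1 tab u) u = true := ext_range (a := 8723) (len := 793) h11 m1_11
  have h13 : ∀ u < 10309, (fun u => chkM1 tab u) u = true := ext_range (a := 9516) (len := 793) h12 m1_12
  have h14 : ∀ u < 11102, (fun u => chkM1 tab u) u = true := ext_range (a := 10309) (len := 793) h13 m1_13
  have h15 : ∀ u < 11895, (fun u => chkM1 tab u) u = true := ext_range (a := 11102) (len := 793) h14 m1_14
  have h16 : ∀ u < 12688, (fun u => chkM1 tab u) u = true := ext_range (a := 11895) (len := 793) h15 m1_15
  have h17 : ∀ u < 13481, (fun u => chkM1 tab u) u = true := ext_range (a := 12688) (len := 793) h16 m1_16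
  have h18 : ∀ u < 14274, (fun u => chkM1 tab u) u = true := ext_range (a := 13481) (len := 793) h17 m1_17
  have h19 : ∀ u < 15067, (fun u => chkM1 tab u) u = true := ext_range (a := 14274) (len := 793) h18 m1_18
  have h20 : ∀ u < 15860, (fun u => chkM1 tab u) u = true := ext_range (a := 15067) (len := 793) h19 m1_19
  have h21 : ∀ u < 16653, (fun u => chkM1 tab u) u = true := ext_range (a := 15860) (len := 793) h20 m1_20
  have h22 : ∀ u < 17446, (fun u => chkM1 tab u) u = true := ext_range (a := 16653) (len := 793) h21 m1_21
  have h23 : ∀ u < 18239, (fun u => chkM1 tab u) u = true := ext_range (a := 17446) (len := 793) h22 m1_22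
  have h24 : ∀ u < 19032, (fun u => chkM1 tab u) u = true := ext_range (a := 18239) (len := 793) h23 m1_23
  have h25 : ∀ u < 19825, (fun u => chkM1 tab u) u = true := ext_range (a := 19032) (len := 793) h24 m1_24
  have h26 : ∀ u < 20618, (fun u => chkM1 tab u) u = true := ext_range (a := 19825) (len := 793) h25 m1_25
  have h27 : ∀ u < 21411, (fun u => chkM1 tab u) u = true := ext_range (a := 20618) (len := 793) h26 m1_26
  have h28 : ∀ u < 22204, (fun u => chkM1 tab u) u = true := ext_range (a := 21411) (len := 793) h27 m1_27
  have h29 : ∀ u < 22997, (fun u => chkM1 tab u) u = true := ext_range (a := 22204) (len := 793) h28 m1_28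
  have h30 : ∀ u < 23790, (fun u => chkM1 tab u) u = true := ext_range (a := 22997) (len := 793) h29 m1_29
  have h31 : ∀ u < 24583, (fun u => chkM1 tab u) u = true := ext_range (a := 23790) (len := 793) h30 m1_30
  have h32 : ∀ u < 25376, (fun u => chkM1 tab u) u = true := ext_range (a := 24583) (len := 793) h31 m1_31
  have h33 : ∀ u < 26169, (fun u => chkM1 tab u) u = true := ext_range (a := 25376) (len := 793) h32 m1_32
  have h34 : ∀ u < 26962, (fun u => chkM1 tab u) u = true := ext_range (a := 26169) (len := 793) h33 m1_33
  have h35 : ∀ u < 27755, (fun u => chkM1 tab u) u = true := ext_range (a := 26962) (len := 793) h34 m1_34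
  have h36 : ∀ u < 28548, (fun u => chkM1 tab u) u = true := ext_range (a := 27755) (len := 793) h35 m1_35
  have h37 : ∀ u < 29341, (fun u => chkM1 tab u) u = true := ext_range (a := 28548) (len := 793) h36 m1_36
  have h38 : ∀ u < 30134, (fun u => chkM1 tab u) u = true := ext_range (a := 29341) (len := 793) h37 m1_37
  have h39 : ∀ u < 30927, (fun u => chkM1 tab u) u = true := ext_range (a := 30134) (len := 793) h38 m1_38
  have h40 : ∀ u < 31720, (fun u => chkM1 tab u) u = true := ext_range (a := 30927) (len := 793) h39 m1_39
  have h41 : ∀ u < 32513, (fun u => chkM1 tab u) u = true := ext_range (a := 31720) (len := 793) h40 m1_40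
  have h42 : ∀ u < 33306, (fun u => chkM1 tab u) u = true := ext_range (a := 32513) (len := 793) h41 m1_41
  have h43 : ∀ u < 34099, (fun u => chkM1 tab u) u = true := ext_range (a := 33306) (len := 793) h42 m1_42
  have h44 : ∀ u < 34892, (fun u => chkM1 tab u) u = true := ext_range (a := 34099) (len := 793) h43 m1_43
  have h45 : ∀ u < 35685, (fun u => chkM1 tab u) u = true := ext_range (a := 34892) (len := 793) h44 m1_44
  have h46 : ∀ u < 36478, (fun u => chkM1 tab u) u = true := ext_range (a := 35685) (len := 793) h45 m1_45
  have h47 : ∀ u < 37271, (fun u => chkM1 tab u) u = true := ext_range (a := 36478) (len := 793) h46 m1_46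
  have h48 : ∀ u < 38064, (fun u => chkM1 tab u) u = true := ext_range (a := 37271) (len := 793) h47 m1_47
  have h49 : ∀ u < 38857, (fun u => chkM1 tab u) u = true := ext_range (a := 38064) (len := 793) h48 m1_48
  have h50 : ∀ u < 39650, (fun u => chkM1 tab u) u = true := ext_range (a := 38857) (len := 793) h49 m1_49
  have h51 : ∀ u < 40443, (fun u => chkM1 tab u) u = true := ext_range (a := 39650) (len := 793) h50 m1_50
  have h52 : ∀ u < 41236, (fun u => chkM1 tab u) u = true := ext_range (a := 40443) (len := 793) h51 m1_51
  have h53 : ∀ u < 42029, (fun u => chkM1 tab u) u = true := ext_range (a := 41236) (len := 793) h52 m1_52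
  have h54 : ∀ u < 42822, (fun u => chkM1 tab u) u = true := ext_range (a := 42029) (len := 793) h53 m1_53
  have h55 : ∀ u < 43615, (fun u => chkM1 tab u) u = true := ext_range (a := 42822) (len := 793) h54 m1_54
  have h56 : ∀ u < 44408, (fun u => chkM1 tab u) u = true := ext_range (a := 43615) (len := 793) h55 m1_55
  have h57 : ∀ u < 45201, (fun u => chkM1 tab u) u = true := ext_range (a := 44408) (len := 793) h56 m1_56
  have h58 : ∀ u < 45994, (fun u => chkM1 tab u) u = true := ext_range (a := 45201) (len := 793) h57 m1_57
  have h59 : ∀ u < 46787, (fun u => chkM1 tab u) u = true := ext_range (a := 45994) (len := 793) h58 m1_58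
  have h60 : ∀ u < 47580, (fun u => chkM1 tab u) u = true := ext_range (a := 46787) (len := 793) h59 m1_59
  have h61 : ∀ u < 48373, (fun u => chkM1 tab u) u = true := ext_range (a := 47580) (len := 793) h60 m1_60
  have h62 : ∀ u < 49166, (fun u => chkM1 tab u) u = true := ext_range (a := 48373) (len := 793) h61 m1_61
  have h63 : ∀ u < 49959, (fun u => chkM1 tab u) u = true := ext_range (a := 49166) (len := 793) h62 m1_62
  have h64 : ∀ u < 50752, (fun u => chkM1 tab u) u = true := ext_range (a := 49959) (len := 793) h63 m1_63
  have h65 : ∀ u < 51545, (fun u => chkM1 tab u) u = true := ext_range (a := 50752) (len := 793) h64 m1_64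
  have h66 : ∀ u < 52338, (fun u => chkM1 tab u) u = true := ext_range (a := 51545) (len := 793) h65 m1_65
  have h67 : ∀ u < 53131, (fun u => chkM1 tab u) u = true := ext_range (a := 52338) (len := 793) h66 m1_66
  have h68 : ∀ u < 53924, (fun u => chkM1 tab u) u = true := ext_range (a := 53131) (len := 793) h67 m1_67
  have h69 : ∀ u < 54717, (fun u => chkM1 tab u) u = true := ext_range (a := 53924) (len := 793) h68 m1_68
  have h70 : ∀ u < 55510, (fun u => chkM1 tab u) u = true := ext_range (a := 54717) (len := 793) h69 m1_69
  have h71 : ∀ u < 56303, (fun u => chkM1 tab u) u = true := ext_range (a := 55510) (len := 793) h70 m1_70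
  have h72 : ∀ u < 57096, (fun u => chkM1 tab u) u = true := ext_range (a := 56303) (len := 793) h71 m1_71
  have h73 : ∀ u < 57889, (fun u => chkM1 tab u) u = true := ext_range (a := 57096) (len := 793) h72 m1_72
  have h74 : ∀ u < 58682, (fun u => chkM1 tab u) u = true := ext_range (a := 57889) (len := 793) h73 m1_73
  have h75 : ∀ u < 59475, (fun u => chkM1 tab u) u = true := ext_range (a := 58682) (len := 793) h74 m1_74
  have h76 : ∀ u < 60268, (fun u => chkM1 tab u) u = true := ext_range (a := 59475) (len := 793) h75 m1_75
  have h77 : ∀ u < 61061, (fun u => chkM1 tab u) u = true := ext_range (a := 60268) (len := 793) h76 m1_76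
  have h78 : ∀ u < 61854, (fun u => chkM1 tab u) u = true := ext_range (a := 61061) (len := 793) h77 m1_77
  have h79 : ∀ u < 62647, (fun u => chkM1 tab u) u = true := ext_range (a := 61854) (len := 793) h78 m1_78
  have h80 : ∀ u < 63440, (fun u => chkM1 tab u) u = true := ext_range (a := 62647) (len := 793) h79 m1_79
  have h81 : ∀ u < 64233, (fun u => chkM1 tab u) u = true := ext_range (a := 63440) (len := 793) h80 m1_80
  have h82 : ∀ u < 65026, (fun u => chkM1 tab u) u = true := ext_range (a := 64233) (len := 793) h81 m1_81
  have h83 : ∀ u < 65819, (fun u => chkM1 tab u) u = true := ext_range (a := 65026) (len := 793) h82 m1_82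
  have h84 : ∀ u < 66612, (fun u => chkM1 tab u) u = true := ext_range (a := 65819) (len := 793) h83 m1_83
  have h85 : ∀ u < 67405, (fun u => chkM1 tab u) u = true := ext_range (a := 66612) (len := 793) h84 m1_84
  have h86 : ∀ u < 68198, (fun u => chkM1 tab u) u = true := ext_range (a := 67405) (len := 793) h85 m1_85
  have h87 : ∀ u < 68991, (fun u => chkM1 tab u) u = true := ext_range (a := 68198) (len := 793) h86 m1_86
  have h88 : ∀ u < 69784, (fun u => chkM1 tab u) u = true := ext_range (a := 68991) (len := 793) h87 m1_87
  have h89 : ∀ u < 70577, (fun u => chkM1 tab u) u = true := ext_range (a := 69784) (len := 793) h88 m1_88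
  have h90 : ∀ u < 71370, (fun u => chkM1 tab u) u = true := ext_range (a := 70577) (len := 793) h89 m1_89
  have h91 : ∀ u < 72163, (fun u => chkM1 tab u) u = true := ext_range (a := 71370) (len := 793) h90 m1_90
  have h92 : ∀ u < 72956, (fun u => chkM1 tab u) u = true := ext_range (a := 72163) (len := 793) h91 m1_91
  have h93 : ∀ u < 73749, (fun u => chkM1 tab u) u = true := ext_range (a := 72956) (len := 793) h92 m1_92
  have h94 : ∀ u < 74542, (fun u => chkM1 tab u) u = true := ext_range (a := 73749) (len := 793) h93 m1_93
  have h95 : ∀ u < 75335, (fun u => chkM1 tab u) u = true := ext_range (a := 74542) (len := 793) h94 m1_94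
  have h96 : ∀ u < 76128, (fun u => chkM1 tab u) u = true := ext_range (a := 75335) (len := 793) h95 m1_95
  have h97 : ∀ u < 76921, (fun u => chkM1 tab u) u = true := ext_range (a := 76128) (len := 793) h96 m1_96
  have h98 : ∀ u < 77714, (fun u => chkM1 tab u) u = true := ext_range (a := 76921) (len := 793) h97 m1_97
  have h99 : ∀ u < 78507, (fun u => chkM1 tab u) u = true := ext_range (a := 77714) (len := 793) h98 m1_98
  have h100 : ∀ u < 79300, (fun u => chkM1 tab u) u = true := ext_range (a := 78507) (len := 793) h99 m1_99
  have h101 : ∀ u < 80093, (fun u => chkM1 tab u) u = true := ext_range (a := 79300) (len := 793) h100 m1_100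
  have h102 : ∀ u < 80886, (fun u => chkM1 tab u) u = true := ext_range (a := 80093) (len := 793) h101 m1_101
  have h103 : ∀ u < 81679, (fun u => chkM1 tab u) u = true := ext_range (a := 80886) (len := 793) h102 m1_102
  have h104 : ∀ u < 82472, (fun u => chkM1 tab u) u = true := ext_range (a := 81679) (len := 793) h103 m1_103
  have h105 : ∀ u < 83265, (fun u => chkM1 tab u) u = true := ext_range (a := 82472) (len := 793) h104 m1_104
  have h106 : ∀ u < 84058, (fun u => chkM1 tab u) u = true := ext_range (a := 83265) (len := 793) h105 m1_105
  have h107 : ∀ u < 84851, (fun u => chkM1 tab u) u = true := ext_range (a := 84058) (len := 793) h106 m1_106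
  have h108 : ∀ u < 85644, (fun u => chkM1 tab u) u = true := ext_range (a := 84851) (len := 793) h107 m1_107
  have h109 : ∀ u < 86437, (fun u => chkM1 tab u) u = true := ext_range (a := 85644) (len := 793) h108 m1_108
  have h110 : ∀ u < 87230, (fun u => chkM1 tab u) u = true := ext_range (a := 86437) (len := 793) h109 m1_109
  have h111 : ∀ u < 88023, (fun u => chkM1 tab u) u = true := ext_range (a := 87230) (len := 793) h110 m1_110
  have h112 : ∀ u < 88816, (fun u => chkM1 tab u) u = true := ext_range (a := 88023) (len := 793) h111 m1_111
  have h113 : ∀ u < 89609, (fun u => chkM1 tab u) u = true := ext_range (a := 88816) (len := 793) h112 m1_112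
  have h114 : ∀ u < 90402, (fun u => chkM1 tab u) u = true := ext_range (a := 89609) (len := 793) h113 m1_113
  have h115 : ∀ u < 91195, (fun u => chkM1 tab u) u = true := ext_range (a := 90402) (len := 793) h114 m1_114
  have h116 : ∀ u < 91988, (fun u => chkM1 tab u) u = true := ext_range (a := 91195) (len := 793) h115 m1_115
  have h117 : ∀ u < 92781, (fun u => chkM1 tab u) u = true := ext_range (a := 91988) (len := 793) h116 m1_116
  have h118 : ∀ u < 93574, (fun u => chkM1 tab u) u = true := ext_range (a := 92781) (len := 793) h117 m1_117
  have h119 : ∀ u < 94367, (fun u => chkM1 tab u) u = true := ext_range (a := 93574) (len := 793) h118 m1_118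
  have h120 : ∀ u < 95160, (fun u => chkM1 tab u) u = true := ext_range (a := 94367) (len := 793) h119 m1_119
  have h121 : ∀ u < 95953, (fun u => chkM1 tab u) u = true := ext_range (a := 95160) (len := 793) h120 m1_120
  have h122 : ∀ u < 96746, (fun u => chkM1 tab u) u = true := ext_range (a := 95953) (len := 793) h121 m1_121
  have h123 : ∀ u < 97539, (fun u => chkM1 tab u) u = true := ext_range (a := 96746) (len := 793) h122 m1_122
  have h124 : ∀ u < 98332, (fun u => chkM1 tab u) u = true := ext_range (a := 97539) (len := 793) h123 m1_123
  have h125 : ∀ u < 99125, (fun u => chkM1 tab u) u = true := ext_range (a := 98332) (len := 793) h124 m1_124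
  have h126 : ∀ u < 99918, (fun u => chkM1 tab u) u = true := ext_range (a := 99125) (len := 793) h125 m1_125
  have h127 : ∀ u < 100711, (fun u => chkM1 tab u) u = true := ext_range (a := 99918) (len := 793) h126 m1_126
  have h128 : ∀ u < 101504, (fun u => chkM1 tab u) u = true := ext_range (a := 100711) (len := 793) h127 m1_127
  have h129 : ∀ u < 102297, (fun u => chkM1 tab u) u = true := ext_range (a := 101504) (len := 793) h128 m1_128
  have h130 : ∀ u < 103090, (fun u => chkM1 tab u) u = true := ext_range (a := 102297) (len := 793) h129 m1_129
  have h131 : ∀ u < 103883, (fun u => chkM1 tab u) u = true := ext_range (a := 103090) (len := 793) h130 m1_130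
  have h132 : ∀ u < 104676, (fun u => chkM1 tab u) u = true := ext_range (a := 103883) (len := 793) h131 m1_131
  have h133 : ∀ u < 105469, (fun u => chkM1 tab u) u = true := ext_range (a := 104676) (len := 793) h132 m1_132
  have h134 : ∀ u < 106262, (fun u => chkM1 tab u) u = true := ext_range (a := 105469) (len := 793) h133 m1_133
  have h135 : ∀ u < 107055, (fun u => chkM1 tab u) u = true := ext_range (a := 106262) (len := 793) h134 m1_134
  have h136 : ∀ u < 107848, (fun u => chkM1 tab u) u = true := ext_range (a := 107055) (len := 793) h135 m1_135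
  have h137 : ∀ u < 108641, (fun u => chkM1 tab u) u = true := ext_range (a := 107848) (len := 793) h136 m1_136
  have h138 : ∀ u < 109434, (fun u => chkM1 tab u) u = true := ext_range (a := 108641) (len := 793) h137 m1_137
  have h139 : ∀ u < 110227, (fun u => chkM1 tab u) u = true := ext_range (a := 109434) (len := 793) h138 m1_138
  have h140 : ∀ u < 111020, (fun u => chkM1 tab u) u = true := ext_range (a := 110227) (len := 793) h139 m1_139
  have h141 : ∀ u < 111813, (fun u => chkM1 tab u) u = true := ext_range (a := 111020) (len := 793) h140 m1_140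
  have h142 : ∀ u < 112606, (fun u => chkM1 tab u) u = true := ext_range (a := 111813) (len := 793) h141 m1_141
  have h143 : ∀ u < 113399, (fun u => chkM1 tab u) u = true := ext_range (a := 112606) (len := 793) h142 m1_142
  have h144 : ∀ u < 114192, (fun u => chkM1 tab u) u = true := ext_range (a := 113399) (len := 793) h143 m1_143
  have h145 : ∀ u < 114985, (fun u => chkM1 tab u) u = true := ext_range (a := 114192) (len := 793) h144 m1_144
  have h146 : ∀ u < 115778, (fun u => chkM1 tab u) u = true := ext_range (a := 114985) (len := 793) h145 m1_145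
  have h147 : ∀ u < 116571, (fun u => chkM1 tab u) u = true := ext_range (a := 115778) (len := 793) h146 m1_146
  have h148 : ∀ u < 117364, (fun u => chkM1 tab u) u = true := ext_range (a := 116571) (len := 793) h147 m1_147
  have h149 : ∀ u < 118157, (fun u => chkM1 tab u) u = true := ext_range (a := 117364) (len := 793) h148 m1_148
  have h150 : ∀ u < 118950, (fun u => chkM1 tab u) u = true := ext_range (a := 118157) (len := 793) h149 m1_149
  have h151 : ∀ u < 119743, (fun u => chkM1 tab u) u = true := ext_range (a := 118950) (len := 793) h150 m1_150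
  have h152 : ∀ u < 120536, (fun u => chkM1 tab u) u = true := ext_range (a := 119743) (len := 793) h151 m1_151
  have h153 : ∀ u < 121329, (fun u => chkM1 tab u) u = true := ext_range (a := 120536) (len := 793) h152 m1_152
  have h154 : ∀ u < 122122, (fun u => chkM1 tab u) u = true := ext_range (a := 121329) (len := 793) h153 m1_153
  have h155 : ∀ u < 122760, (fun u => chkM1 tab u) u = true := ext_range (a := 122122) (len := 638) h154 m1_154
  exact h155

theorem hM2 : ∀ u < 122760, chkFix tab mwords u = true := by
  have h0 : ∀ u < 0, (fun u => chkFix tab mwords u) u = true := range_zero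
  have h1 : ∀ u < 86, (fun u => chkFix tab mwords u) u = true := ext_range (a := 0) (len := 86) h0 m2_0
  have h2 : ∀ u < 172, (fun u => chkFix tab mwords u) u = true := ext_range (a := 86) (len := 86) h1 m2_1
  have h3 : ∀ u < 258, (fun u => chkFix tab mwords u) u = true := ext_range (a := 172) (len := 86) h2 m2_2
  have h4 : ∀ u < 344, (fun u => chkFix tab mwords u) u = true := ext_range (a := 258) (len := 86) h3 m2_3
  have h5 : ∀ u < 430, (fun u => chkFix tab mwords u) u = true := ext_range (a := 344) (len := 86) h4 m2_4
  have h6 : ∀ u < 516, (fun u => chkFix tab mwords u) u = true := ext_range (a := 430) (len := 86) h5 m2_5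
  have h7 : ∀ u < 602, (fun u => chkFix tab mwords u) u = true := ext_range (a := 516) (len := 86) h6 m2_6
  have h8 : ∀ u < 688, (fun u => chkFix tab mwords u) u = true := ext_range (a := 602) (len := 86) h7 m2_7
  have h9 : ∀ u < 774, (fun u => chkFix tab mwords u) u = true := ext_range (a := 688) (len := 86) h8 m2_8
  have h10 : ∀ u < 860, (fun u => chkFix tab mwords u) u = true := ext_range (a := 774) (len := 86) h9 m2_9
  have h11 : ∀ u < 946, (fun u => chkFix tab mwords u) u = true := ext_range (a := 860) (len := 86) h10 m2_10
  have h12 : ∀ u < 1032, (fun u => chkFix tab mwords u) u = true := ext_range (a := 946) (len := 86) h11 m2_11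
  have h13 : ∀ u < 1118, (fun u => chkFix tab mwords u) u = true := ext_range (a := 1032) (len := 86) h12 m2_12
  have h14 : ∀ u < 1204, (fun u => chkFix tab mwords u) u = true := ext_range (a := 1118) (len := 86) h13 m2_13
  have h15 : ∀ u < 1290, (fun u => chkFix tab mwords u) u = true := ext_range (a := 1204) (len := 86) h14 m2_14
  have h16 : ∀ u < 1376, (fun u => chkFix tab mwords u) u = true := ext_range (a := 1290) (len := 86) h15 m2_15
  have h17 : ∀ u < 1462, (fun u => chkFix tab mwords u) u = true := ext_range (a := 1376) (len := 86) h16 m2_16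
  have h18 : ∀ u < 1548, (fun u => chkFix tab mwords u) u = true := ext_range (a := 1462) (len := 86) h17 m2_17
  have h19 : ∀ u < 1634, (fun u => chkFix tab mwords u) u = true := ext_range (a := 1548) (len := 86) h18 m2_18
  have h20 : ∀ u < 1720, (fun u => chkFix tab mwords u) u = true := ext_range (a := 1634) (len := 86) h19 m2_19
  have h21 : ∀ u < 1806, (fun u => chkFix tab mwords u) u = true := ext_range (a := 1720) (len := 86) h20 m2_20
  have h22 : ∀ u < 1892, (fun u => chkFix tab mwords u) u = true := ext_range (a := 1806) (len := 86) h21 m2_21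
  have h23 : ∀ u < 1978, (fun u => chkFix tab mwords u) u = true := ext_range (a := 1892) (len := 86) h22 m2_22
  have h24 : ∀ u < 2064, (fun u => chkFix tab mwords u) u = true := ext_range (a := 1978) (len := 86) h23 m2_23
  have h25 : ∀ u < 2150, (fun u => chkFix tab mwords u) u = true := ext_range (a := 2064) (len := 86) h24 m2_24
  have h26 : ∀ u < 2236, (fun u => chkFix tab mwords u) u = true := ext_range (a := 2150) (len := 86) h25 m2_25
  have h27 : ∀ u < 2322, (fun u => chkFix tab mwords u) u = true := ext_range (a := 2236) (len := 86) h26 m2_26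
  have h28 : ∀ u < 2408, (fun u => chkFix tab mwords u) u = true := ext_range (a := 2322) (len := 86) h27 m2_27
  have h29 : ∀ u < 2494, (fun u => chkFix tab mwords u) u = true := ext_range (a := 2408) (len := 86) h28 m2_28
  have h30 : ∀ u < 2580, (fun u => chkFix tab mwords u) u = true := ext_range (a := 2494) (len := 86) h29 m2_29
  have h31 : ∀ u < 2666, (fun u => chkFix tab mwords u) u = true := ext_range (a := 2580) (len := 86) h30 m2_30
  have h32 : ∀ u < 2752, (fun u => chkFix tab mwords u) u = true := ext_range (a := 2666) (len := 86) h31 m2_31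
  have h33 : ∀ u < 2838, (fun u => chkFix tab mwords u) u = true := ext_range (a := 2752) (len := 86) h32 m2_32
  have h34 : ∀ u < 2924, (fun u => chkFix tab mwords u) u = true := ext_range (a := 2838) (len := 86) h33 m2_33
  have h35 : ∀ u < 3010, (fun u => chkFix tab mwords u) u = true := ext_range (a := 2924) (len := 86) h34 m2_34
  have h36 : ∀ u < 3096, (fun u => chkFix tab mwords u) u = true := ext_range (a := 3010) (len := 86) h35 m2_35
  have h37 : ∀ u < 3182, (fun u => chkFix tab mwords u) u = true := ext_range (a := 3096) (len := 86) h36 m2_36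
  have h38 : ∀ u < 3268, (fun u => chkFix tab mwords u) u = true := ext_range (a := 3182) (len := 86) h37 m2_37
  have h39 : ∀ u < 3354, (fun u => chkFix tab mwords u) u = true := ext_range (a := 3268) (len := 86) h38 m2_38
  have h40 : ∀ u < 3440, (fun u => chkFix tab mwords u) u = true := ext_range (a := 3354) (len := 86) h39 m2_39
  have h41 : ∀ u < 3526, (fun u => chkFix tab mwords u) u = true := ext_range (a := 3440) (len := 86) h40 m2_40
  have h42 : ∀ u < 3612, (fun u => chkFix tab mwords u) u = true := ext_range (a := 3526) (len := 86) h41 m2_41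
  have h43 : ∀ u < 3698, (fun u => chkFix tab mwords u) u = true := ext_range (a := 3612) (len := 86) h42 m2_42
  have h44 : ∀ u < 3784, (fun u => chkFix tab mwords u) u = true := ext_range (a := 3698) (len := 86) h43 m2_43
  have h45 : ∀ u < 3870, (fun u => chkFix tab mwords u) u = true := ext_range (a := 3784) (len := 86) h44 m2_44
  have h46 : ∀ u < 3956, (fun u => chkFix tab mwords u) u = true := ext_range (a := 3870) (len := 86) h45 m2_45
  have h47 : ∀ u < 4042, (fun u => chkFix tab mwords u) u = true := ext_range (a := 3956) (len := 86) h46 m2_46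
  have h48 : ∀ u < 4128, (fun u => chkFix tab mwords u) u = true := ext_range (a := 4042) (len := 86) h47 m2_47
  have h49 : ∀ u < 4214, (fun u => chkFix tab mwords u) u = true := ext_range (a := 4128) (len := 86) h48 m2_48
  have h50 : ∀ u < 4300, (fun u => chkFix tab mwords u) u = true := ext_range (a := 4214) (len := 86) h49 m2_49
  have h51 : ∀ u < 4386, (fun u => chkFix tab mwords u) u = true := ext_range (a := 4300) (len := 86) h50 m2_50
  have h52 : ∀ u < 4472, (fun u => chkFix tab mwords u) u = true := ext_range (a := 4386) (len := 86) h51 m2_51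
  have h53 : ∀ u < 4558, (fun u => chkFix tab mwords u) u = true := ext_range (a := 4472) (len := 86) h52 m2_52
  have h54 : ∀ u < 4644, (fun u => chkFix tab mwords u) u = true := ext_range (a := 4558) (len := 86) h53 m2_53
  have h55 : ∀ u < 4730, (fun u => chkFix tab mwords u) u = true := ext_range (a := 4644) (len := 86) h54 m2_54
  have h56 : ∀ u < 4816, (fun u => chkFix tab mwords u) u = true := ext_range (a := 4730) (len := 86) h55 m2_55
  have h57 : ∀ u < 4902, (fun u => chkFix tab mwords u) u = true := ext_range (a := 4816) (len := 86) h56 m2_56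
  have h58 : ∀ u < 4988, (fun u => chkFix tab mwords u) u = true := ext_range (a := 4902) (len := 86) h57 m2_57
  have h59 : ∀ u < 5074, (fun u => chkFix tab mwords u) u = true := ext_range (a := 4988) (len := 86) h58 m2_58
  have h60 : ∀ u < 5160, (fun u => chkFix tab mwords u) u = true := ext_range (a := 5074) (len := 86) h59 m2_59
  have h61 : ∀ u < 5246, (fun u => chkFix tab mwords u) u = true := ext_range (a := 5160) (len := 86) h60 m2_60
  have h62 : ∀ u < 5332, (fun u => chkFix tab mwords u) u = true := ext_range (a := 5246) (len := 86) h61 m2_61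
  have h63 : ∀ u < 5418, (fun u => chkFix tab mwords u) u = true := ext_range (a := 5332) (len := 86) h62 m2_62
  have h64 : ∀ u < 5504, (fun u => chkFix tab mwords u) u = true := ext_range (a := 5418) (len := 86) h63 m2_63
  have h65 : ∀ u < 5590, (fun u => chkFix tab mwords u) u = true := ext_range (a := 5504) (len := 86) h64 m2_64
  have h66 : ∀ u < 5676, (fun u => chkFix tab mwords u) u = true := ext_range (a := 5590) (len := 86) h65 m2_65
  have h67 : ∀ u < 5762, (fun u => chkFix tab mwords u) u = true := ext_range (a := 5676) (len := 86) h66 m2_66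
  have h68 : ∀ u < 5848, (fun u => chkFix tab mwords u) u = true := ext_range (a := 5762) (len := 86) h67 m2_67
  have h69 : ∀ u < 5934, (fun u => chkFix tab mwords u) u = true := ext_range (a := 5848) (len := 86) h68 m2_68
  have h70 : ∀ u < 6020, (fun u => chkFix tab mwords u) u = true := ext_range (a := 5934) (len := 86) h69 m2_69
  have h71 : ∀ u < 6106, (fun u => chkFix tab mwords u) u = true := ext_range (a := 6020) (len := 86) h70 m2_70
  have h72 : ∀ u < 6192, (fun u => chkFix tab mwords u) u = true := ext_range (a := 6106) (len := 86) h71 m2_71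
  have h73 : ∀ u < 6278, (fun u => chkFix tab mwords u) u = true := ext_range (a := 6192) (len := 86) h72 m2_72
  have h74 : ∀ u < 6364, (fun u => chkFix tab mwords u) u = true := ext_range (a := 6278) (len := 86) h73 m2_73
  have h75 : ∀ u < 6450, (fun u => chkFix tab mwords u) u = true := ext_range (a := 6364) (len := 86) h74 m2_74
  have h76 : ∀ u < 6536, (fun u => chkFix tab mwords u) u = true := ext_range (a := 6450) (len := 86) h75 m2_75
  have h77 : ∀ u < 6622, (fun u => chkFix tab mwords u) u = true := ext_range (a := 6536) (len := 86) h76 m2_76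
  have h78 : ∀ u < 6708, (fun u => chkFix tab mwords u) u = true := ext_range (a := 6622) (len := 86) h77 m2_77
  have h79 : ∀ u < 6794, (fun u => chkFix tab mwords u) u = true := ext_range (a := 6708) (len := 86) h78 m2_78
  have h80 : ∀ u < 6880, (fun u => chkFix tab mwords u) u = true := ext_range (a := 6794) (len := 86) h79 m2_79
  have h81 : ∀ u < 6966, (fun u => chkFix tab mwords u) u = true := ext_range (a := 6880) (len := 86) h80 m2_80
  have h82 : ∀ u < 7052, (fun u => chkFix tab mwords u) u = true := ext_range (a := 6966) (len := 86) h81 m2_81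
  have h83 : ∀ u < 7138, (fun u => chkFix tab mwords u) u = true := ext_range (a := 7052) (len := 86) h82 m2_82
  have h84 : ∀ u < 7224, (fun u => chkFix tab mwords u) u = true := ext_range (a := 7138) (len := 86) h83 m2_83
  have h85 : ∀ u < 7310, (fun u => chkFix tab mwords u) u = true := ext_range (a := 7224) (len := 86) h84 m2_84
  have h86 : ∀ u < 7396, (fun u => chkFix tab mwords u) u = true := ext_range (a := 7310) (len := 86) h85 m2_85
  have h87 : ∀ u < 7482, (fun u => chkFix tab mwords u) u = true := ext_range (a := 7396) (len := 86) h86 m2_86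
  have h88 : ∀ u < 7568, (fun u => chkFix tab mwords u) u = true := ext_range (a := 7482) (len := 86) h87 m2_87
  have h89 : ∀ u < 7654, (fun u => chkFix tab mwords u) u = true := ext_range (a := 7568) (len := 86) h88 m2_88
  have h90 : ∀ u < 7740, (fun u => chkFix tab mwords u) u = true := ext_range (a := 7654) (len := 86) h89 m2_89
  have h91 : ∀ u < 7826, (fun u => chkFix tab mwords u) u = true := ext_range (a := 7740) (len := 86) h90 m2_90
  have h92 : ∀ u < 7912, (fun u => chkFix tab mwords u) u = true := ext_range (a := 7826) (len := 86) h91 m2_91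
  have h93 : ∀ u < 7998, (fun u => chkFix tab mwords u) u = true := ext_range (a := 7912) (len := 86) h92 m2_92
  have h94 : ∀ u < 8084, (fun u => chkFix tab mwords u) u = true := ext_range (a := 7998) (len := 86) h93 m2_93
  have h95 : ∀ u < 8170, (fun u => chkFix tab mwords u) u = true := ext_range (a := 8084) (len := 86) h94 m2_94
  have h96 : ∀ u < 8256, (fun u => chkFix tab mwords u) u = true := ext_range (a := 8170) (len := 86) h95 m2_95
  have h97 : ∀ u < 8342, (fun u => chkFix tab mwords u) u = true := ext_range (a := 8256) (len := 86) h96 m2_96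
  have h98 : ∀ u < 8428, (fun u => chkFix tab mwords u) u = true := ext_range (a := 8342) (len := 86) h97 m2_97
  have h99 : ∀ u < 8514, (fun u => chkFix tab mwords u) u = true := ext_range (a := 8428) (len := 86) h98 m2_98
  have h100 : ∀ u < 8600, (fun u => chkFix tab mwords u) u = true := ext_range (a := 8514) (len := 86) h99 m2_99
  have h101 : ∀ u < 8686, (fun u => chkFix tab mwords u) u = true := ext_range (a := 8600) (len := 86) h100 m2_100
  have h102 : ∀ u < 8772, (fun u => chkFix tab mwords u) u = true := ext_range (a := 8686) (len := 86) h101 m2_101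
  have h103 : ∀ u < 8858, (fun u => chkFix tab mwords u) u = true := ext_range (a := 8772) (len := 86) h102 m2_102
  have h104 : ∀ u < 8944, (fun u => chkFix tab mwords u) u = true := ext_range (a := 8858) (len := 86) h103 m2_103
  have h105 : ∀ u < 9030, (fun u => chkFix tab mwords u) u = true := ext_range (a := 8944) (len := 86) h104 m2_104
  have h106 : ∀ u < 9116, (fun u => chkFix tab mwords u) u = true := ext_range (a := 9030) (len := 86) h105 m2_105
  have h107 : ∀ u < 9202, (fun u => chkFix tab mwords u) u = true := ext_range (a := 9116) (len := 86) h106 m2_106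
  have h108 : ∀ u < 9288, (fun u => chkFix tab mwords u) u = true := ext_range (a := 9202) (len := 86) h107 m2_107
  have h109 : ∀ u < 9374, (fun u => chkFix tab mwords u) u = true := ext_range (a := 9288) (len := 86) h108 m2_108
  have h110 : ∀ u < 9460, (fun u => chkFix tab mwords u) u = true := ext_range (a := 9374) (len := 86) h109 m2_109
  have h111 : ∀ u < 9546, (fun u => chkFix tab mwords u) u = true := ext_range (a := 9460) (len := 86) h110 m2_110
  have h112 : ∀ u < 9632, (fun u => chkFix tab mwords u) u = true := ext_range (a := 9546) (len := 86) h111 m2_111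
  have h113 : ∀ u < 9718, (fun u => chkFix tab mwords u) u = true := ext_range (a := 9632) (len := 86) h112 m2_112
  have h114 : ∀ u < 9804, (fun u => chkFix tab mwords u) u = true := ext_range (a := 9718) (len := 86) h113 m2_113
  have h115 : ∀ u < 9890, (fun u => chkFix tab mwords u) u = true := ext_range (a := 9804) (len := 86) h114 m2_114
  have h116 : ∀ u < 9976, (fun u => chkFix tab mwords u) u = true := ext_range (a := 9890) (len := 86) h115 m2_115
  have h117 : ∀ u < 10062, (fun u => chkFix tab mwords u) u = true := ext_range (a := 9976) (len := 86) h116 m2_116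
  have h118 : ∀ u < 10148, (fun u => chkFix tab mwords u) u = true := ext_range (a := 10062) (len := 86) h117 m2_117
  have h119 : ∀ u < 10234, (fun u => chkFix tab mwords u) u = true := ext_range (a := 10148) (len := 86) h118 m2_118
  have h120 : ∀ u < 10320, (fun u => chkFix tab mwords u) u = true := ext_range (a := 10234) (len := 86) h119 m2_119
  have h121 : ∀ u < 10406, (fun u => chkFix tab mwords u) u = true := ext_range (a := 10320) (len := 86) h120 m2_120
  have h122 : ∀ u < 10492, (fun u => chkFix tab mwords u) u = true := ext_range (a := 10406) (len := 86) h121 m2_121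
  have h123 : ∀ u < 10578, (fun u => chkFix tab mwords u) u = true := ext_range (a := 10492) (len := 86) h122 m2_122
  have h124 : ∀ u < 10664, (fun u => chkFix tab mwords u) u = true := ext_range (a := 10578) (len := 86) h123 m2_123
  have h125 : ∀ u < 10750, (fun u => chkFix tab mwords u) u = true := ext_range (a := 10664) (len := 86) h124 m2_124
  have h126 : ∀ u < 10836, (fun u => chkFix tab mwords u) u = true := ext_range (a := 10750) (len := 86) h125 m2_125
  have h127 : ∀ u < 10922, (fun u => chkFix tab mwords u) u = true := ext_range (a := 10836) (len := 86) h126 m2_126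
  have h128 : ∀ u < 11008, (fun u => chkFix tab mwords u) u = true := ext_range (a := 10922) (len := 86) h127 m2_127
  have h129 : ∀ u < 11094, (fun u => chkFix tab mwords u) u = true := ext_range (a := 11008) (len := 86) h128 m2_128
  have h130 : ∀ u < 11180, (fun u => chkFix tab mwords u) u = true := ext_range (a := 11094) (len := 86) h129 m2_129
  have h131 : ∀ u < 11266, (fun u => chkFix tab mwords u) u = true := ext_range (a := 11180) (len := 86) h130 m2_130
  have h132 : ∀ u < 11352, (fun u => chkFix tab mwords u) u = true := ext_range (a := 11266) (len := 86) h131 m2_131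
  have h133 : ∀ u < 11438, (fun u => chkFix tab mwords u) u = true := ext_range (a := 11352) (len := 86) h132 m2_132
  have h134 : ∀ u < 11524, (fun u => chkFix tab mwords u) u = true := ext_range (a := 11438) (len := 86) h133 m2_133
  have h135 : ∀ u < 11610, (fun u => chkFix tab mwords u) u = true := ext_range (a := 11524) (len := 86) h134 m2_134
  have h136 : ∀ u < 11696, (fun u => chkFix tab mwords u) u = true := ext_range (a := 11610) (len := 86) h135 m2_135
  have h137 : ∀ u < 11782, (fun u => chkFix tab mwords u) u = true := ext_range (a := 11696) (len := 86) h136 m2_136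
  have h138 : ∀ u < 11868, (fun u => chkFix tab mwords u) u = true := ext_range (a := 11782) (len := 86) h137 m2_137
  have h139 : ∀ u < 11954, (fun u => chkFix tab mwords u) u = true := ext_range (a := 11868) (len := 86) h138 m2_138
  have h140 : ∀ u < 12040, (fun u => chkFix tab mwords u) u = true := ext_range (a := 11954) (len := 86) h139 m2_139
  have h141 : ∀ u < 12126, (fun u => chkFix tab mwords u) u = true := ext_range (a := 12040) (len := 86) h140 m2_140
  have h142 : ∀ u < 12212, (fun u => chkFix tab mwords u) u = true := ext_range (a := 12126) (len := 86) h141 m2_141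
  have h143 : ∀ u < 12298, (fun u => chkFix tab mwords u) u = true := ext_range (a := 12212) (len := 86) h142 m2_142
  have h144 : ∀ u < 12384, (fun u => chkFix tab mwords u) u = true := ext_range (a := 12298) (len := 86) h143 m2_143
  have h145 : ∀ u < 12470, (fun u => chkFix tab mwords u) u = true := ext_range (a := 12384) (len := 86) h144 m2_144
  have h146 : ∀ u < 12556, (fun u => chkFix tab mwords u) u = true := ext_range (a := 12470) (len := 86) h145 m2_145
  have h147 : ∀ u < 12642, (fun u => chkFix tab mwords u) u = true := ext_range (a := 12556) (len := 86) h146 m2_146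
  have h148 : ∀ u < 12728, (fun u => chkFix tab mwords u) u = true := ext_range (a := 12642) (len := 86) h147 m2_147
  have h149 : ∀ u < 12814, (fun u => chkFix tab mwords u) u = true := ext_range (a := 12728) (len := 86) h148 m2_148
  have h150 : ∀ u < 12900, (fun u => chkFix tab mwords u) u = true := ext_range (a := 12814) (len := 86) h149 m2_149
  have h151 : ∀ u < 12986, (fun u => chkFix tab mwords u) u = true := ext_range (a := 12900) (len := 86) h150 m2_150
  have h152 : ∀ u < 13072, (fun u => chkFix tab mwords u) u = true := ext_range (a := 12986) (len := 86) h151 m2_151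
  have h153 : ∀ u < 13158, (fun u => chkFix tab mwords u) u = true := ext_range (a := 13072) (len := 86) h152 m2_152
  have h154 : ∀ u < 13244, (fun u => chkFix tab mwords u) u = true := ext_range (a := 13158) (len := 86) h153 m2_153
  have h155 : ∀ u < 13330, (fun u => chkFix tab mwords u) u = true := ext_range (a := 13244) (len := 86) h154 m2_154
  have h156 : ∀ u < 13416, (fun u => chkFix tab mwords u) u = true := ext_range (a := 13330) (len := 86) h155 m2_155
  have h157 : ∀ u < 13502, (fun u => chkFix tab mwords u) u = true := ext_range (a := 13416) (len := 86) h156 m2_156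
  have h158 : ∀ u < 13588, (fun u => chkFix tab mwords u) u = true := ext_range (a := 13502) (len := 86) h157 m2_157
  have h159 : ∀ u < 13674, (fun u => chkFix tab mwords u) u = true := ext_range (a := 13588) (len := 86) h158 m2_158
  have h160 : ∀ u < 13760, (fun u => chkFix tab mwords u) u = true := ext_range (a := 13674) (len := 86) h159 m2_159
  have h161 : ∀ u < 13846, (fun u => chkFix tab mwords u) u = true := ext_range (a := 13760) (len := 86) h160 m2_160
  have h162 : ∀ u < 13932, (fun u => chkFix tab mwords u) u = true := ext_range (a := 13846) (len := 86) h161 m2_161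
  have h163 : ∀ u < 14018, (fun u => chkFix tab mwords u) u = true := ext_range (a := 13932) (len := 86) h162 m2_162
  have h164 : ∀ u < 14104, (fun u => chkFix tab mwords u) u = true := ext_range (a := 14018) (len := 86) h163 m2_163
  have h165 : ∀ u < 14190, (fun u => chkFix tab mwords u) u = true := ext_range (a := 14104) (len := 86) h164 m2_164
  have h166 : ∀ u < 14276, (fun u => chkFix tab mwords u) u = true := ext_range (a := 14190) (len := 86) h165 m2_165
  have h167 : ∀ u < 14362, (fun u => chkFix tab mwords u) u = true := ext_range (a := 14276) (len := 86) h166 m2_166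
  have h168 : ∀ u < 14448, (fun u => chkFix tab mwords u) u = true := ext_range (a := 14362) (len := 86) h167 m2_167
  have h169 : ∀ u < 14534, (fun u => chkFix tab mwords u) u = true := ext_range (a := 14448) (len := 86) h168 m2_168
  have h170 : ∀ u < 14620, (fun u => chkFix tab mwords u) u = true := ext_range (a := 14534) (len := 86) h169 m2_169
  have h171 : ∀ u < 14706, (fun u => chkFix tab mwords u) u = true := ext_range (a := 14620) (len := 86) h170 m2_170
  have h172 : ∀ u < 14792, (fun u => chkFix tab mwords u) u = true := ext_range (a := 14706) (len := 86) h171 m2_171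
  have h173 : ∀ u < 14878, (fun u => chkFix tab mwords u) u = true := ext_range (a := 14792) (len := 86) h172 m2_172
  have h174 : ∀ u < 14964, (fun u => chkFix tab mwords u) u = true := ext_range (a := 14878) (len := 86) h173 m2_173
  have h175 : ∀ u < 15050, (fun u => chkFix tab mwords u) u = true := ext_range (a := 14964) (len := 86) h174 m2_174
  have h176 : ∀ u < 15136, (fun u => chkFix tab mwords u) u = true := ext_range (a := 15050) (len := 86) h175 m2_175
  have h177 : ∀ u < 15222, (fun u => chkFix tab mwords u) u = true := ext_range (a := 15136) (len := 86) h176 m2_176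
  have h178 : ∀ u < 15308, (fun u => chkFix tab mwords u) u = true := ext_range (a := 15222) (len := 86) h177 m2_177
  have h179 : ∀ u < 15394, (fun u => chkFix tab mwords u) u = true := ext_range (a := 15308) (len := 86) h178 m2_178
  have h180 : ∀ u < 15480, (fun u => chkFix tab mwords u) u = true := ext_range (a := 15394) (len := 86) h179 m2_179
  have h181 : ∀ u < 15566, (fun u => chkFix tab mwords u) u = true := ext_range (a := 15480) (len := 86) h180 m2_180
  have h182 : ∀ u < 15652, (fun u => chkFix tab mwords u) u = true := ext_range (a := 15566) (len := 86) h181 m2_181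
  have h183 : ∀ u < 15738, (fun u => chkFix tab mwords u) u = true := ext_range (a := 15652) (len := 86) h182 m2_182
  have h184 : ∀ u < 15824, (fun u => chkFix tab mwords u) u = true := ext_range (a := 15738) (len := 86) h183 m2_183
  have h185 : ∀ u < 15910, (fun u => chkFix tab mwords u) u = true := ext_range (a := 15824) (len := 86) h184 m2_184
  have h186 : ∀ u < 15996, (fun u => chkFix tab mwords u) u = true := ext_range (a := 15910) (len := 86) h185 m2_185
  have h187 : ∀ u < 16082, (fun u => chkFix tab mwords u) u = true := ext_range (a := 15996) (len := 86) h186 m2_186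
  have h188 : ∀ u < 16168, (fun u => chkFix tab mwords u) u = true := ext_range (a := 16082) (len := 86) h187 m2_187
  have h189 : ∀ u < 16254, (fun u => chkFix tab mwords u) u = true := ext_range (a := 16168) (len := 86) h188 m2_188
  have h190 : ∀ u < 16340, (fun u => chkFix tab mwords u) u = true := ext_range (a := 16254) (len := 86) h189 m2_189
  have h191 : ∀ u < 16426, (fun u => chkFix tab mwords u) u = true := ext_range (a := 16340) (len := 86) h190 m2_190
  have h192 : ∀ u < 16512, (fun u => chkFix tab mwords u) u = true := ext_range (a := 16426) (len := 86) h191 m2_191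
  have h193 : ∀ u < 16598, (fun u => chkFix tab mwords u) u = true := ext_range (a := 16512) (len := 86) h192 m2_192
  have h194 : ∀ u < 16684, (fun u => chkFix tab mwords u) u = true := ext_range (a := 16598) (len := 86) h193 m2_193
  have h195 : ∀ u < 16770, (fun u => chkFix tab mwords u) u = true := ext_range (a := 16684) (len := 86) h194 m2_194
  have h196 : ∀ u < 16856, (fun u => chkFix tab mwords u) u = true := ext_range (a := 16770) (len := 86) h195 m2_195
  have h197 : ∀ u < 16942, (fun u => chkFix tab mwords u) u = true := ext_range (a := 16856) (len := 86) h196 m2_196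
  have h198 : ∀ u < 17028, (fun u => chkFix tab mwords u) u = true := ext_range (a := 16942) (len := 86) h197 m2_197
  have h199 : ∀ u < 17114, (fun u => chkFix tab mwords u) u = true := ext_range (a := 17028) (len := 86) h198 m2_198
  have h200 : ∀ u < 17200, (fun u => chkFix tab mwords u) u = true := ext_range (a := 17114) (len := 86) h199 m2_199
  have h201 : ∀ u < 17286, (fun u => chkFix tab mwords u) u = true := ext_range (a := 17200) (len := 86) h200 m2_200
  have h202 : ∀ u < 17372, (fun u => chkFix tab mwords u) u = true := ext_range (a := 17286) (len := 86) h201 m2_201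
  have h203 : ∀ u < 17458, (fun u => chkFix tab mwords u) u = true := ext_range (a := 17372) (len := 86) h202 m2_202
  have h204 : ∀ u < 17544, (fun u => chkFix tab mwords u) u = true := ext_range (a := 17458) (len := 86) h203 m2_203
  have h205 : ∀ u < 17630, (fun u => chkFix tab mwords u) u = true := ext_range (a := 17544) (len := 86) h204 m2_204
  have h206 : ∀ u < 17716, (fun u => chkFix tab mwords u) u = true := ext_range (a := 17630) (len := 86) h205 m2_205
  have h207 : ∀ u < 17802, (fun u => chkFix tab mwords u) u = true := ext_range (a := 17716) (len := 86) h206 m2_206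
  have h208 : ∀ u < 17888, (fun u => chkFix tab mwords u) u = true := ext_range (a := 17802) (len := 86) h207 m2_207
  have h209 : ∀ u < 17974, (fun u => chkFix tab mwords u) u = true := ext_range (a := 17888) (len := 86) h208 m2_208
  have h210 : ∀ u < 18060, (fun u => chkFix tab mwords u) u = true := ext_range (a := 17974) (len := 86) h209 m2_209
  have h211 : ∀ u < 18146, (fun u => chkFix tab mwords u) u = true := ext_range (a := 18060) (len := 86) h210 m2_210
  have h212 : ∀ u < 18232, (fun u => chkFix tab mwords u) u = true := ext_range (a := 18146) (len := 86) h211 m2_211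
  have h213 : ∀ u < 18318, (fun u => chkFix tab mwords u) u = true := ext_range (a := 18232) (len := 86) h212 m2_212
  have h214 : ∀ u < 18404, (fun u => chkFix tab mwords u) u = true := ext_range (a := 18318) (len := 86) h213 m2_213
  have h215 : ∀ u < 18490, (fun u => chkFix tab mwords u) u = true := ext_range (a := 18404) (len := 86) h214 m2_214
  have h216 : ∀ u < 18576, (fun u => chkFix tab mwords u) u = true := ext_range (a := 18490) (len := 86) h215 m2_215
  have h217 : ∀ u < 18662, (fun u => chkFix tab mwords u) u = true := ext_range (a := 18576) (len := 86) h216 m2_216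
  have h218 : ∀ u < 18748, (fun u => chkFix tab mwords u) u = true := ext_range (a := 18662) (len := 86) h217 m2_217
  have h219 : ∀ u < 18834, (fun u => chkFix tab mwords u) u = true := ext_range (a := 18748) (len := 86) h218 m2_218
  have h220 : ∀ u < 18920, (fun u => chkFix tab mwords u) u = true := ext_range (a := 18834) (len := 86) h219 m2_219
  have h221 : ∀ u < 19006, (fun u => chkFix tab mwords u) u = true := ext_range (a := 18920) (len := 86) h220 m2_220
  have h222 : ∀ u < 19092, (fun u => chkFix tab mwords u) u = true := ext_range (a := 19006) (len := 86) h221 m2_221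
  have h223 : ∀ u < 19178, (fun u => chkFix tab mwords u) u = true := ext_range (a := 19092) (len := 86) h222 m2_222
  have h224 : ∀ u < 19264, (fun u => chkFix tab mwords u) u = true := ext_range (a := 19178) (len := 86) h223 m2_223
  have h225 : ∀ u < 19350, (fun u => chkFix tab mwords u) u = true := ext_range (a := 19264) (len := 86) h224 m2_224
  have h226 : ∀ u < 19436, (fun u => chkFix tab mwords u) u = true := ext_range (a := 19350) (len := 86) h225 m2_225
  have h227 : ∀ u < 19522, (fun u => chkFix tab mwords u) u = true := ext_range (a := 19436) (len := 86) h226 m2_226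
  have h228 : ∀ u < 19608, (fun u => chkFix tab mwords u) u = true := ext_range (a := 19522) (len := 86) h227 m2_227
  have h229 : ∀ u < 19694, (fun u => chkFix tab mwords u) u = true := ext_range (a := 19608) (len := 86) h228 m2_228
  have h230 : ∀ u < 19780, (fun u => chkFix tab mwords u) u = true := ext_range (a := 19694) (len := 86) h229 m2_229
  have h231 : ∀ u < 19866, (fun u => chkFix tab mwords u) u = true := ext_range (a := 19780) (len := 86) h230 m2_230
  have h232 : ∀ u < 19952, (fun u => chkFix tab mwords u) u = true := ext_range (a := 19866) (len := 86) h231 m2_231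
  have h233 : ∀ u < 20038, (fun u => chkFix tab mwords u) u = true := ext_range (a := 19952) (len := 86) h232 m2_232
  have h234 : ∀ u < 20124, (fun u => chkFix tab mwords u) u = true := ext_range (a := 20038) (len := 86) h233 m2_233
  have h235 : ∀ u < 20210, (fun u => chkFix tab mwords u) u = true := ext_range (a := 20124) (len := 86) h234 m2_234
  have h236 : ∀ u < 20296, (fun u => chkFix tab mwords u) u = true := ext_range (a := 20210) (len := 86) h235 m2_235
  have h237 : ∀ u < 20382, (fun u => chkFix tab mwords u) u = true := ext_range (a := 20296) (len := 86) h236 m2_236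
  have h238 : ∀ u < 20468, (fun u => chkFix tab mwords u) u = true := ext_range (a := 20382) (len := 86) h237 m2_237
  have h239 : ∀ u < 20554, (fun u => chkFix tab mwords u) u = true := ext_range (a := 20468) (len := 86) h238 m2_238
  have h240 : ∀ u < 20640, (fun u => chkFix tab mwords u) u = true := ext_range (a := 20554) (len := 86) h239 m2_239
  have h241 : ∀ u < 20726, (fun u => chkFix tab mwords u) u = true := ext_range (a := 20640) (len := 86) h240 m2_240
  have h242 : ∀ u < 20812, (fun u => chkFix tab mwords u) u = true := ext_range (a := 20726) (len := 86) h241 m2_241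
  have h243 : ∀ u < 20898, (fun u => chkFix tab mwords u) u = true := ext_range (a := 20812) (len := 86) h242 m2_242
  have h244 : ∀ u < 20984, (fun u => chkFix tab mwords u) u = true := ext_range (a := 20898) (len := 86) h243 m2_243
  have h245 : ∀ u < 21070, (fun u => chkFix tab mwords u) u = true := ext_range (a := 20984) (len := 86) h244 m2_244
  have h246 : ∀ u < 21156, (fun u => chkFix tab mwords u) u = true := ext_range (a := 21070) (len := 86) h245 m2_245
  have h247 : ∀ u < 21242, (fun u => chkFix tab mwords u) u = true := ext_range (a := 21156) (len := 86) h246 m2_246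
  have h248 : ∀ u < 21328, (fun u => chkFix tab mwords u) u = true := ext_range (a := 21242) (len := 86) h247 m2_247
  have h249 : ∀ u < 21414, (fun u => chkFix tab mwords u) u = true := ext_range (a := 21328) (len := 86) h248 m2_248
  have h250 : ∀ u < 21500, (fun u => chkFix tab mwords u) u = true := ext_range (a := 21414) (len := 86) h249 m2_249
  have h251 : ∀ u < 21586, (fun u => chkFix tab mwords u) u = true := ext_range (a := 21500) (len := 86) h250 m2_250
  have h252 : ∀ u < 21672, (fun u => chkFix tab mwords u) u = true := ext_range (a := 21586) (len := 86) h251 m2_251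
  have h253 : ∀ u < 21758, (fun u => chkFix tab mwords u) u = true := ext_range (a := 21672) (len := 86) h252 m2_252
  have h254 : ∀ u < 21844, (fun u => chkFix tab mwords u) u = true := ext_range (a := 21758) (len := 86) h253 m2_253
  have h255 : ∀ u < 21930, (fun u => chkFix tab mwords u) u = true := ext_range (a := 21844) (len := 86) h254 m2_254
  have h256 : ∀ u < 22016, (fun u => chkFix tab mwords u) u = true := ext_range (a := 21930) (len := 86) h255 m2_255
  have h257 : ∀ u < 22102, (fun u => chkFix tab mwords u) u = true := ext_range (a := 22016) (len := 86) h256 m2_256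
  have h258 : ∀ u < 22188, (fun u => chkFix tab mwords u) u = true := ext_range (a := 22102) (len := 86) h257 m2_257
  have h259 : ∀ u < 22274, (fun u => chkFix tab mwords u) u = true := ext_range (a := 22188) (len := 86) h258 m2_258
  have h260 : ∀ u < 22360, (fun u => chkFix tab mwords u) u = true := ext_range (a := 22274) (len := 86) h259 m2_259
  have h261 : ∀ u < 22446, (fun u => chkFix tab mwords u) u = true := ext_range (a := 22360) (len := 86) h260 m2_260
  have h262 : ∀ u < 22532, (fun u => chkFix tab mwords u) u = true := ext_range (a := 22446) (len := 86) h261 m2_261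
  have h263 : ∀ u < 22618, (fun u => chkFix tab mwords u) u = true := ext_range (a := 22532) (len := 86) h262 m2_262
  have h264 : ∀ u < 22704, (fun u => chkFix tab mwords u) u = true := ext_range (a := 22618) (len := 86) h263 m2_263
  have h265 : ∀ u < 22790, (fun u => chkFix tab mwords u) u = true := ext_range (a := 22704) (len := 86) h264 m2_264
  have h266 : ∀ u < 22876, (fun u => chkFix tab mwords u) u = true := ext_range (a := 22790) (len := 86) h265 m2_265
  have h267 : ∀ u < 22962, (fun u => chkFix tab mwords u) u = true := ext_range (a := 22876) (len := 86) h266 m2_266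
  have h268 : ∀ u < 23048, (fun u => chkFix tab mwords u) u = true := ext_range (a := 22962) (len := 86) h267 m2_267
  have h269 : ∀ u < 23134, (fun u => chkFix tab mwords u) u = true := ext_range (a := 23048) (len := 86) h268 m2_268
  have h270 : ∀ u < 23220, (fun u => chkFix tab mwords u) u = true := ext_range (a := 23134) (len := 86) h269 m2_269
  have h271 : ∀ u < 23306, (fun u => chkFix tab mwords u) u = true := ext_range (a := 23220) (len := 86) h270 m2_270
  have h272 : ∀ u < 23392, (fun u => chkFix tab mwords u) u = true := ext_range (a := 23306) (len := 86) h271 m2_271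
  have h273 : ∀ u < 23478, (fun u => chkFix tab mwords u) u = true := ext_range (a := 23392) (len := 86) h272 m2_272
  have h274 : ∀ u < 23564, (fun u => chkFix tab mwords u) u = true := ext_range (a := 23478) (len := 86) h273 m2_273
  have h275 : ∀ u < 23650, (fun u => chkFix tab mwords u) u = true := ext_range (a := 23564) (len := 86) h274 m2_274
  have h276 : ∀ u < 23736, (fun u => chkFix tab mwords u) u = true := ext_range (a := 23650) (len := 86) h275 m2_275
  have h277 : ∀ u < 23822, (fun u => chkFix tab mwords u) u = true := ext_range (a := 23736) (len := 86) h276 m2_276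
  have h278 : ∀ u < 23908, (fun u => chkFix tab mwords u) u = true := ext_range (a := 23822) (len := 86) h277 m2_277
  have h279 : ∀ u < 23994, (fun u => chkFix tab mwords u) u = true := ext_range (a := 23908) (len := 86) h278 m2_278
  have h280 : ∀ u < 24080, (fun u => chkFix tab mwords u) u = true := ext_range (a := 23994) (len := 86) h279 m2_279
  have h281 : ∀ u < 24166, (fun u => chkFix tab mwords u) u = true := ext_range (a := 24080) (len := 86) h280 m2_280
  have h282 : ∀ u < 24252, (fun u => chkFix tab mwords u) u = true := ext_range (a := 24166) (len := 86) h281 m2_281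
  have h283 : ∀ u < 24338, (fun u => chkFix tab mwords u) u = true := ext_range (a := 24252) (len := 86) h282 m2_282
  have h284 : ∀ u < 24424, (fun u => chkFix tab mwords u) u = true := ext_range (a := 24338) (len := 86) h283 m2_283
  have h285 : ∀ u < 24510, (fun u => chkFix tab mwords u) u = true := ext_range (a := 24424) (len := 86) h284 m2_284
  have h286 : ∀ u < 24596, (fun u => chkFix tab mwords u) u = true := ext_range (a := 24510) (len := 86) h285 m2_285
  have h287 : ∀ u < 24682, (fun u => chkFix tab mwords u) u = true := ext_range (a := 24596) (len := 86) h286 m2_286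
  have h288 : ∀ u < 24768, (fun u => chkFix tab mwords u) u = true := ext_range (a := 24682) (len := 86) h287 m2_287
  have h289 : ∀ u < 24854, (fun u => chkFix tab mwords u) u = true := ext_range (a := 24768) (len := 86) h288 m2_288
  have h290 : ∀ u < 24940, (fun u => chkFix tab mwords u) u = true := ext_range (a := 24854) (len := 86) h289 m2_289
  have h291 : ∀ u < 25026, (fun u => chkFix tab mwords u) u = true := ext_range (a := 24940) (len := 86) h290 m2_290
  have h292 : ∀ u < 25112, (fun u => chkFix tab mwords u) u = true := ext_range (a := 25026) (len := 86) h291 m2_291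
  have h293 : ∀ u < 25198, (fun u => chkFix tab mwords u) u = true := ext_range (a := 25112) (len := 86) h292 m2_292
  have h294 : ∀ u < 25284, (fun u => chkFix tab mwords u) u = true := ext_range (a := 25198) (len := 86) h293 m2_293
  have h295 : ∀ u < 25370, (fun u => chkFix tab mwords u) u = true := ext_range (a := 25284) (len := 86) h294 m2_294
  have h296 : ∀ u < 25456, (fun u => chkFix tab mwords u) u = true := ext_range (a := 25370) (len := 86) h295 m2_295
  have h297 : ∀ u < 25542, (fun u => chkFix tab mwords u) u = true := ext_range (a := 25456) (len := 86) h296 m2_296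
  have h298 : ∀ u < 25628, (fun u => chkFix tab mwords u) u = true := ext_range (a := 25542) (len := 86) h297 m2_297
  have h299 : ∀ u < 25714, (fun u => chkFix tab mwords u) u = true := ext_range (a := 25628) (len := 86) h298 m2_298
  have h300 : ∀ u < 25800, (fun u => chkFix tab mwords u) u = true := ext_range (a := 25714) (len := 86) h299 m2_299
  have h301 : ∀ u < 25886, (fun u => chkFix tab mwords u) u = true := ext_range (a := 25800) (len := 86) h300 m2_300
  have h302 : ∀ u < 25972, (fun u => chkFix tab mwords u) u = true := ext_range (a := 25886) (len := 86) h301 m2_301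
  have h303 : ∀ u < 26058, (fun u => chkFix tab mwords u) u = true := ext_range (a := 25972) (len := 86) h302 m2_302
  have h304 : ∀ u < 26144, (fun u => chkFix tab mwords u) u = true := ext_range (a := 26058) (len := 86) h303 m2_303
  have h305 : ∀ u < 26230, (fun u => chkFix tab mwords u) u = true := ext_range (a := 26144) (len := 86) h304 m2_304
  have h306 : ∀ u < 26316, (fun u => chkFix tab mwords u) u = true := ext_range (a := 26230) (len := 86) h305 m2_305
  have h307 : ∀ u < 26402, (fun u => chkFix tab mwords u) u = true := ext_range (a := 26316) (len := 86) h306 m2_306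
  have h308 : ∀ u < 26488, (fun u => chkFix tab mwords u) u = true := ext_range (a := 26402) (len := 86) h307 m2_307
  have h309 : ∀ u < 26574, (fun u => chkFix tab mwords u) u = true := ext_range (a := 26488) (len := 86) h308 m2_308
  have h310 : ∀ u < 26660, (fun u => chkFix tab mwords u) u = true := ext_range (a := 26574) (len := 86) h309 m2_309
  have h311 : ∀ u < 26746, (fun u => chkFix tab mwords u) u = true := ext_range (a := 26660) (len := 86) h310 m2_310
  have h312 : ∀ u < 26832, (fun u => chkFix tab mwords u) u = true := ext_range (a := 26746) (len := 86) h311 m2_311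
  have h313 : ∀ u < 26918, (fun u => chkFix tab mwords u) u = true := ext_range (a := 26832) (len := 86) h312 m2_312
  have h314 : ∀ u < 27004, (fun u => chkFix tab mwords u) u = true := ext_range (a := 26918) (len := 86) h313 m2_313
  have h315 : ∀ u < 27090, (fun u => chkFix tab mwords u) u = true := ext_range (a := 27004) (len := 86) h314 m2_314
  have h316 : ∀ u < 27176, (fun u => chkFix tab mwords u) u = true := ext_range (a := 27090) (len := 86) h315 m2_315
  have h317 : ∀ u < 27262, (fun u => chkFix tab mwords u) u = true := ext_range (a := 27176) (len := 86) h316 m2_316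
  have h318 : ∀ u < 27348, (fun u => chkFix tab mwords u) u = true := ext_range (a := 27262) (len := 86) h317 m2_317
  have h319 : ∀ u < 27434, (fun u => chkFix tab mwords u) u = true := ext_range (a := 27348) (len := 86) h318 m2_318
  have h320 : ∀ u < 27520, (fun u => chkFix tab mwords u) u = true := ext_range (a := 27434) (len := 86) h319 m2_319
  have h321 : ∀ u < 27606, (fun u => chkFix tab mwords u) u = true := ext_range (a := 27520) (len := 86) h320 m2_320
  have h322 : ∀ u < 27692, (fun u => chkFix tab mwords u) u = true := ext_range (a := 27606) (len := 86) h321 m2_321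
  have h323 : ∀ u < 27778, (fun u => chkFix tab mwords u) u = true := ext_range (a := 27692) (len := 86) h322 m2_322
  have h324 : ∀ u < 27864, (fun u => chkFix tab mwords u) u = true := ext_range (a := 27778) (len := 86) h323 m2_323
  have h325 : ∀ u < 27950, (fun u => chkFix tab mwords u) u = true := ext_range (a := 27864) (len := 86) h324 m2_324
  have h326 : ∀ u < 28036, (fun u => chkFix tab mwords u) u = true := ext_range (a := 27950) (len := 86) h325 m2_325
  have h327 : ∀ u < 28122, (fun u => chkFix tab mwords u) u = true := ext_range (a := 28036) (len := 86) h326 m2_326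
  have h328 : ∀ u < 28208, (fun u => chkFix tab mwords u) u = true := ext_range (a := 28122) (len := 86) h327 m2_327
  have h329 : ∀ u < 28294, (fun u => chkFix tab mwords u) u = true := ext_range (a := 28208) (len := 86) h328 m2_328
  have h330 : ∀ u < 28380, (fun u => chkFix tab mwords u) u = true := ext_range (a := 28294) (len := 86) h329 m2_329
  have h331 : ∀ u < 28466, (fun u => chkFix tab mwords u) u = true := ext_range (a := 28380) (len := 86) h330 m2_330
  have h332 : ∀ u < 28552, (fun u => chkFix tab mwords u) u = true := ext_range (a := 28466) (len := 86) h331 m2_331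
  have h333 : ∀ u < 28638, (fun u => chkFix tab mwords u) u = true := ext_range (a := 28552) (len := 86) h332 m2_332
  have h334 : ∀ u < 28724, (fun u => chkFix tab mwords u) u = true := ext_range (a := 28638) (len := 86) h333 m2_333
  have h335 : ∀ u < 28810, (fun u => chkFix tab mwords u) u = true := ext_range (a := 28724) (len := 86) h334 m2_334
  have h336 : ∀ u < 28896, (fun u => chkFix tab mwords u) u = true := ext_range (a := 28810) (len := 86) h335 m2_335
  have h337 : ∀ u < 28982, (fun u => chkFix tab mwords u) u = true := ext_range (a := 28896) (len := 86) h336 m2_336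
  have h338 : ∀ u < 29068, (fun u => chkFix tab mwords u) u = true := ext_range (a := 28982) (len := 86) h337 m2_337
  have h339 : ∀ u < 29154, (fun u => chkFix tab mwords u) u = true := ext_range (a := 29068) (len := 86) h338 m2_338
  have h340 : ∀ u < 29240, (fun u => chkFix tab mwords u) u = true := ext_range (a := 29154) (len := 86) h339 m2_339
  have h341 : ∀ u < 29326, (fun u => chkFix tab mwords u) u = true := ext_range (a := 29240) (len := 86) h340 m2_340
  have h342 : ∀ u < 29412, (fun u => chkFix tab mwords u) u = true := ext_range (a := 29326) (len := 86) h341 m2_341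
  have h343 : ∀ u < 29498, (fun u => chkFix tab mwords u) u = true := ext_range (a := 29412) (len := 86) h342 m2_342
  have h344 : ∀ u < 29584, (fun u => chkFix tab mwords u) u = true := ext_range (a := 29498) (len := 86) h343 m2_343
  have h345 : ∀ u < 29670, (fun u => chkFix tab mwords u) u = true := ext_range (a := 29584) (len := 86) h344 m2_344
  have h346 : ∀ u < 29756, (fun u => chkFix tab mwords u) u = true := ext_range (a := 29670) (len := 86) h345 m2_345
  have h347 : ∀ u < 29842, (fun u => chkFix tab mwords u) u = true := ext_range (a := 29756) (len := 86) h346 m2_346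
  have h348 : ∀ u < 29928, (fun u => chkFix tab mwords u) u = true := ext_range (a := 29842) (len := 86) h347 m2_347
  have h349 : ∀ u < 30014, (fun u => chkFix tab mwords u) u = true := ext_range (a := 29928) (len := 86) h348 m2_348
  have h350 : ∀ u < 30100, (fun u => chkFix tab mwords u) u = true := ext_range (a := 30014) (len := 86) h349 m2_349
  have h351 : ∀ u < 30186, (fun u => chkFix tab mwords u) u = true := ext_range (a := 30100) (len := 86) h350 m2_350
  have h352 : ∀ u < 30272, (fun u => chkFix tab mwords u) u = true := ext_range (a := 30186) (len := 86) h351 m2_351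
  have h353 : ∀ u < 30358, (fun u => chkFix tab mwords u) u = true := ext_range (a := 30272) (len := 86) h352 m2_352
  have h354 : ∀ u < 30444, (fun u => chkFix tab mwords u) u = true := ext_range (a := 30358) (len := 86) h353 m2_353
  have h355 : ∀ u < 30530, (fun u => chkFix tab mwords u) u = true := ext_range (a := 30444) (len := 86) h354 m2_354
  have h356 : ∀ u < 30616, (fun u => chkFix tab mwords u) u = true := ext_range (a := 30530) (len := 86) h355 m2_355
  have h357 : ∀ u < 30702, (fun u => chkFix tab mwords u) u = true := ext_range (a := 30616) (len := 86) h356 m2_356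
  have h358 : ∀ u < 30788, (fun u => chkFix tab mwords u) u = true := ext_range (a := 30702) (len := 86) h357 m2_357
  have h359 : ∀ u < 30874, (fun u => chkFix tab mwords u) u = true := ext_range (a := 30788) (len := 86) h358 m2_358
  have h360 : ∀ u < 30960, (fun u => chkFix tab mwords u) u = true := ext_range (a := 30874) (len := 86) h359 m2_359
  have h361 : ∀ u < 31046, (fun u => chkFix tab mwords u) u = true := ext_range (a := 30960) (len := 86) h360 m2_360
  have h362 : ∀ u < 31132, (fun u => chkFix tab mwords u) u = true := ext_range (a := 31046) (len := 86) h361 m2_361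
  have h363 : ∀ u < 31218, (fun u => chkFix tab mwords u) u = true := ext_range (a := 31132) (len := 86) h362 m2_362
  have h364 : ∀ u < 31304, (fun u => chkFix tab mwords u) u = true := ext_range (a := 31218) (len := 86) h363 m2_363
  have h365 : ∀ u < 31390, (fun u => chkFix tab mwords u) u = true := ext_range (a := 31304) (len := 86) h364 m2_364
  have h366 : ∀ u < 31476, (fun u => chkFix tab mwords u) u = true := ext_range (a := 31390) (len := 86) h365 m2_365
  have h367 : ∀ u < 31562, (fun u => chkFix tab mwords u) u = true := ext_range (a := 31476) (len := 86) h366 m2_366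
  have h368 : ∀ u < 31648, (fun u => chkFix tab mwords u) u = true := ext_range (a := 31562) (len := 86) h367 m2_367
  have h369 : ∀ u < 31734, (fun u => chkFix tab mwords u) u = true := ext_range (a := 31648) (len := 86) h368 m2_368
  have h370 : ∀ u < 31820, (fun u => chkFix tab mwords u) u = true := ext_range (a := 31734) (len := 86) h369 m2_369
  have h371 : ∀ u < 31906, (fun u => chkFix tab mwords u) u = true := ext_range (a := 31820) (len := 86) h370 m2_370
  have h372 : ∀ u < 31992, (fun u => chkFix tab mwords u) u = true := ext_range (a := 31906) (len := 86) h371 m2_371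
  have h373 : ∀ u < 32078, (fun u => chkFix tab mwords u) u = true := ext_range (a := 31992) (len := 86) h372 m2_372
  have h374 : ∀ u < 32164, (fun u => chkFix tab mwords u) u = true := ext_range (a := 32078) (len := 86) h373 m2_373
  have h375 : ∀ u < 32250, (fun u => chkFix tab mwords u) u = true := ext_range (a := 32164) (len := 86) h374 m2_374
  have h376 : ∀ u < 32336, (fun u => chkFix tab mwords u) u = true := ext_range (a := 32250) (len := 86) h375 m2_375
  have h377 : ∀ u < 32422, (fun u => chkFix tab mwords u) u = true := ext_range (a := 32336) (len := 86) h376 m2_376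
  have h378 : ∀ u < 32508, (fun u => chkFix tab mwords u) u = true := ext_range (a := 32422) (len := 86) h377 m2_377
  have h379 : ∀ u < 32594, (fun u => chkFix tab mwords u) u = true := ext_range (a := 32508) (len := 86) h378 m2_378
  have h380 : ∀ u < 32680, (fun u => chkFix tab mwords u) u = true := ext_range (a := 32594) (len := 86) h379 m2_379
  have h381 : ∀ u < 32766, (fun u => chkFix tab mwords u) u = true := ext_range (a := 32680) (len := 86) h380 m2_380
  have h382 : ∀ u < 32852, (fun u => chkFix tab mwords u) u = true := ext_range (a := 32766) (len := 86) h381 m2_381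
  have h383 : ∀ u < 32938, (fun u => chkFix tab mwords u) u = true := ext_range (a := 32852) (len := 86) h382 m2_382
  have h384 : ∀ u < 33024, (fun u => chkFix tab mwords u) u = true := ext_range (a := 32938) (len := 86) h383 m2_383
  have h385 : ∀ u < 33110, (fun u => chkFix tab mwords u) u = true := ext_range (a := 33024) (len := 86) h384 m2_384
  have h386 : ∀ u < 33196, (fun u => chkFix tab mwords u) u = true := ext_range (a := 33110) (len := 86) h385 m2_385
  have h387 : ∀ u < 33282, (fun u => chkFix tab mwords u) u = true := ext_range (a := 33196) (len := 86) h386 m2_386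
  have h388 : ∀ u < 33368, (fun u => chkFix tab mwords u) u = true := ext_range (a := 33282) (len := 86) h387 m2_387
  have h389 : ∀ u < 33454, (fun u => chkFix tab mwords u) u = true := ext_range (a := 33368) (len := 86) h388 m2_388
  have h390 : ∀ u < 33540, (fun u => chkFix tab mwords u) u = true := ext_range (a := 33454) (len := 86) h389 m2_389
  have h391 : ∀ u < 33626, (fun u => chkFix tab mwords u) u = true := ext_range (a := 33540) (len := 86) h390 m2_390
  have h392 : ∀ u < 33712, (fun u => chkFix tab mwords u) u = true := ext_range (a := 33626) (len := 86) h391 m2_391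
  have h393 : ∀ u < 33798, (fun u => chkFix tab mwords u) u = true := ext_range (a := 33712) (len := 86) h392 m2_392
  have h394 : ∀ u < 33884, (fun u => chkFix tab mwords u) u = true := ext_range (a := 33798) (len := 86) h393 m2_393
  have h395 : ∀ u < 33970, (fun u => chkFix tab mwords u) u = true := ext_range (a := 33884) (len := 86) h394 m2_394
  have h396 : ∀ u < 34056, (fun u => chkFix tab mwords u) u = true := ext_range (a := 33970) (len := 86) h395 m2_395
  have h397 : ∀ u < 34142, (fun u => chkFix tab mwords u) u = true := ext_range (a := 34056) (len := 86) h396 m2_396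
  have h398 : ∀ u < 34228, (fun u => chkFix tab mwords u) u = true := ext_range (a := 34142) (len := 86) h397 m2_397
  have h399 : ∀ u < 34314, (fun u => chkFix tab mwords u) u = true := ext_range (a := 34228) (len := 86) h398 m2_398
  have h400 : ∀ u < 34400, (fun u => chkFix tab mwords u) u = true := ext_range (a := 34314) (len := 86) h399 m2_399
  have h401 : ∀ u < 34486, (fun u => chkFix tab mwords u) u = true := ext_range (a := 34400) (len := 86) h400 m2_400
  have h402 : ∀ u < 34572, (fun u => chkFix tab mwords u) u = true := ext_range (a := 34486) (len := 86) h401 m2_401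
  have h403 : ∀ u < 34658, (fun u => chkFix tab mwords u) u = true := ext_range (a := 34572) (len := 86) h402 m2_402
  have h404 : ∀ u < 34744, (fun u => chkFix tab mwords u) u = true := ext_range (a := 34658) (len := 86) h403 m2_403
  have h405 : ∀ u < 34830, (fun u => chkFix tab mwords u) u = true := ext_range (a := 34744) (len := 86) h404 m2_404
  have h406 : ∀ u < 34916, (fun u => chkFix tab mwords u) u = true := ext_range (a := 34830) (len := 86) h405 m2_405
  have h407 : ∀ u < 35002, (fun u => chkFix tab mwords u) u = true := ext_range (a := 34916) (len := 86) h406 m2_406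
  have h408 : ∀ u < 35088, (fun u => chkFix tab mwords u) u = true := ext_range (a := 35002) (len := 86) h407 m2_407
  have h409 : ∀ u < 35174, (fun u => chkFix tab mwords u) u = true := ext_range (a := 35088) (len := 86) h408 m2_408
  have h410 : ∀ u < 35260, (fun u => chkFix tab mwords u) u = true := ext_range (a := 35174) (len := 86) h409 m2_409
  have h411 : ∀ u < 35346, (fun u => chkFix tab mwords u) u = true := ext_range (a := 35260) (len := 86) h410 m2_410
  have h412 : ∀ u < 35432, (fun u => chkFix tab mwords u) u = true := ext_range (a := 35346) (len := 86) h411 m2_411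
  have h413 : ∀ u < 35518, (fun u => chkFix tab mwords u) u = true := ext_range (a := 35432) (len := 86) h412 m2_412
  have h414 : ∀ u < 35604, (fun u => chkFix tab mwords u) u = true := ext_range (a := 35518) (len := 86) h413 m2_413
  have h415 : ∀ u < 35690, (fun u => chkFix tab mwords u) u = true := ext_range (a := 35604) (len := 86) h414 m2_414
  have h416 : ∀ u < 35776, (fun u => chkFix tab mwords u) u = true := ext_range (a := 35690) (len := 86) h415 m2_415
  have h417 : ∀ u < 35862, (fun u => chkFix tab mwords u) u = true := ext_range (a := 35776) (len := 86) h416 m2_416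
  have h418 : ∀ u < 35948, (fun u => chkFix tab mwords u) u = true := ext_range (a := 35862) (len := 86) h417 m2_417
  have h419 : ∀ u < 36034, (fun u => chkFix tab mwords u) u = true := ext_range (a := 35948) (len := 86) h418 m2_418
  have h420 : ∀ u < 36120, (fun u => chkFix tab mwords u) u = true := ext_range (a := 36034) (len := 86) h419 m2_419
  have h421 : ∀ u < 36206, (fun u => chkFix tab mwords u) u = true := ext_range (a := 36120) (len := 86) h420 m2_420
  have h422 : ∀ u < 36292, (fun u => chkFix tab mwords u) u = true := ext_range (a := 36206) (len := 86) h421 m2_421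
  have h423 : ∀ u < 36378, (fun u => chkFix tab mwords u) u = true := ext_range (a := 36292) (len := 86) h422 m2_422
  have h424 : ∀ u < 36464, (fun u => chkFix tab mwords u) u = true := ext_range (a := 36378) (len := 86) h423 m2_423
  have h425 : ∀ u < 36550, (fun u => chkFix tab mwords u) u = true := ext_range (a := 36464) (len := 86) h424 m2_424
  have h426 : ∀ u < 36636, (fun u => chkFix tab mwords u) u = true := ext_range (a := 36550) (len := 86) h425 m2_425
  have h427 : ∀ u < 36722, (fun u => chkFix tab mwords u) u = true := ext_range (a := 36636) (len := 86) h426 m2_426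
  have h428 : ∀ u < 36808, (fun u => chkFix tab mwords u) u = true := ext_range (a := 36722) (len := 86) h427 m2_427
  have h429 : ∀ u < 36894, (fun u => chkFix tab mwords u) u = true := ext_range (a := 36808) (len := 86) h428 m2_428
  have h430 : ∀ u < 36980, (fun u => chkFix tab mwords u) u = true := ext_range (a := 36894) (len := 86) h429 m2_429
  have h431 : ∀ u < 37066, (fun u => chkFix tab mwords u) u = true := ext_range (a := 36980) (len := 86) h430 m2_430
  have h432 : ∀ u < 37152, (fun u => chkFix tab mwords u) u = true := ext_range (a := 37066) (len := 86) h431 m2_431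
  have h433 : ∀ u < 37238, (fun u => chkFix tab mwords u) u = true := ext_range (a := 37152) (len := 86) h432 m2_432
  have h434 : ∀ u < 37324, (fun u => chkFix tab mwords u) u = true := ext_range (a := 37238) (len := 86) h433 m2_433
  have h435 : ∀ u < 37410, (fun u => chkFix tab mwords u) u = true := ext_range (a := 37324) (len := 86) h434 m2_434
  have h436 : ∀ u < 37496, (fun u => chkFix tab mwords u) u = true := ext_range (a := 37410) (len := 86) h435 m2_435
  have h437 : ∀ u < 37582, (fun u => chkFix tab mwords u) u = true := ext_range (a := 37496) (len := 86) h436 m2_436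
  have h438 : ∀ u < 37668, (fun u => chkFix tab mwords u) u = true := ext_range (a := 37582) (len := 86) h437 m2_437
  have h439 : ∀ u < 37754, (fun u => chkFix tab mwords u) u = true := ext_range (a := 37668) (len := 86) h438 m2_438
  have h440 : ∀ u < 37840, (fun u => chkFix tab mwords u) u = true := ext_range (a := 37754) (len := 86) h439 m2_439
  have h441 : ∀ u < 37926, (fun u => chkFix tab mwords u) u = true := ext_range (a := 37840) (len := 86) h440 m2_440
  have h442 : ∀ u < 38012, (fun u => chkFix tab mwords u) u = true := ext_range (a := 37926) (len := 86) h441 m2_441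
  have h443 : ∀ u < 38098, (fun u => chkFix tab mwords u) u = true := ext_range (a := 38012) (len := 86) h442 m2_442
  have h444 : ∀ u < 38184, (fun u => chkFix tab mwords u) u = true := ext_range (a := 38098) (len := 86) h443 m2_443
  have h445 : ∀ u < 38270, (fun u => chkFix tab mwords u) u = true := ext_range (a := 38184) (len := 86) h444 m2_444
  have h446 : ∀ u < 38356, (fun u => chkFix tab mwords u) u = true := ext_range (a := 38270) (len := 86) h445 m2_445
  have h447 : ∀ u < 38442, (fun u => chkFix tab mwords u) u = true := ext_range (a := 38356) (len := 86) h446 m2_446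
  have h448 : ∀ u < 38528, (fun u => chkFix tab mwords u) u = true := ext_range (a := 38442) (len := 86) h447 m2_447
  have h449 : ∀ u < 38614, (fun u => chkFix tab mwords u) u = true := ext_range (a := 38528) (len := 86) h448 m2_448
  have h450 : ∀ u < 38700, (fun u => chkFix tab mwords u) u = true := ext_range (a := 38614) (len := 86) h449 m2_449
  have h451 : ∀ u < 38786, (fun u => chkFix tab mwords u) u = true := ext_range (a := 38700) (len := 86) h450 m2_450
  have h452 : ∀ u < 38872, (fun u => chkFix tab mwords u) u = true := ext_range (a := 38786) (len := 86) h451 m2_451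
  have h453 : ∀ u < 38958, (fun u => chkFix tab mwords u) u = true := ext_range (a := 38872) (len := 86) h452 m2_452
  have h454 : ∀ u < 39044, (fun u => chkFix tab mwords u) u = true := ext_range (a := 38958) (len := 86) h453 m2_453
  have h455 : ∀ u < 39130, (fun u => chkFix tab mwords u) u = true := ext_range (a := 39044) (len := 86) h454 m2_454
  have h456 : ∀ u < 39216, (fun u => chkFix tab mwords u) u = true := ext_range (a := 39130) (len := 86) h455 m2_455
  have h457 : ∀ u < 39302, (fun u => chkFix tab mwords u) u = true := ext_range (a := 39216) (len := 86) h456 m2_456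
  have h458 : ∀ u < 39388, (fun u => chkFix tab mwords u) u = true := ext_range (a := 39302) (len := 86) h457 m2_457
  have h459 : ∀ u < 39474, (fun u => chkFix tab mwords u) u = true := ext_range (a := 39388) (len := 86) h458 m2_458
  have h460 : ∀ u < 39560, (fun u => chkFix tab mwords u) u = true := ext_range (a := 39474) (len := 86) h459 m2_459
  have h461 : ∀ u < 39646, (fun u => chkFix tab mwords u) u = true := ext_range (a := 39560) (len := 86) h460 m2_460
  have h462 : ∀ u < 39732, (fun u => chkFix tab mwords u) u = true := ext_range (a := 39646) (len := 86) h461 m2_461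
  have h463 : ∀ u < 39818, (fun u => chkFix tab mwords u) u = true := ext_range (a := 39732) (len := 86) h462 m2_462
  have h464 : ∀ u < 39904, (fun u => chkFix tab mwords u) u = true := ext_range (a := 39818) (len := 86) h463 m2_463
  have h465 : ∀ u < 39990, (fun u => chkFix tab mwords u) u = true := ext_range (a := 39904) (len := 86) h464 m2_464
  have h466 : ∀ u < 40076, (fun u => chkFix tab mwords u) u = true := ext_range (a := 39990) (len := 86) h465 m2_465
  have h467 : ∀ u < 40162, (fun u => chkFix tab mwords u) u = true := ext_range (a := 40076) (len := 86) h466 m2_466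
  have h468 : ∀ u < 40248, (fun u => chkFix tab mwords u) u = true := ext_range (a := 40162) (len := 86) h467 m2_467
  have h469 : ∀ u < 40334, (fun u => chkFix tab mwords u) u = true := ext_range (a := 40248) (len := 86) h468 m2_468
  have h470 : ∀ u < 40420, (fun u => chkFix tab mwords u) u = true := ext_range (a := 40334) (len := 86) h469 m2_469
  have h471 : ∀ u < 40506, (fun u => chkFix tab mwords u) u = true := ext_range (a := 40420) (len := 86) h470 m2_470
  have h472 : ∀ u < 40592, (fun u => chkFix tab mwords u) u = true := ext_range (a := 40506) (len := 86) h471 m2_471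
  have h473 : ∀ u < 40678, (fun u => chkFix tab mwords u) u = true := ext_range (a := 40592) (len := 86) h472 m2_472
  have h474 : ∀ u < 40764, (fun u => chkFix tab mwords u) u = true := ext_range (a := 40678) (len := 86) h473 m2_473
  have h475 : ∀ u < 40850, (fun u => chkFix tab mwords u) u = true := ext_range (a := 40764) (len := 86) h474 m2_474
  have h476 : ∀ u < 40936, (fun u => chkFix tab mwords u) u = true := ext_range (a := 40850) (len := 86) h475 m2_475
  have h477 : ∀ u < 41022, (fun u => chkFix tab mwords u) u = true := ext_range (a := 40936) (len := 86) h476 m2_476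
  have h478 : ∀ u < 41108, (fun u => chkFix tab mwords u) u = true := ext_range (a := 41022) (len := 86) h477 m2_477
  have h479 : ∀ u < 41194, (fun u => chkFix tab mwords u) u = true := ext_range (a := 41108) (len := 86) h478 m2_478
  have h480 : ∀ u < 41280, (fun u => chkFix tab mwords u) u = true := ext_range (a := 41194) (len := 86) h479 m2_479
  have h481 : ∀ u < 41366, (fun u => chkFix tab mwords u) u = true := ext_range (a := 41280) (len := 86) h480 m2_480
  have h482 : ∀ u < 41452, (fun u => chkFix tab mwords u) u = true := ext_range (a := 41366) (len := 86) h481 m2_481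
  have h483 : ∀ u < 41538, (fun u => chkFix tab mwords u) u = true := ext_range (a := 41452) (len := 86) h482 m2_482
  have h484 : ∀ u < 41624, (fun u => chkFix tab mwords u) u = true := ext_range (a := 41538) (len := 86) h483 m2_483
  have h485 : ∀ u < 41710, (fun u => chkFix tab mwords u) u = true := ext_range (a := 41624) (len := 86) h484 m2_484
  have h486 : ∀ u < 41796, (fun u => chkFix tab mwords u) u = true := ext_range (a := 41710) (len := 86) h485 m2_485
  have h487 : ∀ u < 41882, (fun u => chkFix tab mwords u) u = true := ext_range (a := 41796) (len := 86) h486 m2_486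
  have h488 : ∀ u < 41968, (fun u => chkFix tab mwords u) u = true := ext_range (a := 41882) (len := 86) h487 m2_487
  have h489 : ∀ u < 42054, (fun u => chkFix tab mwords u) u = true := ext_range (a := 41968) (len := 86) h488 m2_488
  have h490 : ∀ u < 42140, (fun u => chkFix tab mwords u) u = true := ext_range (a := 42054) (len := 86) h489 m2_489
  have h491 : ∀ u < 42226, (fun u => chkFix tab mwords u) u = true := ext_range (a := 42140) (len := 86) h490 m2_490
  have h492 : ∀ u < 42312, (fun u => chkFix tab mwords u) u = true := ext_range (a := 42226) (len := 86) h491 m2_491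
  have h493 : ∀ u < 42398, (fun u => chkFix tab mwords u) u = true := ext_range (a := 42312) (len := 86) h492 m2_492
  have h494 : ∀ u < 42484, (fun u => chkFix tab mwords u) u = true := ext_range (a := 42398) (len := 86) h493 m2_493
  have h495 : ∀ u < 42570, (fun u => chkFix tab mwords u) u = true := ext_range (a := 42484) (len := 86) h494 m2_494
  have h496 : ∀ u < 42656, (fun u => chkFix tab mwords u) u = true := ext_range (a := 42570) (len := 86) h495 m2_495
  have h497 : ∀ u < 42742, (fun u => chkFix tab mwords u) u = true := ext_range (a := 42656) (len := 86) h496 m2_496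
  have h498 : ∀ u < 42828, (fun u => chkFix tab mwords u) u = true := ext_range (a := 42742) (len := 86) h497 m2_497
  have h499 : ∀ u < 42914, (fun u => chkFix tab mwords u) u = true := ext_range (a := 42828) (len := 86) h498 m2_498
  have h500 : ∀ u < 43000, (fun u => chkFix tab mwords u) u = true := ext_range (a := 42914) (len := 86) h499 m2_499
  have h501 : ∀ u < 43086, (fun u => chkFix tab mwords u) u = true := ext_range (a := 43000) (len := 86) h500 m2_500
  have h502 : ∀ u < 43172, (fun u => chkFix tab mwords u) u = true := ext_range (a := 43086) (len := 86) h501 m2_501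
  have h503 : ∀ u < 43258, (fun u => chkFix tab mwords u) u = true := ext_range (a := 43172) (len := 86) h502 m2_502
  have h504 : ∀ u < 43344, (fun u => chkFix tab mwords u) u = true := ext_range (a := 43258) (len := 86) h503 m2_503
  have h505 : ∀ u < 43430, (fun u => chkFix tab mwords u) u = true := ext_range (a := 43344) (len := 86) h504 m2_504
  have h506 : ∀ u < 43516, (fun u => chkFix tab mwords u) u = true := ext_range (a := 43430) (len := 86) h505 m2_505
  have h507 : ∀ u < 43602, (fun u => chkFix tab mwords u) u = true := ext_range (a := 43516) (len := 86) h506 m2_506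
  have h508 : ∀ u < 43688, (fun u => chkFix tab mwords u) u = true := ext_range (a := 43602) (len := 86) h507 m2_507
  have h509 : ∀ u < 43774, (fun u => chkFix tab mwords u) u = true := ext_range (a := 43688) (len := 86) h508 m2_508
  have h510 : ∀ u < 43860, (fun u => chkFix tab mwords u) u = true := ext_range (a := 43774) (len := 86) h509 m2_509
  have h511 : ∀ u < 43946, (fun u => chkFix tab mwords u) u = true := ext_range (a := 43860) (len := 86) h510 m2_510
  have h512 : ∀ u < 44032, (fun u => chkFix tab mwords u) u = true := ext_range (a := 43946) (len := 86) h511 m2_511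
  have h513 : ∀ u < 44118, (fun u => chkFix tab mwords u) u = true := ext_range (a := 44032) (len := 86) h512 m2_512
  have h514 : ∀ u < 44204, (fun u => chkFix tab mwords u) u = true := ext_range (a := 44118) (len := 86) h513 m2_513
  have h515 : ∀ u < 44290, (fun u => chkFix tab mwords u) u = true := ext_range (a := 44204) (len := 86) h514 m2_514
  have h516 : ∀ u < 44376, (fun u => chkFix tab mwords u) u = true := ext_range (a := 44290) (len := 86) h515 m2_515
  have h517 : ∀ u < 44462, (fun u => chkFix tab mwords u) u = true := ext_range (a := 44376) (len := 86) h516 m2_516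
  have h518 : ∀ u < 44548, (fun u => chkFix tab mwords u) u = true := ext_range (a := 44462) (len := 86) h517 m2_517
  have h519 : ∀ u < 44634, (fun u => chkFix tab mwords u) u = true := ext_range (a := 44548) (len := 86) h518 m2_518
  have h520 : ∀ u < 44720, (fun u => chkFix tab mwords u) u = true := ext_range (a := 44634) (len := 86) h519 m2_519
  have h521 : ∀ u < 44806, (fun u => chkFix tab mwords u) u = true := ext_range (a := 44720) (len := 86) h520 m2_520
  have h522 : ∀ u < 44892, (fun u => chkFix tab mwords u) u = true := ext_range (a := 44806) (len := 86) h521 m2_521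
  have h523 : ∀ u < 44978, (fun u => chkFix tab mwords u) u = true := ext_range (a := 44892) (len := 86) h522 m2_522
  have h524 : ∀ u < 45064, (fun u => chkFix tab mwords u) u = true := ext_range (a := 44978) (len := 86) h523 m2_523
  have h525 : ∀ u < 45150, (fun u => chkFix tab mwords u) u = true := ext_range (a := 45064) (len := 86) h524 m2_524
  have h526 : ∀ u < 45236, (fun u => chkFix tab mwords u) u = true := ext_range (a := 45150) (len := 86) h525 m2_525
  have h527 : ∀ u < 45322, (fun u => chkFix tab mwords u) u = true := ext_range (a := 45236) (len := 86) h526 m2_526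
  have h528 : ∀ u < 45408, (fun u => chkFix tab mwords u) u = true := ext_range (a := 45322) (len := 86) h527 m2_527
  have h529 : ∀ u < 45494, (fun u => chkFix tab mwords u) u = true := ext_range (a := 45408) (len := 86) h528 m2_528
  have h530 : ∀ u < 45580, (fun u => chkFix tab mwords u) u = true := ext_range (a := 45494) (len := 86) h529 m2_529
  have h531 : ∀ u < 45666, (fun u => chkFix tab mwords u) u = true := ext_range (a := 45580) (len := 86) h530 m2_530
  have h532 : ∀ u < 45752, (fun u => chkFix tab mwords u) u = true := ext_range (a := 45666) (len := 86) h531 m2_531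
  have h533 : ∀ u < 45838, (fun u => chkFix tab mwords u) u = true := ext_range (a := 45752) (len := 86) h532 m2_532
  have h534 : ∀ u < 45924, (fun u => chkFix tab mwords u) u = true := ext_range (a := 45838) (len := 86) h533 m2_533
  have h535 : ∀ u < 46010, (fun u => chkFix tab mwords u) u = true := ext_range (a := 45924) (len := 86) h534 m2_534
  have h536 : ∀ u < 46096, (fun u => chkFix tab mwords u) u = true := ext_range (a := 46010) (len := 86) h535 m2_535
  have h537 : ∀ u < 46182, (fun u => chkFix tab mwords u) u = true := ext_range (a := 46096) (len := 86) h536 m2_536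
  have h538 : ∀ u < 46268, (fun u => chkFix tab mwords u) u = true := ext_range (a := 46182) (len := 86) h537 m2_537
  have h539 : ∀ u < 46354, (fun u => chkFix tab mwords u) u = true := ext_range (a := 46268) (len := 86) h538 m2_538
  have h540 : ∀ u < 46440, (fun u => chkFix tab mwords u) u = true := ext_range (a := 46354) (len := 86) h539 m2_539
  have h541 : ∀ u < 46526, (fun u => chkFix tab mwords u) u = true := ext_range (a := 46440) (len := 86) h540 m2_540
  have h542 : ∀ u < 46612, (fun u => chkFix tab mwords u) u = true := ext_range (a := 46526) (len := 86) h541 m2_541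
  have h543 : ∀ u < 46698, (fun u => chkFix tab mwords u) u = true := ext_range (a := 46612) (len := 86) h542 m2_542
  have h544 : ∀ u < 46784, (fun u => chkFix tab mwords u) u = true := ext_range (a := 46698) (len := 86) h543 m2_543
  have h545 : ∀ u < 46870, (fun u => chkFix tab mwords u) u = true := ext_range (a := 46784) (len := 86) h544 m2_544
  have h546 : ∀ u < 46956, (fun u => chkFix tab mwords u) u = true := ext_range (a := 46870) (len := 86) h545 m2_545
  have h547 : ∀ u < 47042, (fun u => chkFix tab mwords u) u = true := ext_range (a := 46956) (len := 86) h546 m2_546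
  have h548 : ∀ u < 47128, (fun u => chkFix tab mwords u) u = true := ext_range (a := 47042) (len := 86) h547 m2_547
  have h549 : ∀ u < 47214, (fun u => chkFix tab mwords u) u = true := ext_range (a := 47128) (len := 86) h548 m2_548
  have h550 : ∀ u < 47300, (fun u => chkFix tab mwords u) u = true := ext_range (a := 47214) (len := 86) h549 m2_549
  have h551 : ∀ u < 47386, (fun u => chkFix tab mwords u) u = true := ext_range (a := 47300) (len := 86) h550 m2_550
  have h552 : ∀ u < 47472, (fun u => chkFix tab mwords u) u = true := ext_range (a := 47386) (len := 86) h551 m2_551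
  have h553 : ∀ u < 47558, (fun u => chkFix tab mwords u) u = true := ext_range (a := 47472) (len := 86) h552 m2_552
  have h554 : ∀ u < 47644, (fun u => chkFix tab mwords u) u = true := ext_range (a := 47558) (len := 86) h553 m2_553
  have h555 : ∀ u < 47730, (fun u => chkFix tab mwords u) u = true := ext_range (a := 47644) (len := 86) h554 m2_554
  have h556 : ∀ u < 47816, (fun u => chkFix tab mwords u) u = true := ext_range (a := 47730) (len := 86) h555 m2_555
  have h557 : ∀ u < 47902, (fun u => chkFix tab mwords u) u = true := ext_range (a := 47816) (len := 86) h556 m2_556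
  have h558 : ∀ u < 47988, (fun u => chkFix tab mwords u) u = true := ext_range (a := 47902) (len := 86) h557 m2_557
  have h559 : ∀ u < 48074, (fun u => chkFix tab mwords u) u = true := ext_range (a := 47988) (len := 86) h558 m2_558
  have h560 : ∀ u < 48160, (fun u => chkFix tab mwords u) u = true := ext_range (a := 48074) (len := 86) h559 m2_559
  have h561 : ∀ u < 48246, (fun u => chkFix tab mwords u) u = true := ext_range (a := 48160) (len := 86) h560 m2_560
  have h562 : ∀ u < 48332, (fun u => chkFix tab mwords u) u = true := ext_range (a := 48246) (len := 86) h561 m2_561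
  have h563 : ∀ u < 48418, (fun u => chkFix tab mwords u) u = true := ext_range (a := 48332) (len := 86) h562 m2_562
  have h564 : ∀ u < 48504, (fun u => chkFix tab mwords u) u = true := ext_range (a := 48418) (len := 86) h563 m2_563
  have h565 : ∀ u < 48590, (fun u => chkFix tab mwords u) u = true := ext_range (a := 48504) (len := 86) h564 m2_564
  have h566 : ∀ u < 48676, (fun u => chkFix tab mwords u) u = true := ext_range (a := 48590) (len := 86) h565 m2_565
  have h567 : ∀ u < 48762, (fun u => chkFix tab mwords u) u = true := ext_range (a := 48676) (len := 86) h566 m2_566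
  have h568 : ∀ u < 48848, (fun u => chkFix tab mwords u) u = true := ext_range (a := 48762) (len := 86) h567 m2_567
  have h569 : ∀ u < 48934, (fun u => chkFix tab mwords u) u = true := ext_range (a := 48848) (len := 86) h568 m2_568
  have h570 : ∀ u < 49020, (fun u => chkFix tab mwords u) u = true := ext_range (a := 48934) (len := 86) h569 m2_569
  have h571 : ∀ u < 49106, (fun u => chkFix tab mwords u) u = true := ext_range (a := 49020) (len := 86) h570 m2_570
  have h572 : ∀ u < 49192, (fun u => chkFix tab mwords u) u = true := ext_range (a := 49106) (len := 86) h571 m2_571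
  have h573 : ∀ u < 49278, (fun u => chkFix tab mwords u) u = true := ext_range (a := 49192) (len := 86) h572 m2_572
  have h574 : ∀ u < 49364, (fun u => chkFix tab mwords u) u = true := ext_range (a := 49278) (len := 86) h573 m2_573
  have h575 : ∀ u < 49450, (fun u => chkFix tab mwords u) u = true := ext_range (a := 49364) (len := 86) h574 m2_574
  have h576 : ∀ u < 49536, (fun u => chkFix tab mwords u) u = true := ext_range (a := 49450) (len := 86) h575 m2_575
  have h577 : ∀ u < 49622, (fun u => chkFix tab mwords u) u = true := ext_range (a := 49536) (len := 86) h576 m2_576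
  have h578 : ∀ u < 49708, (fun u => chkFix tab mwords u) u = true := ext_range (a := 49622) (len := 86) h577 m2_577
  have h579 : ∀ u < 49794, (fun u => chkFix tab mwords u) u = true := ext_range (a := 49708) (len := 86) h578 m2_578
  have h580 : ∀ u < 49880, (fun u => chkFix tab mwords u) u = true := ext_range (a := 49794) (len := 86) h579 m2_579
  have h581 : ∀ u < 49966, (fun u => chkFix tab mwords u) u = true := ext_range (a := 49880) (len := 86) h580 m2_580
  have h582 : ∀ u < 50052, (fun u => chkFix tab mwords u) u = true := ext_range (a := 49966) (len := 86) h581 m2_581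
  have h583 : ∀ u < 50138, (fun u => chkFix tab mwords u) u = true := ext_range (a := 50052) (len := 86) h582 m2_582
  have h584 : ∀ u < 50224, (fun u => chkFix tab mwords u) u = true := ext_range (a := 50138) (len := 86) h583 m2_583
  have h585 : ∀ u < 50310, (fun u => chkFix tab mwords u) u = true := ext_range (a := 50224) (len := 86) h584 m2_584
  have h586 : ∀ u < 50396, (fun u => chkFix tab mwords u) u = true := ext_range (a := 50310) (len := 86) h585 m2_585
  have h587 : ∀ u < 50482, (fun u => chkFix tab mwords u) u = true := ext_range (a := 50396) (len := 86) h586 m2_586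
  have h588 : ∀ u < 50568, (fun u => chkFix tab mwords u) u = true := ext_range (a := 50482) (len := 86) h587 m2_587
  have h589 : ∀ u < 50654, (fun u => chkFix tab mwords u) u = true := ext_range (a := 50568) (len := 86) h588 m2_588
  have h590 : ∀ u < 50740, (fun u => chkFix tab mwords u) u = true := ext_range (a := 50654) (len := 86) h589 m2_589
  have h591 : ∀ u < 50826, (fun u => chkFix tab mwords u) u = true := ext_range (a := 50740) (len := 86) h590 m2_590
  have h592 : ∀ u < 50912, (fun u => chkFix tab mwords u) u = true := ext_range (a := 50826) (len := 86) h591 m2_591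
  have h593 : ∀ u < 50998, (fun u => chkFix tab mwords u) u = true := ext_range (a := 50912) (len := 86) h592 m2_592
  have h594 : ∀ u < 51084, (fun u => chkFix tab mwords u) u = true := ext_range (a := 50998) (len := 86) h593 m2_593
  have h595 : ∀ u < 51170, (fun u => chkFix tab mwords u) u = true := ext_range (a := 51084) (len := 86) h594 m2_594
  have h596 : ∀ u < 51256, (fun u => chkFix tab mwords u) u = true := ext_range (a := 51170) (len := 86) h595 m2_595
  have h597 : ∀ u < 51342, (fun u => chkFix tab mwords u) u = true := ext_range (a := 51256) (len := 86) h596 m2_596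
  have h598 : ∀ u < 51428, (fun u => chkFix tab mwords u) u = true := ext_range (a := 51342) (len := 86) h597 m2_597
  have h599 : ∀ u < 51514, (fun u => chkFix tab mwords u) u = true := ext_range (a := 51428) (len := 86) h598 m2_598
  have h600 : ∀ u < 51600, (fun u => chkFix tab mwords u) u = true := ext_range (a := 51514) (len := 86) h599 m2_599
  have h601 : ∀ u < 51686, (fun u => chkFix tab mwords u) u = true := ext_range (a := 51600) (len := 86) h600 m2_600
  have h602 : ∀ u < 51772, (fun u => chkFix tab mwords u) u = true := ext_range (a := 51686) (len := 86) h601 m2_601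
  have h603 : ∀ u < 51858, (fun u => chkFix tab mwords u) u = true := ext_range (a := 51772) (len := 86) h602 m2_602
  have h604 : ∀ u < 51944, (fun u => chkFix tab mwords u) u = true := ext_range (a := 51858) (len := 86) h603 m2_603
  have h605 : ∀ u < 52030, (fun u => chkFix tab mwords u) u = true := ext_range (a := 51944) (len := 86) h604 m2_604
  have h606 : ∀ u < 52116, (fun u => chkFix tab mwords u) u = true := ext_range (a := 52030) (len := 86) h605 m2_605
  have h607 : ∀ u < 52202, (fun u => chkFix tab mwords u) u = true := ext_range (a := 52116) (len := 86) h606 m2_606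
  have h608 : ∀ u < 52288, (fun u => chkFix tab mwords u) u = true := ext_range (a := 52202) (len := 86) h607 m2_607
  have h609 : ∀ u < 52374, (fun u => chkFix tab mwords u) u = true := ext_range (a := 52288) (len := 86) h608 m2_608
  have h610 : ∀ u < 52460, (fun u => chkFix tab mwords u) u = true := ext_range (a := 52374) (len := 86) h609 m2_609
  have h611 : ∀ u < 52546, (fun u => chkFix tab mwords u) u = true := ext_range (a := 52460) (len := 86) h610 m2_610
  have h612 : ∀ u < 52632, (fun u => chkFix tab mwords u) u = true := ext_range (a := 52546) (len := 86) h611 m2_611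
  have h613 : ∀ u < 52718, (fun u => chkFix tab mwords u) u = true := ext_range (a := 52632) (len := 86) h612 m2_612
  have h614 : ∀ u < 52804, (fun u => chkFix tab mwords u) u = true := ext_range (a := 52718) (len := 86) h613 m2_613
  have h615 : ∀ u < 52890, (fun u => chkFix tab mwords u) u = true := ext_range (a := 52804) (len := 86) h614 m2_614
  have h616 : ∀ u < 52976, (fun u => chkFix tab mwords u) u = true := ext_range (a := 52890) (len := 86) h615 m2_615
  have h617 : ∀ u < 53062, (fun u => chkFix tab mwords u) u = true := ext_range (a := 52976) (len := 86) h616 m2_616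
  have h618 : ∀ u < 53148, (fun u => chkFix tab mwords u) u = true := ext_range (a := 53062) (len := 86) h617 m2_617
  have h619 : ∀ u < 53234, (fun u => chkFix tab mwords u) u = true := ext_range (a := 53148) (len := 86) h618 m2_618
  have h620 : ∀ u < 53320, (fun u => chkFix tab mwords u) u = true := ext_range (a := 53234) (len := 86) h619 m2_619
  have h621 : ∀ u < 53406, (fun u => chkFix tab mwords u) u = true := ext_range (a := 53320) (len := 86) h620 m2_620
  have h622 : ∀ u < 53492, (fun u => chkFix tab mwords u) u = true := ext_range (a := 53406) (len := 86) h621 m2_621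
  have h623 : ∀ u < 53578, (fun u => chkFix tab mwords u) u = true := ext_range (a := 53492) (len := 86) h622 m2_622
  have h624 : ∀ u < 53664, (fun u => chkFix tab mwords u) u = true := ext_range (a := 53578) (len := 86) h623 m2_623
  have h625 : ∀ u < 53750, (fun u => chkFix tab mwords u) u = true := ext_range (a := 53664) (len := 86) h624 m2_624
  have h626 : ∀ u < 53836, (fun u => chkFix tab mwords u) u = true := ext_range (a := 53750) (len := 86) h625 m2_625
  have h627 : ∀ u < 53922, (fun u => chkFix tab mwords u) u = true := ext_range (a := 53836) (len := 86) h626 m2_626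
  have h628 : ∀ u < 54008, (fun u => chkFix tab mwords u) u = true := ext_range (a := 53922) (len := 86) h627 m2_627
  have h629 : ∀ u < 54094, (fun u => chkFix tab mwords u) u = true := ext_range (a := 54008) (len := 86) h628 m2_628
  have h630 : ∀ u < 54180, (fun u => chkFix tab mwords u) u = true := ext_range (a := 54094) (len := 86) h629 m2_629
  have h631 : ∀ u < 54266, (fun u => chkFix tab mwords u) u = true := ext_range (a := 54180) (len := 86) h630 m2_630
  have h632 : ∀ u < 54352, (fun u => chkFix tab mwords u) u = true := ext_range (a := 54266) (len := 86) h631 m2_631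
  have h633 : ∀ u < 54438, (fun u => chkFix tab mwords u) u = true := ext_range (a := 54352) (len := 86) h632 m2_632
  have h634 : ∀ u < 54524, (fun u => chkFix tab mwords u) u = true := ext_range (a := 54438) (len := 86) h633 m2_633
  have h635 : ∀ u < 54610, (fun u => chkFix tab mwords u) u = true := ext_range (a := 54524) (len := 86) h634 m2_634
  have h636 : ∀ u < 54696, (fun u => chkFix tab mwords u) u = true := ext_range (a := 54610) (len := 86) h635 m2_635
  have h637 : ∀ u < 54782, (fun u => chkFix tab mwords u) u = true := ext_range (a := 54696) (len := 86) h636 m2_636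
  have h638 : ∀ u < 54868, (fun u => chkFix tab mwords u) u = true := ext_range (a := 54782) (len := 86) h637 m2_637
  have h639 : ∀ u < 54954, (fun u => chkFix tab mwords u) u = true := ext_range (a := 54868) (len := 86) h638 m2_638
  have h640 : ∀ u < 55040, (fun u => chkFix tab mwords u) u = true := ext_range (a := 54954) (len := 86) h639 m2_639
  have h641 : ∀ u < 55126, (fun u => chkFix tab mwords u) u = true := ext_range (a := 55040) (len := 86) h640 m2_640
  have h642 : ∀ u < 55212, (fun u => chkFix tab mwords u) u = true := ext_range (a := 55126) (len := 86) h641 m2_641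
  have h643 : ∀ u < 55298, (fun u => chkFix tab mwords u) u = true := ext_range (a := 55212) (len := 86) h642 m2_642
  have h644 : ∀ u < 55384, (fun u => chkFix tab mwords u) u = true := ext_range (a := 55298) (len := 86) h643 m2_643
  have h645 : ∀ u < 55470, (fun u => chkFix tab mwords u) u = true := ext_range (a := 55384) (len := 86) h644 m2_644
  have h646 : ∀ u < 55556, (fun u => chkFix tab mwords u) u = true := ext_range (a := 55470) (len := 86) h645 m2_645
  have h647 : ∀ u < 55642, (fun u => chkFix tab mwords u) u = true := ext_range (a := 55556) (len := 86) h646 m2_646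
  have h648 : ∀ u < 55728, (fun u => chkFix tab mwords u) u = true := ext_range (a := 55642) (len := 86) h647 m2_647
  have h649 : ∀ u < 55814, (fun u => chkFix tab mwords u) u = true := ext_range (a := 55728) (len := 86) h648 m2_648
  have h650 : ∀ u < 55900, (fun u => chkFix tab mwords u) u = true := ext_range (a := 55814) (len := 86) h649 m2_649
  have h651 : ∀ u < 55986, (fun u => chkFix tab mwords u) u = true := ext_range (a := 55900) (len := 86) h650 m2_650
  have h652 : ∀ u < 56072, (fun u => chkFix tab mwords u) u = true := ext_range (a := 55986) (len := 86) h651 m2_651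
  have h653 : ∀ u < 56158, (fun u => chkFix tab mwords u) u = true := ext_range (a := 56072) (len := 86) h652 m2_652
  have h654 : ∀ u < 56244, (fun u => chkFix tab mwords u) u = true := ext_range (a := 56158) (len := 86) h653 m2_653
  have h655 : ∀ u < 56330, (fun u => chkFix tab mwords u) u = true := ext_range (a := 56244) (len := 86) h654 m2_654
  have h656 : ∀ u < 56416, (fun u => chkFix tab mwords u) u = true := ext_range (a := 56330) (len := 86) h655 m2_655
  have h657 : ∀ u < 56502, (fun u => chkFix tab mwords u) u = true := ext_range (a := 56416) (len := 86) h656 m2_656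
  have h658 : ∀ u < 56588, (fun u => chkFix tab mwords u) u = true := ext_range (a := 56502) (len := 86) h657 m2_657
  have h659 : ∀ u < 56674, (fun u => chkFix tab mwords u) u = true := ext_range (a := 56588) (len := 86) h658 m2_658
  have h660 : ∀ u < 56760, (fun u => chkFix tab mwords u) u = true := ext_range (a := 56674) (len := 86) h659 m2_659
  have h661 : ∀ u < 56846, (fun u => chkFix tab mwords u) u = true := ext_range (a := 56760) (len := 86) h660 m2_660
  have h662 : ∀ u < 56932, (fun u => chkFix tab mwords u) u = true := ext_range (a := 56846) (len := 86) h661 m2_661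
  have h663 : ∀ u < 57018, (fun u => chkFix tab mwords u) u = true := ext_range (a := 56932) (len := 86) h662 m2_662
  have h664 : ∀ u < 57104, (fun u => chkFix tab mwords u) u = true := ext_range (a := 57018) (len := 86) h663 m2_663
  have h665 : ∀ u < 57190, (fun u => chkFix tab mwords u) u = true := ext_range (a := 57104) (len := 86) h664 m2_664
  have h666 : ∀ u < 57276, (fun u => chkFix tab mwords u) u = true := ext_range (a := 57190) (len := 86) h665 m2_665
  have h667 : ∀ u < 57362, (fun u => chkFix tab mwords u) u = true := ext_range (a := 57276) (len := 86) h666 m2_666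
  have h668 : ∀ u < 57448, (fun u => chkFix tab mwords u) u = true := ext_range (a := 57362) (len := 86) h667 m2_667
  have h669 : ∀ u < 57534, (fun u => chkFix tab mwords u) u = true := ext_range (a := 57448) (len := 86) h668 m2_668
  have h670 : ∀ u < 57620, (fun u => chkFix tab mwords u) u = true := ext_range (a := 57534) (len := 86) h669 m2_669
  have h671 : ∀ u < 57706, (fun u => chkFix tab mwords u) u = true := ext_range (a := 57620) (len := 86) h670 m2_670
  have h672 : ∀ u < 57792, (fun u => chkFix tab mwords u) u = true := ext_range (a := 57706) (len := 86) h671 m2_671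
  have h673 : ∀ u < 57878, (fun u => chkFix tab mwords u) u = true := ext_range (a := 57792) (len := 86) h672 m2_672
  have h674 : ∀ u < 57964, (fun u => chkFix tab mwords u) u = true := ext_range (a := 57878) (len := 86) h673 m2_673
  have h675 : ∀ u < 58050, (fun u => chkFix tab mwords u) u = true := ext_range (a := 57964) (len := 86) h674 m2_674
  have h676 : ∀ u < 58136, (fun u => chkFix tab mwords u) u = true := ext_range (a := 58050) (len := 86) h675 m2_675
  have h677 : ∀ u < 58222, (fun u => chkFix tab mwords u) u = true := ext_range (a := 58136) (len := 86) h676 m2_676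
  have h678 : ∀ u < 58308, (fun u => chkFix tab mwords u) u = true := ext_range (a := 58222) (len := 86) h677 m2_677
  have h679 : ∀ u < 58394, (fun u => chkFix tab mwords u) u = true := ext_range (a := 58308) (len := 86) h678 m2_678
  have h680 : ∀ u < 58480, (fun u => chkFix tab mwords u) u = true := ext_range (a := 58394) (len := 86) h679 m2_679
  have h681 : ∀ u < 58566, (fun u => chkFix tab mwords u) u = true := ext_range (a := 58480) (len := 86) h680 m2_680
  have h682 : ∀ u < 58652, (fun u => chkFix tab mwords u) u = true := ext_range (a := 58566) (len := 86) h681 m2_681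
  have h683 : ∀ u < 58738, (fun u => chkFix tab mwords u) u = true := ext_range (a := 58652) (len := 86) h682 m2_682
  have h684 : ∀ u < 58824, (fun u => chkFix tab mwords u) u = true := ext_range (a := 58738) (len := 86) h683 m2_683
  have h685 : ∀ u < 58910, (fun u => chkFix tab mwords u) u = true := ext_range (a := 58824) (len := 86) h684 m2_684
  have h686 : ∀ u < 58996, (fun u => chkFix tab mwords u) u = true := ext_range (a := 58910) (len := 86) h685 m2_685
  have h687 : ∀ u < 59082, (fun u => chkFix tab mwords u) u = true := ext_range (a := 58996) (len := 86) h686 m2_686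
  have h688 : ∀ u < 59168, (fun u => chkFix tab mwords u) u = true := ext_range (a := 59082) (len := 86) h687 m2_687
  have h689 : ∀ u < 59254, (fun u => chkFix tab mwords u) u = true := ext_range (a := 59168) (len := 86) h688 m2_688
  have h690 : ∀ u < 59340, (fun u => chkFix tab mwords u) u = true := ext_range (a := 59254) (len := 86) h689 m2_689
  have h691 : ∀ u < 59426, (fun u => chkFix tab mwords u) u = true := ext_range (a := 59340) (len := 86) h690 m2_690
  have h692 : ∀ u < 59512, (fun u => chkFix tab mwords u) u = true := ext_range (a := 59426) (len := 86) h691 m2_691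
  have h693 : ∀ u < 59598, (fun u => chkFix tab mwords u) u = true := ext_range (a := 59512) (len := 86) h692 m2_692
  have h694 : ∀ u < 59684, (fun u => chkFix tab mwords u) u = true := ext_range (a := 59598) (len := 86) h693 m2_693
  have h695 : ∀ u < 59770, (fun u => chkFix tab mwords u) u = true := ext_range (a := 59684) (len := 86) h694 m2_694
  have h696 : ∀ u < 59856, (fun u => chkFix tab mwords u) u = true := ext_range (a := 59770) (len := 86) h695 m2_695
  have h697 : ∀ u < 59942, (fun u => chkFix tab mwords u) u = true := ext_range (a := 59856) (len := 86) h696 m2_696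
  have h698 : ∀ u < 60028, (fun u => chkFix tab mwords u) u = true := ext_range (a := 59942) (len := 86) h697 m2_697
  have h699 : ∀ u < 60114, (fun u => chkFix tab mwords u) u = true := ext_range (a := 60028) (len := 86) h698 m2_698
  have h700 : ∀ u < 60200, (fun u => chkFix tab mwords u) u = true := ext_range (a := 60114) (len := 86) h699 m2_699
  have h701 : ∀ u < 60286, (fun u => chkFix tab mwords u) u = true := ext_range (a := 60200) (len := 86) h700 m2_700
  have h702 : ∀ u < 60372, (fun u => chkFix tab mwords u) u = true := ext_range (a := 60286) (len := 86) h701 m2_701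
  have h703 : ∀ u < 60458, (fun u => chkFix tab mwords u) u = true := ext_range (a := 60372) (len := 86) h702 m2_702
  have h704 : ∀ u < 60544, (fun u => chkFix tab mwords u) u = true := ext_range (a := 60458) (len := 86) h703 m2_703
  have h705 : ∀ u < 60630, (fun u => chkFix tab mwords u) u = true := ext_range (a := 60544) (len := 86) h704 m2_704
  have h706 : ∀ u < 60716, (fun u => chkFix tab mwords u) u = true := ext_range (a := 60630) (len := 86) h705 m2_705
  have h707 : ∀ u < 60802, (fun u => chkFix tab mwords u) u = true := ext_range (a := 60716) (len := 86) h706 m2_706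
  have h708 : ∀ u < 60888, (fun u => chkFix tab mwords u) u = true := ext_range (a := 60802) (len := 86) h707 m2_707
  have h709 : ∀ u < 60974, (fun u => chkFix tab mwords u) u = true := ext_range (a := 60888) (len := 86) h708 m2_708
  have h710 : ∀ u < 61060, (fun u => chkFix tab mwords u) u = true := ext_range (a := 60974) (len := 86) h709 m2_709
  have h711 : ∀ u < 61146, (fun u => chkFix tab mwords u) u = true := ext_range (a := 61060) (len := 86) h710 m2_710
  have h712 : ∀ u < 61232, (fun u => chkFix tab mwords u) u = true := ext_range (a := 61146) (len := 86) h711 m2_711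
  have h713 : ∀ u < 61318, (fun u => chkFix tab mwords u) u = true := ext_range (a := 61232) (len := 86) h712 m2_712
  have h714 : ∀ u < 61404, (fun u => chkFix tab mwords u) u = true := ext_range (a := 61318) (len := 86) h713 m2_713
  have h715 : ∀ u < 61490, (fun u => chkFix tab mwords u) u = true := ext_range (a := 61404) (len := 86) h714 m2_714
  have h716 : ∀ u < 61576, (fun u => chkFix tab mwords u) u = true := ext_range (a := 61490) (len := 86) h715 m2_715
  have h717 : ∀ u < 61662, (fun u => chkFix tab mwords u) u = true := ext_range (a := 61576) (len := 86) h716 m2_716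
  have h718 : ∀ u < 61748, (fun u => chkFix tab mwords u) u = true := ext_range (a := 61662) (len := 86) h717 m2_717
  have h719 : ∀ u < 61834, (fun u => chkFix tab mwords u) u = true := ext_range (a := 61748) (len := 86) h718 m2_718
  have h720 : ∀ u < 61920, (fun u => chkFix tab mwords u) u = true := ext_range (a := 61834) (len := 86) h719 m2_719
  have h721 : ∀ u < 62006, (fun u => chkFix tab mwords u) u = true := ext_range (a := 61920) (len := 86) h720 m2_720
  have h722 : ∀ u < 62092, (fun u => chkFix tab mwords u) u = true := ext_range (a := 62006) (len := 86) h721 m2_721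
  have h723 : ∀ u < 62178, (fun u => chkFix tab mwords u) u = true := ext_range (a := 62092) (len := 86) h722 m2_722
  have h724 : ∀ u < 62264, (fun u => chkFix tab mwords u) u = true := ext_range (a := 62178) (len := 86) h723 m2_723
  have h725 : ∀ u < 62350, (fun u => chkFix tab mwords u) u = true := ext_range (a := 62264) (len := 86) h724 m2_724
  have h726 : ∀ u < 62436, (fun u => chkFix tab mwords u) u = true := ext_range (a := 62350) (len := 86) h725 m2_725
  have h727 : ∀ u < 62522, (fun u => chkFix tab mwords u) u = true := ext_range (a := 62436) (len := 86) h726 m2_726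
  have h728 : ∀ u < 62608, (fun u => chkFix tab mwords u) u = true := ext_range (a := 62522) (len := 86) h727 m2_727
  have h729 : ∀ u < 62694, (fun u => chkFix tab mwords u) u = true := ext_range (a := 62608) (len := 86) h728 m2_728
  have h730 : ∀ u < 62780, (fun u => chkFix tab mwords u) u = true := ext_range (a := 62694) (len := 86) h729 m2_729
  have h731 : ∀ u < 62866, (fun u => chkFix tab mwords u) u = true := ext_range (a := 62780) (len := 86) h730 m2_730
  have h732 : ∀ u < 62952, (fun u => chkFix tab mwords u) u = true := ext_range (a := 62866) (len := 86) h731 m2_731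
  have h733 : ∀ u < 63038, (fun u => chkFix tab mwords u) u = true := ext_range (a := 62952) (len := 86) h732 m2_732
  have h734 : ∀ u < 63124, (fun u => chkFix tab mwords u) u = true := ext_range (a := 63038) (len := 86) h733 m2_733
  have h735 : ∀ u < 63210, (fun u => chkFix tab mwords u) u = true := ext_range (a := 63124) (len := 86) h734 m2_734
  have h736 : ∀ u < 63296, (fun u => chkFix tab mwords u) u = true := ext_range (a := 63210) (len := 86) h735 m2_735
  have h737 : ∀ u < 63382, (fun u => chkFix tab mwords u) u = true := ext_range (a := 63296) (len := 86) h736 m2_736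
  have h738 : ∀ u < 63468, (fun u => chkFix tab mwords u) u = true := ext_range (a := 63382) (len := 86) h737 m2_737
  have h739 : ∀ u < 63554, (fun u => chkFix tab mwords u) u = true := ext_range (a := 63468) (len := 86) h738 m2_738
  have h740 : ∀ u < 63640, (fun u => chkFix tab mwords u) u = true := ext_range (a := 63554) (len := 86) h739 m2_739
  have h741 : ∀ u < 63726, (fun u => chkFix tab mwords u) u = true := ext_range (a := 63640) (len := 86) h740 m2_740
  have h742 : ∀ u < 63812, (fun u => chkFix tab mwords u) u = true := ext_range (a := 63726) (len := 86) h741 m2_741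
  have h743 : ∀ u < 63898, (fun u => chkFix tab mwords u) u = true := ext_range (a := 63812) (len := 86) h742 m2_742
  have h744 : ∀ u < 63984, (fun u => chkFix tab mwords u) u = true := ext_range (a := 63898) (len := 86) h743 m2_743
  have h745 : ∀ u < 64070, (fun u => chkFix tab mwords u) u = true := ext_range (a := 63984) (len := 86) h744 m2_744
  have h746 : ∀ u < 64156, (fun u => chkFix tab mwords u) u = true := ext_range (a := 64070) (len := 86) h745 m2_745
  have h747 : ∀ u < 64242, (fun u => chkFix tab mwords u) u = true := ext_range (a := 64156) (len := 86) h746 m2_746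
  have h748 : ∀ u < 64328, (fun u => chkFix tab mwords u) u = true := ext_range (a := 64242) (len := 86) h747 m2_747
  have h749 : ∀ u < 64414, (fun u => chkFix tab mwords u) u = true := ext_range (a := 64328) (len := 86) h748 m2_748
  have h750 : ∀ u < 64500, (fun u => chkFix tab mwords u) u = true := ext_range (a := 64414) (len := 86) h749 m2_749
  have h751 : ∀ u < 64586, (fun u => chkFix tab mwords u) u = true := ext_range (a := 64500) (len := 86) h750 m2_750
  have h752 : ∀ u < 64672, (fun u => chkFix tab mwords u) u = true := ext_range (a := 64586) (len := 86) h751 m2_751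
  have h753 : ∀ u < 64758, (fun u => chkFix tab mwords u) u = true := ext_range (a := 64672) (len := 86) h752 m2_752
  have h754 : ∀ u < 64844, (fun u => chkFix tab mwords u) u = true := ext_range (a := 64758) (len := 86) h753 m2_753
  have h755 : ∀ u < 64930, (fun u => chkFix tab mwords u) u = true := ext_range (a := 64844) (len := 86) h754 m2_754
  have h756 : ∀ u < 65016, (fun u => chkFix tab mwords u) u = true := ext_range (a := 64930) (len := 86) h755 m2_755
  have h757 : ∀ u < 65102, (fun u => chkFix tab mwords u) u = true := ext_range (a := 65016) (len := 86) h756 m2_756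
  have h758 : ∀ u < 65188, (fun u => chkFix tab mwords u) u = true := ext_range (a := 65102) (len := 86) h757 m2_757
  have h759 : ∀ u < 65274, (fun u => chkFix tab mwords u) u = true := ext_range (a := 65188) (len := 86) h758 m2_758
  have h760 : ∀ u < 65360, (fun u => chkFix tab mwords u) u = true := ext_range (a := 65274) (len := 86) h759 m2_759
  have h761 : ∀ u < 65446, (fun u => chkFix tab mwords u) u = true := ext_range (a := 65360) (len := 86) h760 m2_760
  have h762 : ∀ u < 65532, (fun u => chkFix tab mwords u) u = true := ext_range (a := 65446) (len := 86) h761 m2_761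
  have h763 : ∀ u < 65618, (fun u => chkFix tab mwords u) u = true := ext_range (a := 65532) (len := 86) h762 m2_762
  have h764 : ∀ u < 65704, (fun u => chkFix tab mwords u) u = true := ext_range (a := 65618) (len := 86) h763 m2_763
  have h765 : ∀ u < 65790, (fun u => chkFix tab mwords u) u = true := ext_range (a := 65704) (len := 86) h764 m2_764
  have h766 : ∀ u < 65876, (fun u => chkFix tab mwords u) u = true := ext_range (a := 65790) (len := 86) h765 m2_765
  have h767 : ∀ u < 65962, (fun u => chkFix tab mwords u) u = true := ext_range (a := 65876) (len := 86) h766 m2_766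
  have h768 : ∀ u < 66048, (fun u => chkFix tab mwords u) u = true := ext_range (a := 65962) (len := 86) h767 m2_767
  have h769 : ∀ u < 66134, (fun u => chkFix tab mwords u) u = true := ext_range (a := 66048) (len := 86) h768 m2_768
  have h770 : ∀ u < 66220, (fun u => chkFix tab mwords u) u = true := ext_range (a := 66134) (len := 86) h769 m2_769
  have h771 : ∀ u < 66306, (fun u => chkFix tab mwords u) u = true := ext_range (a := 66220) (len := 86) h770 m2_770
  have h772 : ∀ u < 66392, (fun u => chkFix tab mwords u) u = true := ext_range (a := 66306) (len := 86) h771 m2_771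
  have h773 : ∀ u < 66478, (fun u => chkFix tab mwords u) u = true := ext_range (a := 66392) (len := 86) h772 m2_772
  have h774 : ∀ u < 66564, (fun u => chkFix tab mwords u) u = true := ext_range (a := 66478) (len := 86) h773 m2_773
  have h775 : ∀ u < 66650, (fun u => chkFix tab mwords u) u = true := ext_range (a := 66564) (len := 86) h774 m2_774
  have h776 : ∀ u < 66736, (fun u => chkFix tab mwords u) u = true := ext_range (a := 66650) (len := 86) h775 m2_775
  have h777 : ∀ u < 66822, (fun u => chkFix tab mwords u) u = true := ext_range (a := 66736) (len := 86) h776 m2_776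
  have h778 : ∀ u < 66908, (fun u => chkFix tab mwords u) u = true := ext_range (a := 66822) (len := 86) h777 m2_777
  have h779 : ∀ u < 66994, (fun u => chkFix tab mwords u) u = true := ext_range (a := 66908) (len := 86) h778 m2_778
  have h780 : ∀ u < 67080, (fun u => chkFix tab mwords u) u = true := ext_range (a := 66994) (len := 86) h779 m2_779
  have h781 : ∀ u < 67166, (fun u => chkFix tab mwords u) u = true := ext_range (a := 67080) (len := 86) h780 m2_780
  have h782 : ∀ u < 67252, (fun u => chkFix tab mwords u) u = true := ext_range (a := 67166) (len := 86) h781 m2_781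
  have h783 : ∀ u < 67338, (fun u => chkFix tab mwords u) u = true := ext_range (a := 67252) (len := 86) h782 m2_782
  have h784 : ∀ u < 67424, (fun u => chkFix tab mwords u) u = true := ext_range (a := 67338) (len := 86) h783 m2_783
  have h785 : ∀ u < 67510, (fun u => chkFix tab mwords u) u = true := ext_range (a := 67424) (len := 86) h784 m2_784
  have h786 : ∀ u < 67596, (fun u => chkFix tab mwords u) u = true := ext_range (a := 67510) (len := 86) h785 m2_785
  have h787 : ∀ u < 67682, (fun u => chkFix tab mwords u) u = true := ext_range (a := 67596) (len := 86) h786 m2_786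
  have h788 : ∀ u < 67768, (fun u => chkFix tab mwords u) u = true := ext_range (a := 67682) (len := 86) h787 m2_787
  have h789 : ∀ u < 67854, (fun u => chkFix tab mwords u) u = true := ext_range (a := 67768) (len := 86) h788 m2_788
  have h790 : ∀ u < 67940, (fun u => chkFix tab mwords u) u = true := ext_range (a := 67854) (len := 86) h789 m2_789
  have h791 : ∀ u < 68026, (fun u => chkFix tab mwords u) u = true := ext_range (a := 67940) (len := 86) h790 m2_790
  have h792 : ∀ u < 68112, (fun u => chkFix tab mwords u) u = true := ext_range (a := 68026) (len := 86) h791 m2_791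
  have h793 : ∀ u < 68198, (fun u => chkFix tab mwords u) u = true := ext_range (a := 68112) (len := 86) h792 m2_792
  have h794 : ∀ u < 68284, (fun u => chkFix tab mwords u) u = true := ext_range (a := 68198) (len := 86) h793 m2_793
  have h795 : ∀ u < 68370, (fun u => chkFix tab mwords u) u = true := ext_range (a := 68284) (len := 86) h794 m2_794
  have h796 : ∀ u < 68456, (fun u => chkFix tab mwords u) u = true := ext_range (a := 68370) (len := 86) h795 m2_795
  have h797 : ∀ u < 68542, (fun u => chkFix tab mwords u) u = true := ext_range (a := 68456) (len := 86) h796 m2_796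
  have h798 : ∀ u < 68628, (fun u => chkFix tab mwords u) u = true := ext_range (a := 68542) (len := 86) h797 m2_797
  have h799 : ∀ u < 68714, (fun u => chkFix tab mwords u) u = true := ext_range (a := 68628) (len := 86) h798 m2_798
  have h800 : ∀ u < 68800, (fun u => chkFix tab mwords u) u = true := ext_range (a := 68714) (len := 86) h799 m2_799
  have h801 : ∀ u < 68886, (fun u => chkFix tab mwords u) u = true := ext_range (a := 68800) (len := 86) h800 m2_800
  have h802 : ∀ u < 68972, (fun u => chkFix tab mwords u) u = true := ext_range (a := 68886) (len := 86) h801 m2_801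
  have h803 : ∀ u < 69058, (fun u => chkFix tab mwords u) u = true := ext_range (a := 68972) (len := 86) h802 m2_802
  have h804 : ∀ u < 69144, (fun u => chkFix tab mwords u) u = true := ext_range (a := 69058) (len := 86) h803 m2_803
  have h805 : ∀ u < 69230, (fun u => chkFix tab mwords u) u = true := ext_range (a := 69144) (len := 86) h804 m2_804
  have h806 : ∀ u < 69316, (fun u => chkFix tab mwords u) u = true := ext_range (a := 69230) (len := 86) h805 m2_805
  have h807 : ∀ u < 69402, (fun u => chkFix tab mwords u) u = true := ext_range (a := 69316) (len := 86) h806 m2_806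
  have h808 : ∀ u < 69488, (fun u => chkFix tab mwords u) u = true := ext_range (a := 69402) (len := 86) h807 m2_807
  have h809 : ∀ u < 69574, (fun u => chkFix tab mwords u) u = true := ext_range (a := 69488) (len := 86) h808 m2_808
  have h810 : ∀ u < 69660, (fun u => chkFix tab mwords u) u = true := ext_range (a := 69574) (len := 86) h809 m2_809
  have h811 : ∀ u < 69746, (fun u => chkFix tab mwords u) u = true := ext_range (a := 69660) (len := 86) h810 m2_810
  have h812 : ∀ u < 69832, (fun u => chkFix tab mwords u) u = true := ext_range (a := 69746) (len := 86) h811 m2_811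
  have h813 : ∀ u < 69918, (fun u => chkFix tab mwords u) u = true := ext_range (a := 69832) (len := 86) h812 m2_812
  have h814 : ∀ u < 70004, (fun u => chkFix tab mwords u) u = true := ext_range (a := 69918) (len := 86) h813 m2_813
  have h815 : ∀ u < 70090, (fun u => chkFix tab mwords u) u = true := ext_range (a := 70004) (len := 86) h814 m2_814
  have h816 : ∀ u < 70176, (fun u => chkFix tab mwords u) u = true := ext_range (a := 70090) (len := 86) h815 m2_815
  have h817 : ∀ u < 70262, (fun u => chkFix tab mwords u) u = true := ext_range (a := 70176) (len := 86) h816 m2_816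
  have h818 : ∀ u < 70348, (fun u => chkFix tab mwords u) u = true := ext_range (a := 70262) (len := 86) h817 m2_817
  have h819 : ∀ u < 70434, (fun u => chkFix tab mwords u) u = true := ext_range (a := 70348) (len := 86) h818 m2_818
  have h820 : ∀ u < 70520, (fun u => chkFix tab mwords u) u = true := ext_range (a := 70434) (len := 86) h819 m2_819
  have h821 : ∀ u < 70606, (fun u => chkFix tab mwords u) u = true := ext_range (a := 70520) (len := 86) h820 m2_820
  have h822 : ∀ u < 70692, (fun u => chkFix tab mwords u) u = true := ext_range (a := 70606) (len := 86) h821 m2_821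
  have h823 : ∀ u < 70778, (fun u => chkFix tab mwords u) u = true := ext_range (a := 70692) (len := 86) h822 m2_822
  have h824 : ∀ u < 70864, (fun u => chkFix tab mwords u) u = true := ext_range (a := 70778) (len := 86) h823 m2_823
  have h825 : ∀ u < 70950, (fun u => chkFix tab mwords u) u = true := ext_range (a := 70864) (len := 86) h824 m2_824
  have h826 : ∀ u < 71036, (fun u => chkFix tab mwords u) u = true := ext_range (a := 70950) (len := 86) h825 m2_825
  have h827 : ∀ u < 71122, (fun u => chkFix tab mwords u) u = true := ext_range (a := 71036) (len := 86) h826 m2_826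
  have h828 : ∀ u < 71208, (fun u => chkFix tab mwords u) u = true := ext_range (a := 71122) (len := 86) h827 m2_827
  have h829 : ∀ u < 71294, (fun u => chkFix tab mwords u) u = true := ext_range (a := 71208) (len := 86) h828 m2_828
  have h830 : ∀ u < 71380, (fun u => chkFix tab mwords u) u = true := ext_range (a := 71294) (len := 86) h829 m2_829
  have h831 : ∀ u < 71466, (fun u => chkFix tab mwords u) u = true := ext_range (a := 71380) (len := 86) h830 m2_830
  have h832 : ∀ u < 71552, (fun u => chkFix tab mwords u) u = true := ext_range (a := 71466) (len := 86) h831 m2_831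
  have h833 : ∀ u < 71638, (fun u => chkFix tab mwords u) u = true := ext_range (a := 71552) (len := 86) h832 m2_832
  have h834 : ∀ u < 71724, (fun u => chkFix tab mwords u) u = true := ext_range (a := 71638) (len := 86) h833 m2_833
  have h835 : ∀ u < 71810, (fun u => chkFix tab mwords u) u = true := ext_range (a := 71724) (len := 86) h834 m2_834
  have h836 : ∀ u < 71896, (fun u => chkFix tab mwords u) u = true := ext_range (a := 71810) (len := 86) h835 m2_835
  have h837 : ∀ u < 71982, (fun u => chkFix tab mwords u) u = true := ext_range (a := 71896) (len := 86) h836 m2_836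
  have h838 : ∀ u < 72068, (fun u => chkFix tab mwords u) u = true := ext_range (a := 71982) (len := 86) h837 m2_837
  have h839 : ∀ u < 72154, (fun u => chkFix tab mwords u) u = true := ext_range (a := 72068) (len := 86) h838 m2_838
  have h840 : ∀ u < 72240, (fun u => chkFix tab mwords u) u = true := ext_range (a := 72154) (len := 86) h839 m2_839
  have h841 : ∀ u < 72326, (fun u => chkFix tab mwords u) u = true := ext_range (a := 72240) (len := 86) h840 m2_840
  have h842 : ∀ u < 72412, (fun u => chkFix tab mwords u) u = true := ext_range (a := 72326) (len := 86) h841 m2_841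
  have h843 : ∀ u < 72498, (fun u => chkFix tab mwords u) u = true := ext_range (a := 72412) (len := 86) h842 m2_842
  have h844 : ∀ u < 72584, (fun u => chkFix tab mwords u) u = true := ext_range (a := 72498) (len := 86) h843 m2_843
  have h845 : ∀ u < 72670, (fun u => chkFix tab mwords u) u = true := ext_range (a := 72584) (len := 86) h844 m2_844
  have h846 : ∀ u < 72756, (fun u => chkFix tab mwords u) u = true := ext_range (a := 72670) (len := 86) h845 m2_845
  have h847 : ∀ u < 72842, (fun u => chkFix tab mwords u) u = true := ext_range (a := 72756) (len := 86) h846 m2_846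
  have h848 : ∀ u < 72928, (fun u => chkFix tab mwords u) u = true := ext_range (a := 72842) (len := 86) h847 m2_847
  have h849 : ∀ u < 73014, (fun u => chkFix tab mwords u) u = true := ext_range (a := 72928) (len := 86) h848 m2_848
  have h850 : ∀ u < 73100, (fun u => chkFix tab mwords u) u = true := ext_range (a := 73014) (len := 86) h849 m2_849
  have h851 : ∀ u < 73186, (fun u => chkFix tab mwords u) u = true := ext_range (a := 73100) (len := 86) h850 m2_850
  have h852 : ∀ u < 73272, (fun u => chkFix tab mwords u) u = true := ext_range (a := 73186) (len := 86) h851 m2_851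
  have h853 : ∀ u < 73358, (fun u => chkFix tab mwords u) u = true := ext_range (a := 73272) (len := 86) h852 m2_852
  have h854 : ∀ u < 73444, (fun u => chkFix tab mwords u) u = true := ext_range (a := 73358) (len := 86) h853 m2_853
  have h855 : ∀ u < 73530, (fun u => chkFix tab mwords u) u = true := ext_range (a := 73444) (len := 86) h854 m2_854
  have h856 : ∀ u < 73616, (fun u => chkFix tab mwords u) u = true := ext_range (a := 73530) (len := 86) h855 m2_855
  have h857 : ∀ u < 73702, (fun u => chkFix tab mwords u) u = true := ext_range (a := 73616) (len := 86) h856 m2_856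
  have h858 : ∀ u < 73788, (fun u => chkFix tab mwords u) u = true := ext_range (a := 73702) (len := 86) h857 m2_857
  have h859 : ∀ u < 73874, (fun u => chkFix tab mwords u) u = true := ext_range (a := 73788) (len := 86) h858 m2_858
  have h860 : ∀ u < 73960, (fun u => chkFix tab mwords u) u = true := ext_range (a := 73874) (len := 86) h859 m2_859
  have h861 : ∀ u < 74046, (fun u => chkFix tab mwords u) u = true := ext_range (a := 73960) (len := 86) h860 m2_860
  have h862 : ∀ u < 74132, (fun u => chkFix tab mwords u) u = true := ext_range (a := 74046) (len := 86) h861 m2_861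
  have h863 : ∀ u < 74218, (fun u => chkFix tab mwords u) u = true := ext_range (a := 74132) (len := 86) h862 m2_862
  have h864 : ∀ u < 74304, (fun u => chkFix tab mwords u) u = true := ext_range (a := 74218) (len := 86) h863 m2_863
  have h865 : ∀ u < 74390, (fun u => chkFix tab mwords u) u = true := ext_range (a := 74304) (len := 86) h864 m2_864
  have h866 : ∀ u < 74476, (fun u => chkFix tab mwords u) u = true := ext_range (a := 74390) (len := 86) h865 m2_865
  have h867 : ∀ u < 74562, (fun u => chkFix tab mwords u) u = true := ext_range (a := 74476) (len := 86) h866 m2_866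
  have h868 : ∀ u < 74648, (fun u => chkFix tab mwords u) u = true := ext_range (a := 74562) (len := 86) h867 m2_867
  have h869 : ∀ u < 74734, (fun u => chkFix tab mwords u) u = true := ext_range (a := 74648) (len := 86) h868 m2_868
  have h870 : ∀ u < 74820, (fun u => chkFix tab mwords u) u = true := ext_range (a := 74734) (len := 86) h869 m2_869
  have h871 : ∀ u < 74906, (fun u => chkFix tab mwords u) u = true := ext_range (a := 74820) (len := 86) h870 m2_870
  have h872 : ∀ u < 74992, (fun u => chkFix tab mwords u) u = true := ext_range (a := 74906) (len := 86) h871 m2_871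
  have h873 : ∀ u < 75078, (fun u => chkFix tab mwords u) u = true := ext_range (a := 74992) (len := 86) h872 m2_872
  have h874 : ∀ u < 75164, (fun u => chkFix tab mwords u) u = true := ext_range (a := 75078) (len := 86) h873 m2_873
  have h875 : ∀ u < 75250, (fun u => chkFix tab mwords u) u = true := ext_range (a := 75164) (len := 86) h874 m2_874
  have h876 : ∀ u < 75336, (fun u => chkFix tab mwords u) u = true := ext_range (a := 75250) (len := 86) h875 m2_875
  have h877 : ∀ u < 75422, (fun u => chkFix tab mwords u) u = true := ext_range (a := 75336) (len := 86) h876 m2_876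
  have h878 : ∀ u < 75508, (fun u => chkFix tab mwords u) u = true := ext_range (a := 75422) (len := 86) h877 m2_877
  have h879 : ∀ u < 75594, (fun u => chkFix tab mwords u) u = true := ext_range (a := 75508) (len := 86) h878 m2_878
  have h880 : ∀ u < 75680, (fun u => chkFix tab mwords u) u = true := ext_range (a := 75594) (len := 86) h879 m2_879
  have h881 : ∀ u < 75766, (fun u => chkFix tab mwords u) u = true := ext_range (a := 75680) (len := 86) h880 m2_880
  have h882 : ∀ u < 75852, (fun u => chkFix tab mwords u) u = true := ext_range (a := 75766) (len := 86) h881 m2_881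
  have h883 : ∀ u < 75938, (fun u => chkFix tab mwords u) u = true := ext_range (a := 75852) (len := 86) h882 m2_882
  have h884 : ∀ u < 76024, (fun u => chkFix tab mwords u) u = true := ext_range (a := 75938) (len := 86) h883 m2_883
  have h885 : ∀ u < 76110, (fun u => chkFix tab mwords u) u = true := ext_range (a := 76024) (len := 86) h884 m2_884
  have h886 : ∀ u < 76196, (fun u => chkFix tab mwords u) u = true := ext_range (a := 76110) (len := 86) h885 m2_885
  have h887 : ∀ u < 76282, (fun u => chkFix tab mwords u) u = true := ext_range (a := 76196) (len := 86) h886 m2_886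
  have h888 : ∀ u < 76368, (fun u => chkFix tab mwords u) u = true := ext_range (a := 76282) (len := 86) h887 m2_887
  have h889 : ∀ u < 76454, (fun u => chkFix tab mwords u) u = true := ext_range (a := 76368) (len := 86) h888 m2_888
  have h890 : ∀ u < 76540, (fun u => chkFix tab mwords u) u = true := ext_range (a := 76454) (len := 86) h889 m2_889
  have h891 : ∀ u < 76626, (fun u => chkFix tab mwords u) u = true := ext_range (a := 76540) (len := 86) h890 m2_890
  have h892 : ∀ u < 76712, (fun u => chkFix tab mwords u) u = true := ext_range (a := 76626) (len := 86) h891 m2_891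
  have h893 : ∀ u < 76798, (fun u => chkFix tab mwords u) u = true := ext_range (a := 76712) (len := 86) h892 m2_892
  have h894 : ∀ u < 76884, (fun u => chkFix tab mwords u) u = true := ext_range (a := 76798) (len := 86) h893 m2_893
  have h895 : ∀ u < 76970, (fun u => chkFix tab mwords u) u = true := ext_range (a := 76884) (len := 86) h894 m2_894
  have h896 : ∀ u < 77056, (fun u => chkFix tab mwords u) u = true := ext_range (a := 76970) (len := 86) h895 m2_895
  have h897 : ∀ u < 77142, (fun u => chkFix tab mwords u) u = true := ext_range (a := 77056) (len := 86) h896 m2_896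
  have h898 : ∀ u < 77228, (fun u => chkFix tab mwords u) u = true := ext_range (a := 77142) (len := 86) h897 m2_897
  have h899 : ∀ u < 77314, (fun u => chkFix tab mwords u) u = true := ext_range (a := 77228) (len := 86) h898 m2_898
  have h900 : ∀ u < 77400, (fun u => chkFix tab mwords u) u = true := ext_range (a := 77314) (len := 86) h899 m2_899
  have h901 : ∀ u < 77486, (fun u => chkFix tab mwords u) u = true := ext_range (a := 77400) (len := 86) h900 m2_900
  have h902 : ∀ u < 77572, (fun u => chkFix tab mwords u) u = true := ext_range (a := 77486) (len := 86) h901 m2_901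
  have h903 : ∀ u < 77658, (fun u => chkFix tab mwords u) u = true := ext_range (a := 77572) (len := 86) h902 m2_902
  have h904 : ∀ u < 77744, (fun u => chkFix tab mwords u) u = true := ext_range (a := 77658) (len := 86) h903 m2_903
  have h905 : ∀ u < 77830, (fun u => chkFix tab mwords u) u = true := ext_range (a := 77744) (len := 86) h904 m2_904
  have h906 : ∀ u < 77916, (fun u => chkFix tab mwords u) u = true := ext_range (a := 77830) (len := 86) h905 m2_905
  have h907 : ∀ u < 78002, (fun u => chkFix tab mwords u) u = true := ext_range (a := 77916) (len := 86) h906 m2_906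
  have h908 : ∀ u < 78088, (fun u => chkFix tab mwords u) u = true := ext_range (a := 78002) (len := 86) h907 m2_907
  have h909 : ∀ u < 78174, (fun u => chkFix tab mwords u) u = true := ext_range (a := 78088) (len := 86) h908 m2_908
  have h910 : ∀ u < 78260, (fun u => chkFix tab mwords u) u = true := ext_range (a := 78174) (len := 86) h909 m2_909
  have h911 : ∀ u < 78346, (fun u => chkFix tab mwords u) u = true := ext_range (a := 78260) (len := 86) h910 m2_910
  have h912 : ∀ u < 78432, (fun u => chkFix tab mwords u) u = true := ext_range (a := 78346) (len := 86) h911 m2_911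
  have h913 : ∀ u < 78518, (fun u => chkFix tab mwords u) u = true := ext_range (a := 78432) (len := 86) h912 m2_912
  have h914 : ∀ u < 78604, (fun u => chkFix tab mwords u) u = true := ext_range (a := 78518) (len := 86) h913 m2_913
  have h915 : ∀ u < 78690, (fun u => chkFix tab mwords u) u = true := ext_range (a := 78604) (len := 86) h914 m2_914
  have h916 : ∀ u < 78776, (fun u => chkFix tab mwords u) u = true := ext_range (a := 78690) (len := 86) h915 m2_915
  have h917 : ∀ u < 78862, (fun u => chkFix tab mwords u) u = true := ext_range (a := 78776) (len := 86) h916 m2_916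
  have h918 : ∀ u < 78948, (fun u => chkFix tab mwords u) u = true := ext_range (a := 78862) (len := 86) h917 m2_917
  have h919 : ∀ u < 79034, (fun u => chkFix tab mwords u) u = true := ext_range (a := 78948) (len := 86) h918 m2_918
  have h920 : ∀ u < 79120, (fun u => chkFix tab mwords u) u = true := ext_range (a := 79034) (len := 86) h919 m2_919
  have h921 : ∀ u < 79206, (fun u => chkFix tab mwords u) u = true := ext_range (a := 79120) (len := 86) h920 m2_920
  have h922 : ∀ u < 79292, (fun u => chkFix tab mwords u) u = true := ext_range (a := 79206) (len := 86) h921 m2_921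
  have h923 : ∀ u < 79378, (fun u => chkFix tab mwords u) u = true := ext_range (a := 79292) (len := 86) h922 m2_922
  have h924 : ∀ u < 79464, (fun u => chkFix tab mwords u) u = true := ext_range (a := 79378) (len := 86) h923 m2_923
  have h925 : ∀ u < 79550, (fun u => chkFix tab mwords u) u = true := ext_range (a := 79464) (len := 86) h924 m2_924
  have h926 : ∀ u < 79636, (fun u => chkFix tab mwords u) u = true := ext_range (a := 79550) (len := 86) h925 m2_925
  have h927 : ∀ u < 79722, (fun u => chkFix tab mwords u) u = true := ext_range (a := 79636) (len := 86) h926 m2_926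
  have h928 : ∀ u < 79808, (fun u => chkFix tab mwords u) u = true := ext_range (a := 79722) (len := 86) h927 m2_927
  have h929 : ∀ u < 79894, (fun u => chkFix tab mwords u) u = true := ext_range (a := 79808) (len := 86) h928 m2_928
  have h930 : ∀ u < 79980, (fun u => chkFix tab mwords u) u = true := ext_range (a := 79894) (len := 86) h929 m2_929
  have h931 : ∀ u < 80066, (fun u => chkFix tab mwords u) u = true := ext_range (a := 79980) (len := 86) h930 m2_930
  have h932 : ∀ u < 80152, (fun u => chkFix tab mwords u) u = true := ext_range (a := 80066) (len := 86) h931 m2_931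
  have h933 : ∀ u < 80238, (fun u => chkFix tab mwords u) u = true := ext_range (a := 80152) (len := 86) h932 m2_932
  have h934 : ∀ u < 80324, (fun u => chkFix tab mwords u) u = true := ext_range (a := 80238) (len := 86) h933 m2_933
  have h935 : ∀ u < 80410, (fun u => chkFix tab mwords u) u = true := ext_range (a := 80324) (len := 86) h934 m2_934
  have h936 : ∀ u < 80496, (fun u => chkFix tab mwords u) u = true := ext_range (a := 80410) (len := 86) h935 m2_935
  have h937 : ∀ u < 80582, (fun u => chkFix tab mwords u) u = true := ext_range (a := 80496) (len := 86) h936 m2_936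
  have h938 : ∀ u < 80668, (fun u => chkFix tab mwords u) u = true := ext_range (a := 80582) (len := 86) h937 m2_937
  have h939 : ∀ u < 80754, (fun u => chkFix tab mwords u) u = true := ext_range (a := 80668) (len := 86) h938 m2_938
  have h940 : ∀ u < 80840, (fun u => chkFix tab mwords u) u = true := ext_range (a := 80754) (len := 86) h939 m2_939
  have h941 : ∀ u < 80926, (fun u => chkFix tab mwords u) u = true := ext_range (a := 80840) (len := 86) h940 m2_940
  have h942 : ∀ u < 81012, (fun u => chkFix tab mwords u) u = true := ext_range (a := 80926) (len := 86) h941 m2_941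
  have h943 : ∀ u < 81098, (fun u => chkFix tab mwords u) u = true := ext_range (a := 81012) (len := 86) h942 m2_942
  have h944 : ∀ u < 81184, (fun u => chkFix tab mwords u) u = true := ext_range (a := 81098) (len := 86) h943 m2_943
  have h945 : ∀ u < 81270, (fun u => chkFix tab mwords u) u = true := ext_range (a := 81184) (len := 86) h944 m2_944
  have h946 : ∀ u < 81356, (fun u => chkFix tab mwords u) u = true := ext_range (a := 81270) (len := 86) h945 m2_945
  have h947 : ∀ u < 81442, (fun u => chkFix tab mwords u) u = true := ext_range (a := 81356) (len := 86) h946 m2_946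
  have h948 : ∀ u < 81528, (fun u => chkFix tab mwords u) u = true := ext_range (a := 81442) (len := 86) h947 m2_947
  have h949 : ∀ u < 81614, (fun u => chkFix tab mwords u) u = true := ext_range (a := 81528) (len := 86) h948 m2_948
  have h950 : ∀ u < 81700, (fun u => chkFix tab mwords u) u = true := ext_range (a := 81614) (len := 86) h949 m2_949
  have h951 : ∀ u < 81786, (fun u => chkFix tab mwords u) u = true := ext_range (a := 81700) (len := 86) h950 m2_950
  have h952 : ∀ u < 81872, (fun u => chkFix tab mwords u) u = true := ext_range (a := 81786) (len := 86) h951 m2_951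
  have h953 : ∀ u < 81958, (fun u => chkFix tab mwords u) u = true := ext_range (a := 81872) (len := 86) h952 m2_952
  have h954 : ∀ u < 82044, (fun u => chkFix tab mwords u) u = true := ext_range (a := 81958) (len := 86) h953 m2_953
  have h955 : ∀ u < 82130, (fun u => chkFix tab mwords u) u = true := ext_range (a := 82044) (len := 86) h954 m2_954
  have h956 : ∀ u < 82216, (fun u => chkFix tab mwords u) u = true := ext_range (a := 82130) (len := 86) h955 m2_955
  have h957 : ∀ u < 82302, (fun u => chkFix tab mwords u) u = true := ext_range (a := 82216) (len := 86) h956 m2_956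
  have h958 : ∀ u < 82388, (fun u => chkFix tab mwords u) u = true := ext_range (a := 82302) (len := 86) h957 m2_957
  have h959 : ∀ u < 82474, (fun u => chkFix tab mwords u) u = true := ext_range (a := 82388) (len := 86) h958 m2_958
  have h960 : ∀ u < 82560, (fun u => chkFix tab mwords u) u = true := ext_range (a := 82474) (len := 86) h959 m2_959
  have h961 : ∀ u < 82646, (fun u => chkFix tab mwords u) u = true := ext_range (a := 82560) (len := 86) h960 m2_960
  have h962 : ∀ u < 82732, (fun u => chkFix tab mwords u) u = true := ext_range (a := 82646) (len := 86) h961 m2_961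
  have h963 : ∀ u < 82818, (fun u => chkFix tab mwords u) u = true := ext_range (a := 82732) (len := 86) h962 m2_962
  have h964 : ∀ u < 82904, (fun u => chkFix tab mwords u) u = true := ext_range (a := 82818) (len := 86) h963 m2_963
  have h965 : ∀ u < 82990, (fun u => chkFix tab mwords u) u = true := ext_range (a := 82904) (len := 86) h964 m2_964
  have h966 : ∀ u < 83076, (fun u => chkFix tab mwords u) u = true := ext_range (a := 82990) (len := 86) h965 m2_965
  have h967 : ∀ u < 83162, (fun u => chkFix tab mwords u) u = true := ext_range (a := 83076) (len := 86) h966 m2_966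
  have h968 : ∀ u < 83248, (fun u => chkFix tab mwords u) u = true := ext_range (a := 83162) (len := 86) h967 m2_967
  have h969 : ∀ u < 83334, (fun u => chkFix tab mwords u) u = true := ext_range (a := 83248) (len := 86) h968 m2_968
  have h970 : ∀ u < 83420, (fun u => chkFix tab mwords u) u = true := ext_range (a := 83334) (len := 86) h969 m2_969
  have h971 : ∀ u < 83506, (fun u => chkFix tab mwords u) u = true := ext_range (a := 83420) (len := 86) h970 m2_970
  have h972 : ∀ u < 83592, (fun u => chkFix tab mwords u) u = true := ext_range (a := 83506) (len := 86) h971 m2_971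
  have h973 : ∀ u < 83678, (fun u => chkFix tab mwords u) u = true := ext_range (a := 83592) (len := 86) h972 m2_972
  have h974 : ∀ u < 83764, (fun u => chkFix tab mwords u) u = true := ext_range (a := 83678) (len := 86) h973 m2_973
  have h975 : ∀ u < 83850, (fun u => chkFix tab mwords u) u = true := ext_range (a := 83764) (len := 86) h974 m2_974
  have h976 : ∀ u < 83936, (fun u => chkFix tab mwords u) u = true := ext_range (a := 83850) (len := 86) h975 m2_975
  have h977 : ∀ u < 84022, (fun u => chkFix tab mwords u) u = true := ext_range (a := 83936) (len := 86) h976 m2_976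
  have h978 : ∀ u < 84108, (fun u => chkFix tab mwords u) u = true := ext_range (a := 84022) (len := 86) h977 m2_977
  have h979 : ∀ u < 84194, (fun u => chkFix tab mwords u) u = true := ext_range (a := 84108) (len := 86) h978 m2_978
  have h980 : ∀ u < 84280, (fun u => chkFix tab mwords u) u = true := ext_range (a := 84194) (len := 86) h979 m2_979
  have h981 : ∀ u < 84366, (fun u => chkFix tab mwords u) u = true := ext_range (a := 84280) (len := 86) h980 m2_980
  have h982 : ∀ u < 84452, (fun u => chkFix tab mwords u) u = true := ext_range (a := 84366) (len := 86) h981 m2_981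
  have h983 : ∀ u < 84538, (fun u => chkFix tab mwords u) u = true := ext_range (a := 84452) (len := 86) h982 m2_982
  have h984 : ∀ u < 84624, (fun u => chkFix tab mwords u) u = true := ext_range (a := 84538) (len := 86) h983 m2_983
  have h985 : ∀ u < 84710, (fun u => chkFix tab mwords u) u = true := ext_range (a := 84624) (len := 86) h984 m2_984
  have h986 : ∀ u < 84796, (fun u => chkFix tab mwords u) u = true := ext_range (a := 84710) (len := 86) h985 m2_985
  have h987 : ∀ u < 84882, (fun u => chkFix tab mwords u) u = true := ext_range (a := 84796) (len := 86) h986 m2_986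
  have h988 : ∀ u < 84968, (fun u => chkFix tab mwords u) u = true := ext_range (a := 84882) (len := 86) h987 m2_987
  have h989 : ∀ u < 85054, (fun u => chkFix tab mwords u) u = true := ext_range (a := 84968) (len := 86) h988 m2_988
  have h990 : ∀ u < 85140, (fun u => chkFix tab mwords u) u = true := ext_range (a := 85054) (len := 86) h989 m2_989
  have h991 : ∀ u < 85226, (fun u => chkFix tab mwords u) u = true := ext_range (a := 85140) (len := 86) h990 m2_990
  have h992 : ∀ u < 85312, (fun u => chkFix tab mwords u) u = true := ext_range (a := 85226) (len := 86) h991 m2_991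
  have h993 : ∀ u < 85398, (fun u => chkFix tab mwords u) u = true := ext_range (a := 85312) (len := 86) h992 m2_992
  have h994 : ∀ u < 85484, (fun u => chkFix tab mwords u) u = true := ext_range (a := 85398) (len := 86) h993 m2_993
  have h995 : ∀ u < 85570, (fun u => chkFix tab mwords u) u = true := ext_range (a := 85484) (len := 86) h994 m2_994
  have h996 : ∀ u < 85656, (fun u => chkFix tab mwords u) u = true := ext_range (a := 85570) (len := 86) h995 m2_995
  have h997 : ∀ u < 85742, (fun u => chkFix tab mwords u) u = true := ext_range (a := 85656) (len := 86) h996 m2_996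
  have h998 : ∀ u < 85828, (fun u => chkFix tab mwords u) u = true := ext_range (a := 85742) (len := 86) h997 m2_997
  have h999 : ∀ u < 85914, (fun u => chkFix tab mwords u) u = true := ext_range (a := 85828) (len := 86) h998 m2_998
  have h1000 : ∀ u < 86000, (fun u => chkFix tab mwords u) u = true := ext_range (a := 85914) (len := 86) h999 m2_999
  have h1001 : ∀ u < 86086, (fun u => chkFix tab mwords u) u = true := ext_range (a := 86000) (len := 86) h1000 m2_1000
  have h1002 : ∀ u < 86172, (fun u => chkFix tab mwords u) u = true := ext_range (a := 86086) (len := 86) h1001 m2_1001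
  have h1003 : ∀ u < 86258, (fun u => chkFix tab mwords u) u = true := ext_range (a := 86172) (len := 86) h1002 m2_1002
  have h1004 : ∀ u < 86344, (fun u => chkFix tab mwords u) u = true := ext_range (a := 86258) (len := 86) h1003 m2_1003
  have h1005 : ∀ u < 86430, (fun u => chkFix tab mwords u) u = true := ext_range (a := 86344) (len := 86) h1004 m2_1004
  have h1006 : ∀ u < 86516, (fun u => chkFix tab mwords u) u = true := ext_range (a := 86430) (len := 86) h1005 m2_1005
  have h1007 : ∀ u < 86602, (fun u => chkFix tab mwords u) u = true := ext_range (a := 86516) (len := 86) h1006 m2_1006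
  have h1008 : ∀ u < 86688, (fun u => chkFix tab mwords u) u = true := ext_range (a := 86602) (len := 86) h1007 m2_1007
  have h1009 : ∀ u < 86774, (fun u => chkFix tab mwords u) u = true := ext_range (a := 86688) (len := 86) h1008 m2_1008
  have h1010 : ∀ u < 86860, (fun u => chkFix tab mwords u) u = true := ext_range (a := 86774) (len := 86) h1009 m2_1009
  have h1011 : ∀ u < 86946, (fun u => chkFix tab mwords u) u = true := ext_range (a := 86860) (len := 86) h1010 m2_1010
  have h1012 : ∀ u < 87032, (fun u => chkFix tab mwords u) u = true := ext_range (a := 86946) (len := 86) h1011 m2_1011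
  have h1013 : ∀ u < 87118, (fun u => chkFix tab mwords u) u = true := ext_range (a := 87032) (len := 86) h1012 m2_1012
  have h1014 : ∀ u < 87204, (fun u => chkFix tab mwords u) u = true := ext_range (a := 87118) (len := 86) h1013 m2_1013
  have h1015 : ∀ u < 87290, (fun u => chkFix tab mwords u) u = true := ext_range (a := 87204) (len := 86) h1014 m2_1014
  have h1016 : ∀ u < 87376, (fun u => chkFix tab mwords u) u = true := ext_range (a := 87290) (len := 86) h1015 m2_1015
  have h1017 : ∀ u < 87462, (fun u => chkFix tab mwords u) u = true := ext_range (a := 87376) (len := 86) h1016 m2_1016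
  have h1018 : ∀ u < 87548, (fun u => chkFix tab mwords u) u = true := ext_range (a := 87462) (len := 86) h1017 m2_1017
  have h1019 : ∀ u < 87634, (fun u => chkFix tab mwords u) u = true := ext_range (a := 87548) (len := 86) h1018 m2_1018
  have h1020 : ∀ u < 87720, (fun u => chkFix tab mwords u) u = true := ext_range (a := 87634) (len := 86) h1019 m2_1019
  have h1021 : ∀ u < 87806, (fun u => chkFix tab mwords u) u = true := ext_range (a := 87720) (len := 86) h1020 m2_1020
  have h1022 : ∀ u < 87892, (fun u => chkFix tab mwords u) u = true := ext_range (a := 87806) (len := 86) h1021 m2_1021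
  have h1023 : ∀ u < 87978, (fun u => chkFix tab mwords u) u = true := ext_range (a := 87892) (len := 86) h1022 m2_1022
  have h1024 : ∀ u < 88064, (fun u => chkFix tab mwords u) u = true := ext_range (a := 87978) (len := 86) h1023 m2_1023
  have h1025 : ∀ u < 88150, (fun u => chkFix tab mwords u) u = true := ext_range (a := 88064) (len := 86) h1024 m2_1024
  have h1026 : ∀ u < 88236, (fun u => chkFix tab mwords u) u = true := ext_range (a := 88150) (len := 86) h1025 m2_1025
  have h1027 : ∀ u < 88322, (fun u => chkFix tab mwords u) u = true := ext_range (a := 88236) (len := 86) h1026 m2_1026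
  have h1028 : ∀ u < 88408, (fun u => chkFix tab mwords u) u = true := ext_range (a := 88322) (len := 86) h1027 m2_1027
  have h1029 : ∀ u < 88494, (fun u => chkFix tab mwords u) u = true := ext_range (a := 88408) (len := 86) h1028 m2_1028
  have h1030 : ∀ u < 88580, (fun u => chkFix tab mwords u) u = true := ext_range (a := 88494) (len := 86) h1029 m2_1029
  have h1031 : ∀ u < 88666, (fun u => chkFix tab mwords u) u = true := ext_range (a := 88580) (len := 86) h1030 m2_1030
  have h1032 : ∀ u < 88752, (fun u => chkFix tab mwords u) u = true := ext_range (a := 88666) (len := 86) h1031 m2_1031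
  have h1033 : ∀ u < 88838, (fun u => chkFix tab mwords u) u = true := ext_range (a := 88752) (len := 86) h1032 m2_1032
  have h1034 : ∀ u < 88924, (fun u => chkFix tab mwords u) u = true := ext_range (a := 88838) (len := 86) h1033 m2_1033
  have h1035 : ∀ u < 89010, (fun u => chkFix tab mwords u) u = true := ext_range (a := 88924) (len := 86) h1034 m2_1034
  have h1036 : ∀ u < 89096, (fun u => chkFix tab mwords u) u = true := ext_range (a := 89010) (len := 86) h1035 m2_1035
  have h1037 : ∀ u < 89182, (fun u => chkFix tab mwords u) u = true := ext_range (a := 89096) (len := 86) h1036 m2_1036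
  have h1038 : ∀ u < 89268, (fun u => chkFix tab mwords u) u = true := ext_range (a := 89182) (len := 86) h1037 m2_1037
  have h1039 : ∀ u < 89354, (fun u => chkFix tab mwords u) u = true := ext_range (a := 89268) (len := 86) h1038 m2_1038
  have h1040 : ∀ u < 89440, (fun u => chkFix tab mwords u) u = true := ext_range (a := 89354) (len := 86) h1039 m2_1039
  have h1041 : ∀ u < 89526, (fun u => chkFix tab mwords u) u = true := ext_range (a := 89440) (len := 86) h1040 m2_1040
  have h1042 : ∀ u < 89612, (fun u => chkFix tab mwords u) u = true := ext_range (a := 89526) (len := 86) h1041 m2_1041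
  have h1043 : ∀ u < 89698, (fun u => chkFix tab mwords u) u = true := ext_range (a := 89612) (len := 86) h1042 m2_1042
  have h1044 : ∀ u < 89784, (fun u => chkFix tab mwords u) u = true := ext_range (a := 89698) (len := 86) h1043 m2_1043
  have h1045 : ∀ u < 89870, (fun u => chkFix tab mwords u) u = true := ext_range (a := 89784) (len := 86) h1044 m2_1044
  have h1046 : ∀ u < 89956, (fun u => chkFix tab mwords u) u = true := ext_range (a := 89870) (len := 86) h1045 m2_1045
  have h1047 : ∀ u < 90042, (fun u => chkFix tab mwords u) u = true := ext_range (a := 89956) (len := 86) h1046 m2_1046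
  have h1048 : ∀ u < 90128, (fun u => chkFix tab mwords u) u = true := ext_range (a := 90042) (len := 86) h1047 m2_1047
  have h1049 : ∀ u < 90214, (fun u => chkFix tab mwords u) u = true := ext_range (a := 90128) (len := 86) h1048 m2_1048
  have h1050 : ∀ u < 90300, (fun u => chkFix tab mwords u) u = true := ext_range (a := 90214) (len := 86) h1049 m2_1049
  have h1051 : ∀ u < 90386, (fun u => chkFix tab mwords u) u = true := ext_range (a := 90300) (len := 86) h1050 m2_1050
  have h1052 : ∀ u < 90472, (fun u => chkFix tab mwords u) u = true := ext_range (a := 90386) (len := 86) h1051 m2_1051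
  have h1053 : ∀ u < 90558, (fun u => chkFix tab mwords u) u = true := ext_range (a := 90472) (len := 86) h1052 m2_1052
  have h1054 : ∀ u < 90644, (fun u => chkFix tab mwords u) u = true := ext_range (a := 90558) (len := 86) h1053 m2_1053
  have h1055 : ∀ u < 90730, (fun u => chkFix tab mwords u) u = true := ext_range (a := 90644) (len := 86) h1054 m2_1054
  have h1056 : ∀ u < 90816, (fun u => chkFix tab mwords u) u = true := ext_range (a := 90730) (len := 86) h1055 m2_1055
  have h1057 : ∀ u < 90902, (fun u => chkFix tab mwords u) u = true := ext_range (a := 90816) (len := 86) h1056 m2_1056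
  have h1058 : ∀ u < 90988, (fun u => chkFix tab mwords u) u = true := ext_range (a := 90902) (len := 86) h1057 m2_1057
  have h1059 : ∀ u < 91074, (fun u => chkFix tab mwords u) u = true := ext_range (a := 90988) (len := 86) h1058 m2_1058
  have h1060 : ∀ u < 91160, (fun u => chkFix tab mwords u) u = true := ext_range (a := 91074) (len := 86) h1059 m2_1059
  have h1061 : ∀ u < 91246, (fun u => chkFix tab mwords u) u = true := ext_range (a := 91160) (len := 86) h1060 m2_1060
  have h1062 : ∀ u < 91332, (fun u => chkFix tab mwords u) u = true := ext_range (a := 91246) (len := 86) h1061 m2_1061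
  have h1063 : ∀ u < 91418, (fun u => chkFix tab mwords u) u = true := ext_range (a := 91332) (len := 86) h1062 m2_1062
  have h1064 : ∀ u < 91504, (fun u => chkFix tab mwords u) u = true := ext_range (a := 91418) (len := 86) h1063 m2_1063
  have h1065 : ∀ u < 91590, (fun u => chkFix tab mwords u) u = true := ext_range (a := 91504) (len := 86) h1064 m2_1064
  have h1066 : ∀ u < 91676, (fun u => chkFix tab mwords u) u = true := ext_range (a := 91590) (len := 86) h1065 m2_1065
  have h1067 : ∀ u < 91762, (fun u => chkFix tab mwords u) u = true := ext_range (a := 91676) (len := 86) h1066 m2_1066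
  have h1068 : ∀ u < 91848, (fun u => chkFix tab mwords u) u = true := ext_range (a := 91762) (len := 86) h1067 m2_1067
  have h1069 : ∀ u < 91934, (fun u => chkFix tab mwords u) u = true := ext_range (a := 91848) (len := 86) h1068 m2_1068
  have h1070 : ∀ u < 92020, (fun u => chkFix tab mwords u) u = true := ext_range (a := 91934) (len := 86) h1069 m2_1069
  have h1071 : ∀ u < 92106, (fun u => chkFix tab mwords u) u = true := ext_range (a := 92020) (len := 86) h1070 m2_1070
  have h1072 : ∀ u < 92192, (fun u => chkFix tab mwords u) u = true := ext_range (a := 92106) (len := 86) h1071 m2_1071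
  have h1073 : ∀ u < 92278, (fun u => chkFix tab mwords u) u = true := ext_range (a := 92192) (len := 86) h1072 m2_1072
  have h1074 : ∀ u < 92364, (fun u => chkFix tab mwords u) u = true := ext_range (a := 92278) (len := 86) h1073 m2_1073
  have h1075 : ∀ u < 92450, (fun u => chkFix tab mwords u) u = true := ext_range (a := 92364) (len := 86) h1074 m2_1074
  have h1076 : ∀ u < 92536, (fun u => chkFix tab mwords u) u = true := ext_range (a := 92450) (len := 86) h1075 m2_1075
  have h1077 : ∀ u < 92622, (fun u => chkFix tab mwords u) u = true := ext_range (a := 92536) (len := 86) h1076 m2_1076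
  have h1078 : ∀ u < 92708, (fun u => chkFix tab mwords u) u = true := ext_range (a := 92622) (len := 86) h1077 m2_1077
  have h1079 : ∀ u < 92794, (fun u => chkFix tab mwords u) u = true := ext_range (a := 92708) (len := 86) h1078 m2_1078
  have h1080 : ∀ u < 92880, (fun u => chkFix tab mwords u) u = true := ext_range (a := 92794) (len := 86) h1079 m2_1079
  have h1081 : ∀ u < 92966, (fun u => chkFix tab mwords u) u = true := ext_range (a := 92880) (len := 86) h1080 m2_1080
  have h1082 : ∀ u < 93052, (fun u => chkFix tab mwords u) u = true := ext_range (a := 92966) (len := 86) h1081 m2_1081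
  have h1083 : ∀ u < 93138, (fun u => chkFix tab mwords u) u = true := ext_range (a := 93052) (len := 86) h1082 m2_1082
  have h1084 : ∀ u < 93224, (fun u => chkFix tab mwords u) u = true := ext_range (a := 93138) (len := 86) h1083 m2_1083
  have h1085 : ∀ u < 93310, (fun u => chkFix tab mwords u) u = true := ext_range (a := 93224) (len := 86) h1084 m2_1084
  have h1086 : ∀ u < 93396, (fun u => chkFix tab mwords u) u = true := ext_range (a := 93310) (len := 86) h1085 m2_1085
  have h1087 : ∀ u < 93482, (fun u => chkFix tab mwords u) u = true := ext_range (a := 93396) (len := 86) h1086 m2_1086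
  have h1088 : ∀ u < 93568, (fun u => chkFix tab mwords u) u = true := ext_range (a := 93482) (len := 86) h1087 m2_1087
  have h1089 : ∀ u < 93654, (fun u => chkFix tab mwords u) u = true := ext_range (a := 93568) (len := 86) h1088 m2_1088
  have h1090 : ∀ u < 93740, (fun u => chkFix tab mwords u) u = true := ext_range (a := 93654) (len := 86) h1089 m2_1089
  have h1091 : ∀ u < 93826, (fun u => chkFix tab mwords u) u = true := ext_range (a := 93740) (len := 86) h1090 m2_1090
  have h1092 : ∀ u < 93912, (fun u => chkFix tab mwords u) u = true := ext_range (a := 93826) (len := 86) h1091 m2_1091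
  have h1093 : ∀ u < 93998, (fun u => chkFix tab mwords u) u = true := ext_range (a := 93912) (len := 86) h1092 m2_1092
  have h1094 : ∀ u < 94084, (fun u => chkFix tab mwords u) u = true := ext_range (a := 93998) (len := 86) h1093 m2_1093
  have h1095 : ∀ u < 94170, (fun u => chkFix tab mwords u) u = true := ext_range (a := 94084) (len := 86) h1094 m2_1094
  have h1096 : ∀ u < 94256, (fun u => chkFix tab mwords u) u = true := ext_range (a := 94170) (len := 86) h1095 m2_1095
  have h1097 : ∀ u < 94342, (fun u => chkFix tab mwords u) u = true := ext_range (a := 94256) (len := 86) h1096 m2_1096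
  have h1098 : ∀ u < 94428, (fun u => chkFix tab mwords u) u = true := ext_range (a := 94342) (len := 86) h1097 m2_1097
  have h1099 : ∀ u < 94514, (fun u => chkFix tab mwords u) u = true := ext_range (a := 94428) (len := 86) h1098 m2_1098
  have h1100 : ∀ u < 94600, (fun u => chkFix tab mwords u) u = true := ext_range (a := 94514) (len := 86) h1099 m2_1099
  have h1101 : ∀ u < 94686, (fun u => chkFix tab mwords u) u = true := ext_range (a := 94600) (len := 86) h1100 m2_1100
  have h1102 : ∀ u < 94772, (fun u => chkFix tab mwords u) u = true := ext_range (a := 94686) (len := 86) h1101 m2_1101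
  have h1103 : ∀ u < 94858, (fun u => chkFix tab mwords u) u = true := ext_range (a := 94772) (len := 86) h1102 m2_1102
  have h1104 : ∀ u < 94944, (fun u => chkFix tab mwords u) u = true := ext_range (a := 94858) (len := 86) h1103 m2_1103
  have h1105 : ∀ u < 95030, (fun u => chkFix tab mwords u) u = true := ext_range (a := 94944) (len := 86) h1104 m2_1104
  have h1106 : ∀ u < 95116, (fun u => chkFix tab mwords u) u = true := ext_range (a := 95030) (len := 86) h1105 m2_1105
  have h1107 : ∀ u < 95202, (fun u => chkFix tab mwords u) u = true := ext_range (a := 95116) (len := 86) h1106 m2_1106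
  have h1108 : ∀ u < 95288, (fun u => chkFix tab mwords u) u = true := ext_range (a := 95202) (len := 86) h1107 m2_1107
  have h1109 : ∀ u < 95374, (fun u => chkFix tab mwords u) u = true := ext_range (a := 95288) (len := 86) h1108 m2_1108
  have h1110 : ∀ u < 95460, (fun u => chkFix tab mwords u) u = true := ext_range (a := 95374) (len := 86) h1109 m2_1109
  have h1111 : ∀ u < 95546, (fun u => chkFix tab mwords u) u = true := ext_range (a := 95460) (len := 86) h1110 m2_1110
  have h1112 : ∀ u < 95632, (fun u => chkFix tab mwords u) u = true := ext_range (a := 95546) (len := 86) h1111 m2_1111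
  have h1113 : ∀ u < 95718, (fun u => chkFix tab mwords u) u = true := ext_range (a := 95632) (len := 86) h1112 m2_1112
  have h1114 : ∀ u < 95804, (fun u => chkFix tab mwords u) u = true := ext_range (a := 95718) (len := 86) h1113 m2_1113
  have h1115 : ∀ u < 95890, (fun u => chkFix tab mwords u) u = true := ext_range (a := 95804) (len := 86) h1114 m2_1114
  have h1116 : ∀ u < 95976, (fun u => chkFix tab mwords u) u = true := ext_range (a := 95890) (len := 86) h1115 m2_1115
  have h1117 : ∀ u < 96062, (fun u => chkFix tab mwords u) u = true := ext_range (a := 95976) (len := 86) h1116 m2_1116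
  have h1118 : ∀ u < 96148, (fun u => chkFix tab mwords u) u = true := ext_range (a := 96062) (len := 86) h1117 m2_1117
  have h1119 : ∀ u < 96234, (fun u => chkFix tab mwords u) u = true := ext_range (a := 96148) (len := 86) h1118 m2_1118
  have h1120 : ∀ u < 96320, (fun u => chkFix tab mwords u) u = true := ext_range (a := 96234) (len := 86) h1119 m2_1119
  have h1121 : ∀ u < 96406, (fun u => chkFix tab mwords u) u = true := ext_range (a := 96320) (len := 86) h1120 m2_1120
  have h1122 : ∀ u < 96492, (fun u => chkFix tab mwords u) u = true := ext_range (a := 96406) (len := 86) h1121 m2_1121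
  have h1123 : ∀ u < 96578, (fun u => chkFix tab mwords u) u = true := ext_range (a := 96492) (len := 86) h1122 m2_1122
  have h1124 : ∀ u < 96664, (fun u => chkFix tab mwords u) u = true := ext_range (a := 96578) (len := 86) h1123 m2_1123
  have h1125 : ∀ u < 96750, (fun u => chkFix tab mwords u) u = true := ext_range (a := 96664) (len := 86) h1124 m2_1124
  have h1126 : ∀ u < 96836, (fun u => chkFix tab mwords u) u = true := ext_range (a := 96750) (len := 86) h1125 m2_1125
  have h1127 : ∀ u < 96922, (fun u => chkFix tab mwords u) u = true := ext_range (a := 96836) (len := 86) h1126 m2_1126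
  have h1128 : ∀ u < 97008, (fun u => chkFix tab mwords u) u = true := ext_range (a := 96922) (len := 86) h1127 m2_1127
  have h1129 : ∀ u < 97094, (fun u => chkFix tab mwords u) u = true := ext_range (a := 97008) (len := 86) h1128 m2_1128
  have h1130 : ∀ u < 97180, (fun u => chkFix tab mwords u) u = true := ext_range (a := 97094) (len := 86) h1129 m2_1129
  have h1131 : ∀ u < 97266, (fun u => chkFix tab mwords u) u = true := ext_range (a := 97180) (len := 86) h1130 m2_1130
  have h1132 : ∀ u < 97352, (fun u => chkFix tab mwords u) u = true := ext_range (a := 97266) (len := 86) h1131 m2_1131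
  have h1133 : ∀ u < 97438, (fun u => chkFix tab mwords u) u = true := ext_range (a := 97352) (len := 86) h1132 m2_1132
  have h1134 : ∀ u < 97524, (fun u => chkFix tab mwords u) u = true := ext_range (a := 97438) (len := 86) h1133 m2_1133
  have h1135 : ∀ u < 97610, (fun u => chkFix tab mwords u) u = true := ext_range (a := 97524) (len := 86) h1134 m2_1134
  have h1136 : ∀ u < 97696, (fun u => chkFix tab mwords u) u = true := ext_range (a := 97610) (len := 86) h1135 m2_1135
  have h1137 : ∀ u < 97782, (fun u => chkFix tab mwords u) u = true := ext_range (a := 97696) (len := 86) h1136 m2_1136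
  have h1138 : ∀ u < 97868, (fun u => chkFix tab mwords u) u = true := ext_range (a := 97782) (len := 86) h1137 m2_1137
  have h1139 : ∀ u < 97954, (fun u => chkFix tab mwords u) u = true := ext_range (a := 97868) (len := 86) h1138 m2_1138
  have h1140 : ∀ u < 98040, (fun u => chkFix tab mwords u) u = true := ext_range (a := 97954) (len := 86) h1139 m2_1139
  have h1141 : ∀ u < 98126, (fun u => chkFix tab mwords u) u = true := ext_range (a := 98040) (len := 86) h1140 m2_1140
  have h1142 : ∀ u < 98212, (fun u => chkFix tab mwords u) u = true := ext_range (a := 98126) (len := 86) h1141 m2_1141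
  have h1143 : ∀ u < 98298, (fun u => chkFix tab mwords u) u = true := ext_range (a := 98212) (len := 86) h1142 m2_1142
  have h1144 : ∀ u < 98384, (fun u => chkFix tab mwords u) u = true := ext_range (a := 98298) (len := 86) h1143 m2_1143
  have h1145 : ∀ u < 98470, (fun u => chkFix tab mwords u) u = true := ext_range (a := 98384) (len := 86) h1144 m2_1144
  have h1146 : ∀ u < 98556, (fun u => chkFix tab mwords u) u = true := ext_range (a := 98470) (len := 86) h1145 m2_1145
  have h1147 : ∀ u < 98642, (fun u => chkFix tab mwords u) u = true := ext_range (a := 98556) (len := 86) h1146 m2_1146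
  have h1148 : ∀ u < 98728, (fun u => chkFix tab mwords u) u = true := ext_range (a := 98642) (len := 86) h1147 m2_1147
  have h1149 : ∀ u < 98814, (fun u => chkFix tab mwords u) u = true := ext_range (a := 98728) (len := 86) h1148 m2_1148
  have h1150 : ∀ u < 98900, (fun u => chkFix tab mwords u) u = true := ext_range (a := 98814) (len := 86) h1149 m2_1149
  have h1151 : ∀ u < 98986, (fun u => chkFix tab mwords u) u = true := ext_range (a := 98900) (len := 86) h1150 m2_1150
  have h1152 : ∀ u < 99072, (fun u => chkFix tab mwords u) u = true := ext_range (a := 98986) (len := 86) h1151 m2_1151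
  have h1153 : ∀ u < 99158, (fun u => chkFix tab mwords u) u = true := ext_range (a := 99072) (len := 86) h1152 m2_1152
  have h1154 : ∀ u < 99244, (fun u => chkFix tab mwords u) u = true := ext_range (a := 99158) (len := 86) h1153 m2_1153
  have h1155 : ∀ u < 99330, (fun u => chkFix tab mwords u) u = true := ext_range (a := 99244) (len := 86) h1154 m2_1154
  have h1156 : ∀ u < 99416, (fun u => chkFix tab mwords u) u = true := ext_range (a := 99330) (len := 86) h1155 m2_1155
  have h1157 : ∀ u < 99502, (fun u => chkFix tab mwords u) u = true := ext_range (a := 99416) (len := 86) h1156 m2_1156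
  have h1158 : ∀ u < 99588, (fun u => chkFix tab mwords u) u = true := ext_range (a := 99502) (len := 86) h1157 m2_1157
  have h1159 : ∀ u < 99674, (fun u => chkFix tab mwords u) u = true := ext_range (a := 99588) (len := 86) h1158 m2_1158
  have h1160 : ∀ u < 99760, (fun u => chkFix tab mwords u) u = true := ext_range (a := 99674) (len := 86) h1159 m2_1159
  have h1161 : ∀ u < 99846, (fun u => chkFix tab mwords u) u = true := ext_range (a := 99760) (len := 86) h1160 m2_1160
  have h1162 : ∀ u < 99932, (fun u => chkFix tab mwords u) u = true := ext_range (a := 99846) (len := 86) h1161 m2_1161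
  have h1163 : ∀ u < 100018, (fun u => chkFix tab mwords u) u = true := ext_range (a := 99932) (len := 86) h1162 m2_1162
  have h1164 : ∀ u < 100104, (fun u => chkFix tab mwords u) u = true := ext_range (a := 100018) (len := 86) h1163 m2_1163
  have h1165 : ∀ u < 100190, (fun u => chkFix tab mwords u) u = true := ext_range (a := 100104) (len := 86) h1164 m2_1164
  have h1166 : ∀ u < 100276, (fun u => chkFix tab mwords u) u = true := ext_range (a := 100190) (len := 86) h1165 m2_1165
  have h1167 : ∀ u < 100362, (fun u => chkFix tab mwords u) u = true := ext_range (a := 100276) (len := 86) h1166 m2_1166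
  have h1168 : ∀ u < 100448, (fun u => chkFix tab mwords u) u = true := ext_range (a := 100362) (len := 86) h1167 m2_1167
  have h1169 : ∀ u < 100534, (fun u => chkFix tab mwords u) u = true := ext_range (a := 100448) (len := 86) h1168 m2_1168
  have h1170 : ∀ u < 100620, (fun u => chkFix tab mwords u) u = true := ext_range (a := 100534) (len := 86) h1169 m2_1169
  have h1171 : ∀ u < 100706, (fun u => chkFix tab mwords u) u = true := ext_range (a := 100620) (len := 86) h1170 m2_1170
  have h1172 : ∀ u < 100792, (fun u => chkFix tab mwords u) u = true := ext_range (a := 100706) (len := 86) h1171 m2_1171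
  have h1173 : ∀ u < 100878, (fun u => chkFix tab mwords u) u = true := ext_range (a := 100792) (len := 86) h1172 m2_1172
  have h1174 : ∀ u < 100964, (fun u => chkFix tab mwords u) u = true := ext_range (a := 100878) (len := 86) h1173 m2_1173
  have h1175 : ∀ u < 101050, (fun u => chkFix tab mwords u) u = true := ext_range (a := 100964) (len := 86) h1174 m2_1174
  have h1176 : ∀ u < 101136, (fun u => chkFix tab mwords u) u = true := ext_range (a := 101050) (len := 86) h1175 m2_1175
  have h1177 : ∀ u < 101222, (fun u => chkFix tab mwords u) u = true := ext_range (a := 101136) (len := 86) h1176 m2_1176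
  have h1178 : ∀ u < 101308, (fun u => chkFix tab mwords u) u = true := ext_range (a := 101222) (len := 86) h1177 m2_1177
  have h1179 : ∀ u < 101394, (fun u => chkFix tab mwords u) u = true := ext_range (a := 101308) (len := 86) h1178 m2_1178
  have h1180 : ∀ u < 101480, (fun u => chkFix tab mwords u) u = true := ext_range (a := 101394) (len := 86) h1179 m2_1179
  have h1181 : ∀ u < 101566, (fun u => chkFix tab mwords u) u = true := ext_range (a := 101480) (len := 86) h1180 m2_1180
  have h1182 : ∀ u < 101652, (fun u => chkFix tab mwords u) u = true := ext_range (a := 101566) (len := 86) h1181 m2_1181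
  have h1183 : ∀ u < 101738, (fun u => chkFix tab mwords u) u = true := ext_range (a := 101652) (len := 86) h1182 m2_1182
  have h1184 : ∀ u < 101824, (fun u => chkFix tab mwords u) u = true := ext_range (a := 101738) (len := 86) h1183 m2_1183
  have h1185 : ∀ u < 101910, (fun u => chkFix tab mwords u) u = true := ext_range (a := 101824) (len := 86) h1184 m2_1184
  have h1186 : ∀ u < 101996, (fun u => chkFix tab mwords u) u = true := ext_range (a := 101910) (len := 86) h1185 m2_1185
  have h1187 : ∀ u < 102082, (fun u => chkFix tab mwords u) u = true := ext_range (a := 101996) (len := 86) h1186 m2_1186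
  have h1188 : ∀ u < 102168, (fun u => chkFix tab mwords u) u = true := ext_range (a := 102082) (len := 86) h1187 m2_1187
  have h1189 : ∀ u < 102254, (fun u => chkFix tab mwords u) u = true := ext_range (a := 102168) (len := 86) h1188 m2_1188
  have h1190 : ∀ u < 102340, (fun u => chkFix tab mwords u) u = true := ext_range (a := 102254) (len := 86) h1189 m2_1189
  have h1191 : ∀ u < 102426, (fun u => chkFix tab mwords u) u = true := ext_range (a := 102340) (len := 86) h1190 m2_1190
  have h1192 : ∀ u < 102512, (fun u => chkFix tab mwords u) u = true := ext_range (a := 102426) (len := 86) h1191 m2_1191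
  have h1193 : ∀ u < 102598, (fun u => chkFix tab mwords u) u = true := ext_range (a := 102512) (len := 86) h1192 m2_1192
  have h1194 : ∀ u < 102684, (fun u => chkFix tab mwords u) u = true := ext_range (a := 102598) (len := 86) h1193 m2_1193
  have h1195 : ∀ u < 102770, (fun u => chkFix tab mwords u) u = true := ext_range (a := 102684) (len := 86) h1194 m2_1194
  have h1196 : ∀ u < 102856, (fun u => chkFix tab mwords u) u = true := ext_range (a := 102770) (len := 86) h1195 m2_1195
  have h1197 : ∀ u < 102942, (fun u => chkFix tab mwords u) u = true := ext_range (a := 102856) (len := 86) h1196 m2_1196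
  have h1198 : ∀ u < 103028, (fun u => chkFix tab mwords u) u = true := ext_range (a := 102942) (len := 86) h1197 m2_1197
  have h1199 : ∀ u < 103114, (fun u => chkFix tab mwords u) u = true := ext_range (a := 103028) (len := 86) h1198 m2_1198
  have h1200 : ∀ u < 103200, (fun u => chkFix tab mwords u) u = true := ext_range (a := 103114) (len := 86) h1199 m2_1199
  have h1201 : ∀ u < 103286, (fun u => chkFix tab mwords u) u = true := ext_range (a := 103200) (len := 86) h1200 m2_1200
  have h1202 : ∀ u < 103372, (fun u => chkFix tab mwords u) u = true := ext_range (a := 103286) (len := 86) h1201 m2_1201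
  have h1203 : ∀ u < 103458, (fun u => chkFix tab mwords u) u = true := ext_range (a := 103372) (len := 86) h1202 m2_1202
  have h1204 : ∀ u < 103544, (fun u => chkFix tab mwords u) u = true := ext_range (a := 103458) (len := 86) h1203 m2_1203
  have h1205 : ∀ u < 103630, (fun u => chkFix tab mwords u) u = true := ext_range (a := 103544) (len := 86) h1204 m2_1204
  have h1206 : ∀ u < 103716, (fun u => chkFix tab mwords u) u = true := ext_range (a := 103630) (len := 86) h1205 m2_1205
  have h1207 : ∀ u < 103802, (fun u => chkFix tab mwords u) u = true := ext_range (a := 103716) (len := 86) h1206 m2_1206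
  have h1208 : ∀ u < 103888, (fun u => chkFix tab mwords u) u = true := ext_range (a := 103802) (len := 86) h1207 m2_1207
  have h1209 : ∀ u < 103974, (fun u => chkFix tab mwords u) u = true := ext_range (a := 103888) (len := 86) h1208 m2_1208
  have h1210 : ∀ u < 104060, (fun u => chkFix tab mwords u) u = true := ext_range (a := 103974) (len := 86) h1209 m2_1209
  have h1211 : ∀ u < 104146, (fun u => chkFix tab mwords u) u = true := ext_range (a := 104060) (len := 86) h1210 m2_1210
  have h1212 : ∀ u < 104232, (fun u => chkFix tab mwords u) u = true := ext_range (a := 104146) (len := 86) h1211 m2_1211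
  have h1213 : ∀ u < 104318, (fun u => chkFix tab mwords u) u = true := ext_range (a := 104232) (len := 86) h1212 m2_1212
  have h1214 : ∀ u < 104404, (fun u => chkFix tab mwords u) u = true := ext_range (a := 104318) (len := 86) h1213 m2_1213
  have h1215 : ∀ u < 104490, (fun u => chkFix tab mwords u) u = true := ext_range (a := 104404) (len := 86) h1214 m2_1214
  have h1216 : ∀ u < 104576, (fun u => chkFix tab mwords u) u = true := ext_range (a := 104490) (len := 86) h1215 m2_1215
  have h1217 : ∀ u < 104662, (fun u => chkFix tab mwords u) u = true := ext_range (a := 104576) (len := 86) h1216 m2_1216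
  have h1218 : ∀ u < 104748, (fun u => chkFix tab mwords u) u = true := ext_range (a := 104662) (len := 86) h1217 m2_1217
  have h1219 : ∀ u < 104834, (fun u => chkFix tab mwords u) u = true := ext_range (a := 104748) (len := 86) h1218 m2_1218
  have h1220 : ∀ u < 104920, (fun u => chkFix tab mwords u) u = true := ext_range (a := 104834) (len := 86) h1219 m2_1219
  have h1221 : ∀ u < 105006, (fun u => chkFix tab mwords u) u = true := ext_range (a := 104920) (len := 86) h1220 m2_1220
  have h1222 : ∀ u < 105092, (fun u => chkFix tab mwords u) u = true := ext_range (a := 105006) (len := 86) h1221 m2_1221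
  have h1223 : ∀ u < 105178, (fun u => chkFix tab mwords u) u = true := ext_range (a := 105092) (len := 86) h1222 m2_1222
  have h1224 : ∀ u < 105264, (fun u => chkFix tab mwords u) u = true := ext_range (a := 105178) (len := 86) h1223 m2_1223
  have h1225 : ∀ u < 105350, (fun u => chkFix tab mwords u) u = true := ext_range (a := 105264) (len := 86) h1224 m2_1224
  have h1226 : ∀ u < 105436, (fun u => chkFix tab mwords u) u = true := ext_range (a := 105350) (len := 86) h1225 m2_1225
  have h1227 : ∀ u < 105522, (fun u => chkFix tab mwords u) u = true := ext_range (a := 105436) (len := 86) h1226 m2_1226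
  have h1228 : ∀ u < 105608, (fun u => chkFix tab mwords u) u = true := ext_range (a := 105522) (len := 86) h1227 m2_1227
  have h1229 : ∀ u < 105694, (fun u => chkFix tab mwords u) u = true := ext_range (a := 105608) (len := 86) h1228 m2_1228
  have h1230 : ∀ u < 105780, (fun u => chkFix tab mwords u) u = true := ext_range (a := 105694) (len := 86) h1229 m2_1229
  have h1231 : ∀ u < 105866, (fun u => chkFix tab mwords u) u = true := ext_range (a := 105780) (len := 86) h1230 m2_1230
  have h1232 : ∀ u < 105952, (fun u => chkFix tab mwords u) u = true := ext_range (a := 105866) (len := 86) h1231 m2_1231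
  have h1233 : ∀ u < 106038, (fun u => chkFix tab mwords u) u = true := ext_range (a := 105952) (len := 86) h1232 m2_1232
  have h1234 : ∀ u < 106124, (fun u => chkFix tab mwords u) u = true := ext_range (a := 106038) (len := 86) h1233 m2_1233
  have h1235 : ∀ u < 106210, (fun u => chkFix tab mwords u) u = true := ext_range (a := 106124) (len := 86) h1234 m2_1234
  have h1236 : ∀ u < 106296, (fun u => chkFix tab mwords u) u = true := ext_range (a := 106210) (len := 86) h1235 m2_1235
  have h1237 : ∀ u < 106382, (fun u => chkFix tab mwords u) u = true := ext_range (a := 106296) (len := 86) h1236 m2_1236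
  have h1238 : ∀ u < 106468, (fun u => chkFix tab mwords u) u = true := ext_range (a := 106382) (len := 86) h1237 m2_1237
  have h1239 : ∀ u < 106554, (fun u => chkFix tab mwords u) u = true := ext_range (a := 106468) (len := 86) h1238 m2_1238
  have h1240 : ∀ u < 106640, (fun u => chkFix tab mwords u) u = true := ext_range (a := 106554) (len := 86) h1239 m2_1239
  have h1241 : ∀ u < 106726, (fun u => chkFix tab mwords u) u = true := ext_range (a := 106640) (len := 86) h1240 m2_1240
  have h1242 : ∀ u < 106812, (fun u => chkFix tab mwords u) u = true := ext_range (a := 106726) (len := 86) h1241 m2_1241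
  have h1243 : ∀ u < 106898, (fun u => chkFix tab mwords u) u = true := ext_range (a := 106812) (len := 86) h1242 m2_1242
  have h1244 : ∀ u < 106984, (fun u => chkFix tab mwords u) u = true := ext_range (a := 106898) (len := 86) h1243 m2_1243
  have h1245 : ∀ u < 107070, (fun u => chkFix tab mwords u) u = true := ext_range (a := 106984) (len := 86) h1244 m2_1244
  have h1246 : ∀ u < 107156, (fun u => chkFix tab mwords u) u = true := ext_range (a := 107070) (len := 86) h1245 m2_1245
  have h1247 : ∀ u < 107242, (fun u => chkFix tab mwords u) u = true := ext_range (a := 107156) (len := 86) h1246 m2_1246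
  have h1248 : ∀ u < 107328, (fun u => chkFix tab mwords u) u = true := ext_range (a := 107242) (len := 86) h1247 m2_1247
  have h1249 : ∀ u < 107414, (fun u => chkFix tab mwords u) u = true := ext_range (a := 107328) (len := 86) h1248 m2_1248
  have h1250 : ∀ u < 107500, (fun u => chkFix tab mwords u) u = true := ext_range (a := 107414) (len := 86) h1249 m2_1249
  have h1251 : ∀ u < 107586, (fun u => chkFix tab mwords u) u = true := ext_range (a := 107500) (len := 86) h1250 m2_1250
  have h1252 : ∀ u < 107672, (fun u => chkFix tab mwords u) u = true := ext_range (a := 107586) (len := 86) h1251 m2_1251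
  have h1253 : ∀ u < 107758, (fun u => chkFix tab mwords u) u = true := ext_range (a := 107672) (len := 86) h1252 m2_1252
  have h1254 : ∀ u < 107844, (fun u => chkFix tab mwords u) u = true := ext_range (a := 107758) (len := 86) h1253 m2_1253
  have h1255 : ∀ u < 107930, (fun u => chkFix tab mwords u) u = true := ext_range (a := 107844) (len := 86) h1254 m2_1254
  have h1256 : ∀ u < 108016, (fun u => chkFix tab mwords u) u = true := ext_range (a := 107930) (len := 86) h1255 m2_1255
  have h1257 : ∀ u < 108102, (fun u => chkFix tab mwords u) u = true := ext_range (a := 108016) (len := 86) h1256 m2_1256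
  have h1258 : ∀ u < 108188, (fun u => chkFix tab mwords u) u = true := ext_range (a := 108102) (len := 86) h1257 m2_1257
  have h1259 : ∀ u < 108274, (fun u => chkFix tab mwords u) u = true := ext_range (a := 108188) (len := 86) h1258 m2_1258
  have h1260 : ∀ u < 108360, (fun u => chkFix tab mwords u) u = true := ext_range (a := 108274) (len := 86) h1259 m2_1259
  have h1261 : ∀ u < 108446, (fun u => chkFix tab mwords u) u = true := ext_range (a := 108360) (len := 86) h1260 m2_1260
  have h1262 : ∀ u < 108532, (fun u => chkFix tab mwords u) u = true := ext_range (a := 108446) (len := 86) h1261 m2_1261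
  have h1263 : ∀ u < 108618, (fun u => chkFix tab mwords u) u = true := ext_range (a := 108532) (len := 86) h1262 m2_1262
  have h1264 : ∀ u < 108704, (fun u => chkFix tab mwords u) u = true := ext_range (a := 108618) (len := 86) h1263 m2_1263
  have h1265 : ∀ u < 108790, (fun u => chkFix tab mwords u) u = true := ext_range (a := 108704) (len := 86) h1264 m2_1264
  have h1266 : ∀ u < 108876, (fun u => chkFix tab mwords u) u = true := ext_range (a := 108790) (len := 86) h1265 m2_1265
  have h1267 : ∀ u < 108962, (fun u => chkFix tab mwords u) u = true := ext_range (a := 108876) (len := 86) h1266 m2_1266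
  have h1268 : ∀ u < 109048, (fun u => chkFix tab mwords u) u = true := ext_range (a := 108962) (len := 86) h1267 m2_1267
  have h1269 : ∀ u < 109134, (fun u => chkFix tab mwords u) u = true := ext_range (a := 109048) (len := 86) h1268 m2_1268
  have h1270 : ∀ u < 109220, (fun u => chkFix tab mwords u) u = true := ext_range (a := 109134) (len := 86) h1269 m2_1269
  have h1271 : ∀ u < 109306, (fun u => chkFix tab mwords u) u = true := ext_range (a := 109220) (len := 86) h1270 m2_1270
  have h1272 : ∀ u < 109392, (fun u => chkFix tab mwords u) u = true := ext_range (a := 109306) (len := 86) h1271 m2_1271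
  have h1273 : ∀ u < 109478, (fun u => chkFix tab mwords u) u = true := ext_range (a := 109392) (len := 86) h1272 m2_1272
  have h1274 : ∀ u < 109564, (fun u => chkFix tab mwords u) u = true := ext_range (a := 109478) (len := 86) h1273 m2_1273
  have h1275 : ∀ u < 109650, (fun u => chkFix tab mwords u) u = true := ext_range (a := 109564) (len := 86) h1274 m2_1274
  have h1276 : ∀ u < 109736, (fun u => chkFix tab mwords u) u = true := ext_range (a := 109650) (len := 86) h1275 m2_1275
  have h1277 : ∀ u < 109822, (fun u => chkFix tab mwords u) u = true := ext_range (a := 109736) (len := 86) h1276 m2_1276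
  have h1278 : ∀ u < 109908, (fun u => chkFix tab mwords u) u = true := ext_range (a := 109822) (len := 86) h1277 m2_1277
  have h1279 : ∀ u < 109994, (fun u => chkFix tab mwords u) u = true := ext_range (a := 109908) (len := 86) h1278 m2_1278
  have h1280 : ∀ u < 110080, (fun u => chkFix tab mwords u) u = true := ext_range (a := 109994) (len := 86) h1279 m2_1279
  have h1281 : ∀ u < 110166, (fun u => chkFix tab mwords u) u = true := ext_range (a := 110080) (len := 86) h1280 m2_1280
  have h1282 : ∀ u < 110252, (fun u => chkFix tab mwords u) u = true := ext_range (a := 110166) (len := 86) h1281 m2_1281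
  have h1283 : ∀ u < 110338, (fun u => chkFix tab mwords u) u = true := ext_range (a := 110252) (len := 86) h1282 m2_1282
  have h1284 : ∀ u < 110424, (fun u => chkFix tab mwords u) u = true := ext_range (a := 110338) (len := 86) h1283 m2_1283
  have h1285 : ∀ u < 110510, (fun u => chkFix tab mwords u) u = true := ext_range (a := 110424) (len := 86) h1284 m2_1284
  have h1286 : ∀ u < 110596, (fun u => chkFix tab mwords u) u = true := ext_range (a := 110510) (len := 86) h1285 m2_1285
  have h1287 : ∀ u < 110682, (fun u => chkFix tab mwords u) u = true := ext_range (a := 110596) (len := 86) h1286 m2_1286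
  have h1288 : ∀ u < 110768, (fun u => chkFix tab mwords u) u = true := ext_range (a := 110682) (len := 86) h1287 m2_1287
  have h1289 : ∀ u < 110854, (fun u => chkFix tab mwords u) u = true := ext_range (a := 110768) (len := 86) h1288 m2_1288
  have h1290 : ∀ u < 110940, (fun u => chkFix tab mwords u) u = true := ext_range (a := 110854) (len := 86) h1289 m2_1289
  have h1291 : ∀ u < 111026, (fun u => chkFix tab mwords u) u = true := ext_range (a := 110940) (len := 86) h1290 m2_1290
  have h1292 : ∀ u < 111112, (fun u => chkFix tab mwords u) u = true := ext_range (a := 111026) (len := 86) h1291 m2_1291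
  have h1293 : ∀ u < 111198, (fun u => chkFix tab mwords u) u = true := ext_range (a := 111112) (len := 86) h1292 m2_1292
  have h1294 : ∀ u < 111284, (fun u => chkFix tab mwords u) u = true := ext_range (a := 111198) (len := 86) h1293 m2_1293
  have h1295 : ∀ u < 111370, (fun u => chkFix tab mwords u) u = true := ext_range (a := 111284) (len := 86) h1294 m2_1294
  have h1296 : ∀ u < 111456, (fun u => chkFix tab mwords u) u = true := ext_range (a := 111370) (len := 86) h1295 m2_1295
  have h1297 : ∀ u < 111542, (fun u => chkFix tab mwords u) u = true := ext_range (a := 111456) (len := 86) h1296 m2_1296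
  have h1298 : ∀ u < 111628, (fun u => chkFix tab mwords u) u = true := ext_range (a := 111542) (len := 86) h1297 m2_1297
  have h1299 : ∀ u < 111714, (fun u => chkFix tab mwords u) u = true := ext_range (a := 111628) (len := 86) h1298 m2_1298
  have h1300 : ∀ u < 111800, (fun u => chkFix tab mwords u) u = true := ext_range (a := 111714) (len := 86) h1299 m2_1299
  have h1301 : ∀ u < 111886, (fun u => chkFix tab mwords u) u = true := ext_range (a := 111800) (len := 86) h1300 m2_1300
  have h1302 : ∀ u < 111972, (fun u => chkFix tab mwords u) u = true := ext_range (a := 111886) (len := 86) h1301 m2_1301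
  have h1303 : ∀ u < 112058, (fun u => chkFix tab mwords u) u = true := ext_range (a := 111972) (len := 86) h1302 m2_1302
  have h1304 : ∀ u < 112144, (fun u => chkFix tab mwords u) u = true := ext_range (a := 112058) (len := 86) h1303 m2_1303
  have h1305 : ∀ u < 112230, (fun u => chkFix tab mwords u) u = true := ext_range (a := 112144) (len := 86) h1304 m2_1304
  have h1306 : ∀ u < 112316, (fun u => chkFix tab mwords u) u = true := ext_range (a := 112230) (len := 86) h1305 m2_1305
  have h1307 : ∀ u < 112402, (fun u => chkFix tab mwords u) u = true := ext_range (a := 112316) (len := 86) h1306 m2_1306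
  have h1308 : ∀ u < 112488, (fun u => chkFix tab mwords u) u = true := ext_range (a := 112402) (len := 86) h1307 m2_1307
  have h1309 : ∀ u < 112574, (fun u => chkFix tab mwords u) u = true := ext_range (a := 112488) (len := 86) h1308 m2_1308
  have h1310 : ∀ u < 112660, (fun u => chkFix tab mwords u) u = true := ext_range (a := 112574) (len := 86) h1309 m2_1309
  have h1311 : ∀ u < 112746, (fun u => chkFix tab mwords u) u = true := ext_range (a := 112660) (len := 86) h1310 m2_1310
  have h1312 : ∀ u < 112832, (fun u => chkFix tab mwords u) u = true := ext_range (a := 112746) (len := 86) h1311 m2_1311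
  have h1313 : ∀ u < 112918, (fun u => chkFix tab mwords u) u = true := ext_range (a := 112832) (len := 86) h1312 m2_1312
  have h1314 : ∀ u < 113004, (fun u => chkFix tab mwords u) u = true := ext_range (a := 112918) (len := 86) h1313 m2_1313
  have h1315 : ∀ u < 113090, (fun u => chkFix tab mwords u) u = true := ext_range (a := 113004) (len := 86) h1314 m2_1314
  have h1316 : ∀ u < 113176, (fun u => chkFix tab mwords u) u = true := ext_range (a := 113090) (len := 86) h1315 m2_1315
  have h1317 : ∀ u < 113262, (fun u => chkFix tab mwords u) u = true := ext_range (a := 113176) (len := 86) h1316 m2_1316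
  have h1318 : ∀ u < 113348, (fun u => chkFix tab mwords u) u = true := ext_range (a := 113262) (len := 86) h1317 m2_1317
  have h1319 : ∀ u < 113434, (fun u => chkFix tab mwords u) u = true := ext_range (a := 113348) (len := 86) h1318 m2_1318
  have h1320 : ∀ u < 113520, (fun u => chkFix tab mwords u) u = true := ext_range (a := 113434) (len := 86) h1319 m2_1319
  have h1321 : ∀ u < 113606, (fun u => chkFix tab mwords u) u = true := ext_range (a := 113520) (len := 86) h1320 m2_1320
  have h1322 : ∀ u < 113692, (fun u => chkFix tab mwords u) u = true := ext_range (a := 113606) (len := 86) h1321 m2_1321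
  have h1323 : ∀ u < 113778, (fun u => chkFix tab mwords u) u = true := ext_range (a := 113692) (len := 86) h1322 m2_1322
  have h1324 : ∀ u < 113864, (fun u => chkFix tab mwords u) u = true := ext_range (a := 113778) (len := 86) h1323 m2_1323
  have h1325 : ∀ u < 113950, (fun u => chkFix tab mwords u) u = true := ext_range (a := 113864) (len := 86) h1324 m2_1324
  have h1326 : ∀ u < 114036, (fun u => chkFix tab mwords u) u = true := ext_range (a := 113950) (len := 86) h1325 m2_1325
  have h1327 : ∀ u < 114122, (fun u => chkFix tab mwords u) u = true := ext_range (a := 114036) (len := 86) h1326 m2_1326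
  have h1328 : ∀ u < 114208, (fun u => chkFix tab mwords u) u = true := ext_range (a := 114122) (len := 86) h1327 m2_1327
  have h1329 : ∀ u < 114294, (fun u => chkFix tab mwords u) u = true := ext_range (a := 114208) (len := 86) h1328 m2_1328
  have h1330 : ∀ u < 114380, (fun u => chkFix tab mwords u) u = true := ext_range (a := 114294) (len := 86) h1329 m2_1329
  have h1331 : ∀ u < 114466, (fun u => chkFix tab mwords u) u = true := ext_range (a := 114380) (len := 86) h1330 m2_1330
  have h1332 : ∀ u < 114552, (fun u => chkFix tab mwords u) u = true := ext_range (a := 114466) (len := 86) h1331 m2_1331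
  have h1333 : ∀ u < 114638, (fun u => chkFix tab mwords u) u = true := ext_range (a := 114552) (len := 86) h1332 m2_1332
  have h1334 : ∀ u < 114724, (fun u => chkFix tab mwords u) u = true := ext_range (a := 114638) (len := 86) h1333 m2_1333
  have h1335 : ∀ u < 114810, (fun u => chkFix tab mwords u) u = true := ext_range (a := 114724) (len := 86) h1334 m2_1334
  have h1336 : ∀ u < 114896, (fun u => chkFix tab mwords u) u = true := ext_range (a := 114810) (len := 86) h1335 m2_1335
  have h1337 : ∀ u < 114982, (fun u => chkFix tab mwords u) u = true := ext_range (a := 114896) (len := 86) h1336 m2_1336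
  have h1338 : ∀ u < 115068, (fun u => chkFix tab mwords u) u = true := ext_range (a := 114982) (len := 86) h1337 m2_1337
  have h1339 : ∀ u < 115154, (fun u => chkFix tab mwords u) u = true := ext_range (a := 115068) (len := 86) h1338 m2_1338
  have h1340 : ∀ u < 115240, (fun u => chkFix tab mwords u) u = true := ext_range (a := 115154) (len := 86) h1339 m2_1339
  have h1341 : ∀ u < 115326, (fun u => chkFix tab mwords u) u = true := ext_range (a := 115240) (len := 86) h1340 m2_1340
  have h1342 : ∀ u < 115412, (fun u => chkFix tab mwords u) u = true := ext_range (a := 115326) (len := 86) h1341 m2_1341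
  have h1343 : ∀ u < 115498, (fun u => chkFix tab mwords u) u = true := ext_range (a := 115412) (len := 86) h1342 m2_1342
  have h1344 : ∀ u < 115584, (fun u => chkFix tab mwords u) u = true := ext_range (a := 115498) (len := 86) h1343 m2_1343
  have h1345 : ∀ u < 115670, (fun u => chkFix tab mwords u) u = true := ext_range (a := 115584) (len := 86) h1344 m2_1344
  have h1346 : ∀ u < 115756, (fun u => chkFix tab mwords u) u = true := ext_range (a := 115670) (len := 86) h1345 m2_1345
  have h1347 : ∀ u < 115842, (fun u => chkFix tab mwords u) u = true := ext_range (a := 115756) (len := 86) h1346 m2_1346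
  have h1348 : ∀ u < 115928, (fun u => chkFix tab mwords u) u = true := ext_range (a := 115842) (len := 86) h1347 m2_1347
  have h1349 : ∀ u < 116014, (fun u => chkFix tab mwords u) u = true := ext_range (a := 115928) (len := 86) h1348 m2_1348
  have h1350 : ∀ u < 116100, (fun u => chkFix tab mwords u) u = true := ext_range (a := 116014) (len := 86) h1349 m2_1349
  have h1351 : ∀ u < 116186, (fun u => chkFix tab mwords u) u = true := ext_range (a := 116100) (len := 86) h1350 m2_1350
  have h1352 : ∀ u < 116272, (fun u => chkFix tab mwords u) u = true := ext_range (a := 116186) (len := 86) h1351 m2_1351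
  have h1353 : ∀ u < 116358, (fun u => chkFix tab mwords u) u = true := ext_range (a := 116272) (len := 86) h1352 m2_1352
  have h1354 : ∀ u < 116444, (fun u => chkFix tab mwords u) u = true := ext_range (a := 116358) (len := 86) h1353 m2_1353
  have h1355 : ∀ u < 116530, (fun u => chkFix tab mwords u) u = true := ext_range (a := 116444) (len := 86) h1354 m2_1354
  have h1356 : ∀ u < 116616, (fun u => chkFix tab mwords u) u = true := ext_range (a := 116530) (len := 86) h1355 m2_1355
  have h1357 : ∀ u < 116702, (fun u => chkFix tab mwords u) u = true := ext_range (a := 116616) (len := 86) h1356 m2_1356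
  have h1358 : ∀ u < 116788, (fun u => chkFix tab mwords u) u = true := ext_range (a := 116702) (len := 86) h1357 m2_1357
  have h1359 : ∀ u < 116874, (fun u => chkFix tab mwords u) u = true := ext_range (a := 116788) (len := 86) h1358 m2_1358
  have h1360 : ∀ u < 116960, (fun u => chkFix tab mwords u) u = true := ext_range (a := 116874) (len := 86) h1359 m2_1359
  have h1361 : ∀ u < 117046, (fun u => chkFix tab mwords u) u = true := ext_range (a := 116960) (len := 86) h1360 m2_1360
  have h1362 : ∀ u < 117132, (fun u => chkFix tab mwords u) u = true := ext_range (a := 117046) (len := 86) h1361 m2_1361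
  have h1363 : ∀ u < 117218, (fun u => chkFix tab mwords u) u = true := ext_range (a := 117132) (len := 86) h1362 m2_1362
  have h1364 : ∀ u < 117304, (fun u => chkFix tab mwords u) u = true := ext_range (a := 117218) (len := 86) h1363 m2_1363
  have h1365 : ∀ u < 117390, (fun u => chkFix tab mwords u) u = true := ext_range (a := 117304) (len := 86) h1364 m2_1364
  have h1366 : ∀ u < 117476, (fun u => chkFix tab mwords u) u = true := ext_range (a := 117390) (len := 86) h1365 m2_1365
  have h1367 : ∀ u < 117562, (fun u => chkFix tab mwords u) u = true := ext_range (a := 117476) (len := 86) h1366 m2_1366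
  have h1368 : ∀ u < 117648, (fun u => chkFix tab mwords u) u = true := ext_range (a := 117562) (len := 86) h1367 m2_1367
  have h1369 : ∀ u < 117734, (fun u => chkFix tab mwords u) u = true := ext_range (a := 117648) (len := 86) h1368 m2_1368
  have h1370 : ∀ u < 117820, (fun u => chkFix tab mwords u) u = true := ext_range (a := 117734) (len := 86) h1369 m2_1369
  have h1371 : ∀ u < 117906, (fun u => chkFix tab mwords u) u = true := ext_range (a := 117820) (len := 86) h1370 m2_1370
  have h1372 : ∀ u < 117992, (fun u => chkFix tab mwords u) u = true := ext_range (a := 117906) (len := 86) h1371 m2_1371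
  have h1373 : ∀ u < 118078, (fun u => chkFix tab mwords u) u = true := ext_range (a := 117992) (len := 86) h1372 m2_1372
  have h1374 : ∀ u < 118164, (fun u => chkFix tab mwords u) u = true := ext_range (a := 118078) (len := 86) h1373 m2_1373
  have h1375 : ∀ u < 118250, (fun u => chkFix tab mwords u) u = true := ext_range (a := 118164) (len := 86) h1374 m2_1374
  have h1376 : ∀ u < 118336, (fun u => chkFix tab mwords u) u = true := ext_range (a := 118250) (len := 86) h1375 m2_1375
  have h1377 : ∀ u < 118422, (fun u => chkFix tab mwords u) u = true := ext_range (a := 118336) (len := 86) h1376 m2_1376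
  have h1378 : ∀ u < 118508, (fun u => chkFix tab mwords u) u = true := ext_range (a := 118422) (len := 86) h1377 m2_1377
  have h1379 : ∀ u < 118594, (fun u => chkFix tab mwords u) u = true := ext_range (a := 118508) (len := 86) h1378 m2_1378
  have h1380 : ∀ u < 118680, (fun u => chkFix tab mwords u) u = true := ext_range (a := 118594) (len := 86) h1379 m2_1379
  have h1381 : ∀ u < 118766, (fun u => chkFix tab mwords u) u = true := ext_range (a := 118680) (len := 86) h1380 m2_1380
  have h1382 : ∀ u < 118852, (fun u => chkFix tab mwords u) u = true := ext_range (a := 118766) (len := 86) h1381 m2_1381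
  have h1383 : ∀ u < 118938, (fun u => chkFix tab mwords u) u = true := ext_range (a := 118852) (len := 86) h1382 m2_1382
  have h1384 : ∀ u < 119024, (fun u => chkFix tab mwords u) u = true := ext_range (a := 118938) (len := 86) h1383 m2_1383
  have h1385 : ∀ u < 119110, (fun u => chkFix tab mwords u) u = true := ext_range (a := 119024) (len := 86) h1384 m2_1384
  have h1386 : ∀ u < 119196, (fun u => chkFix tab mwords u) u = true := ext_range (a := 119110) (len := 86) h1385 m2_1385
  have h1387 : ∀ u < 119282, (fun u => chkFix tab mwords u) u = true := ext_range (a := 119196) (len := 86) h1386 m2_1386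
  have h1388 : ∀ u < 119368, (fun u => chkFix tab mwords u) u = true := ext_range (a := 119282) (len := 86) h1387 m2_1387
  have h1389 : ∀ u < 119454, (fun u => chkFix tab mwords u) u = true := ext_range (a := 119368) (len := 86) h1388 m2_1388
  have h1390 : ∀ u < 119540, (fun u => chkFix tab mwords u) u = true := ext_range (a := 119454) (len := 86) h1389 m2_1389
  have h1391 : ∀ u < 119626, (fun u => chkFix tab mwords u) u = true := ext_range (a := 119540) (len := 86) h1390 m2_1390
  have h1392 : ∀ u < 119712, (fun u => chkFix tab mwords u) u = true := ext_range (a := 119626) (len := 86) h1391 m2_1391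
  have h1393 : ∀ u < 119798, (fun u => chkFix tab mwords u) u = true := ext_range (a := 119712) (len := 86) h1392 m2_1392
  have h1394 : ∀ u < 119884, (fun u => chkFix tab mwords u) u = true := ext_range (a := 119798) (len := 86) h1393 m2_1393
  have h1395 : ∀ u < 119970, (fun u => chkFix tab mwords u) u = true := ext_range (a := 119884) (len := 86) h1394 m2_1394
  have h1396 : ∀ u < 120056, (fun u => chkFix tab mwords u) u = true := ext_range (a := 119970) (len := 86) h1395 m2_1395
  have h1397 : ∀ u < 120142, (fun u => chkFix tab mwords u) u = true := ext_range (a := 120056) (len := 86) h1396 m2_1396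
  have h1398 : ∀ u < 120228, (fun u => chkFix tab mwords u) u = true := ext_range (a := 120142) (len := 86) h1397 m2_1397
  have h1399 : ∀ u < 120314, (fun u => chkFix tab mwords u) u = true := ext_range (a := 120228) (len := 86) h1398 m2_1398
  have h1400 : ∀ u < 120400, (fun u => chkFix tab mwords u) u = true := ext_range (a := 120314) (len := 86) h1399 m2_1399
  have h1401 : ∀ u < 120486, (fun u => chkFix tab mwords u) u = true := ext_range (a := 120400) (len := 86) h1400 m2_1400
  have h1402 : ∀ u < 120572, (fun u => chkFix tab mwords u) u = true := ext_range (a := 120486) (len := 86) h1401 m2_1401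
  have h1403 : ∀ u < 120658, (fun u => chkFix tab mwords u) u = true := ext_range (a := 120572) (len := 86) h1402 m2_1402
  have h1404 : ∀ u < 120744, (fun u => chkFix tab mwords u) u = true := ext_range (a := 120658) (len := 86) h1403 m2_1403
  have h1405 : ∀ u < 120830, (fun u => chkFix tab mwords u) u = true := ext_range (a := 120744) (len := 86) h1404 m2_1404
  have h1406 : ∀ u < 120916, (fun u => chkFix tab mwords u) u = true := ext_range (a := 120830) (len := 86) h1405 m2_1405
  have h1407 : ∀ u < 121002, (fun u => chkFix tab mwords u) u = true := ext_range (a := 120916) (len := 86) h1406 m2_1406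
  have h1408 : ∀ u < 121088, (fun u => chkFix tab mwords u) u = true := ext_range (a := 121002) (len := 86) h1407 m2_1407
  have h1409 : ∀ u < 121174, (fun u => chkFix tab mwords u) u = true := ext_range (a := 121088) (len := 86) h1408 m2_1408
  have h1410 : ∀ u < 121260, (fun u => chkFix tab mwords u) u = true := ext_range (a := 121174) (len := 86) h1409 m2_1409
  have h1411 : ∀ u < 121346, (fun u => chkFix tab mwords u) u = true := ext_range (a := 121260) (len := 86) h1410 m2_1410
  have h1412 : ∀ u < 121432, (fun u => chkFix tab mwords u) u = true := ext_range (a := 121346) (len := 86) h1411 m2_1411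
  have h1413 : ∀ u < 121518, (fun u => chkFix tab mwords u) u = true := ext_range (a := 121432) (len := 86) h1412 m2_1412
  have h1414 : ∀ u < 121604, (fun u => chkFix tab mwords u) u = true := ext_range (a := 121518) (len := 86) h1413 m2_1413
  have h1415 : ∀ u < 121690, (fun u => chkFix tab mwords u) u = true := ext_range (a := 121604) (len := 86) h1414 m2_1414
  have h1416 : ∀ u < 121776, (fun u => chkFix tab mwords u) u = true := ext_range (a := 121690) (len := 86) h1415 m2_1415
  have h1417 : ∀ u < 121862, (fun u => chkFix tab mwords u) u = true := ext_range (a := 121776) (len := 86) h1416 m2_1416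
  have h1418 : ∀ u < 121948, (fun u => chkFix tab mwords u) u = true := ext_range (a := 121862) (len := 86) h1417 m2_1417
  have h1419 : ∀ u < 122034, (fun u => chkFix tab mwords u) u = true := ext_range (a := 121948) (len := 86) h1418 m2_1418
  have h1420 : ∀ u < 122120, (fun u => chkFix tab mwords u) u = true := ext_range (a := 122034) (len := 86) h1419 m2_1419
  have h1421 : ∀ u < 122206, (fun u => chkFix tab mwords u) u = true := ext_range (a := 122120) (len := 86) h1420 m2_1420
  have h1422 : ∀ u < 122292, (fun u => chkFix tab mwords u) u = true := ext_range (a := 122206) (len := 86) h1421 m2_1421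
  have h1423 : ∀ u < 122378, (fun u => chkFix tab mwords u) u = true := ext_range (a := 122292) (len := 86) h1422 m2_1422
  have h1424 : ∀ u < 122464, (fun u => chkFix tab mwords u) u = true := ext_range (a := 122378) (len := 86) h1423 m2_1423
  have h1425 : ∀ u < 122550, (fun u => chkFix tab mwords u) u = true := ext_range (a := 122464) (len := 86) h1424 m2_1424
  have h1426 : ∀ u < 122636, (fun u => chkFix tab mwords u) u = true := ext_range (a := 122550) (len := 86) h1425 m2_1425
  have h1427 : ∀ u < 122722, (fun u => chkFix tab mwords u) u = true := ext_range (a := 122636) (len := 86) h1426 m2_1426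
  have h1428 : ∀ u < 122760, (fun u => chkFix tab mwords u) u = true := ext_range (a := 122722) (len := 38) h1427 m2_1427
  exact h1428

theorem hE : ∀ c < 8, ∀ u < 231594, chkE tab c u = true := by
  intro c hc
  interval_cases c
  · exact hE0
  · exact hE1
  · exact hE2
  · exact hE3
  · exact hE4
  · exact hE5
  · exact hE6
  · exact hE7

end Cfsg.Agent.Helper9.TCData.X1692
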