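import Cfsg.Agent.Lib.Helper9.TC2Cox
import Cfsg.Agent.Lib.Helper9.TC2Pack
import Cfsg.Agent.Lib.Helper9.TCData.X1692.P0
import Cfsg.Agent.Lib.Helper9.TCData.X1692.P1
import Cfsg.Agent.Lib.Helper9.TCData.X1692.P2
import Cfsg.Agent.Lib.Helper9.TCData.X1692.P3
import Cfsg.Agent.Lib.Helper9.TCData.X1692.P4
import Cfsg.Agent.Lib.Helper9.TCData.X1692.P5
import Cfsg.Agent.Lib.Helper9.TCData.X1692.P6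
import Cfsg.Agent.Lib.Helper9.TCData.X1692.P7

set_option autoImplicit false
set_option maxRecDepth 100000

namespace Cfsg.Agent.Helper9.TCData.X1692
open Cfsg.Agent.Helper9.TC2
/-- The rotated relators. -/
noncomputable def rotT : WT := (WT.node 45 (WT.node 22 (WT.node 11 (WT.node 5 (WT.node 2 (WT.node 1 (WT.leaf [0, 4, 0, 3, 4, 0, 4, 3, 0, 3, 4]) (WT.leaf [0, 5, 0, 6, 5, 0, 5, 6, 0, 6, 5])) (WT.node 3 (WT.leaf [0, 4, 3, 0, 3, 4, 0, 4, 0, 3, 4]) (WT.node 4 (WT.leaf [0, 5, 0, 4, 1, 5, 1, 5, 4, 5]) (WT.leaf [0, 4, 0, 5, 1, 4, 1, 4, 5, 4])))) (WT.node 8 (WT.node 6 (WT.leaf [0, 5, 6, 0, 6, 5, 0, 5, 0, 6, 5]) (WT.node 7 (WT.leaf [0, 3, 4, 0, 4, 0, 3, 4, 0, 4, 3]) (WT.leaf [0, 3, 4, 0, 4, 3, 0, 3, 4, 0, 4]))) (WT.node 9 (WT.leaf [0, 6, 5, 0, 5, 0, 6, 5, 0, 5, 6])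 (WT.node 10 (WT.leaf [0, 5, 1, 4, 1, 4, 5, 4, 0, 4]) (WT.leaf [0, 3, 4, 5, 0, 3, 4, 5, 0, 3, 4, 5, 0, 3, 4, 5, 0, 3, 4, 5]))))) (WT.node 16 (WT.node 13 (WT.node 12 (WT.leaf [0, 6, 5, 0, 5, 6, 0, 6, 5, 0, 5]) (WT.leaf [0, 4, 1, 5, 1, 5, 4, 5, 0, 5])) (WT.node 14 (WT.leaf [1, 2, 7, 1]) (WT.node 15 (WT.leaf [1, 1, 2, 7]) (WT.leaf [1, 5, 4, 5, 0, 5, 0, 4, 1, 5])))) (WT.node 19 (WT.node 17 (WT.leaf [1, 4, 5, 4, 0, 4, 0, 5, 1, 4]) (WT.node 18 (WT.leaf [1, 5, 1, 5, 4, 5, 0, 5, 0, 4]) (WT.leaf [1, 4, 1, 4, 5, 4, 0, 4, 0, 5]))) (WT.node 20 (WT.leaf [2, 4, 2, 4]) (WT.node 21 (WT.leaf [2, 5, 2, 5]) (WT.leaf [2, 6, 2, 6])))))) (WT.node 33 (WT.node 27 (WT.node 24 (WT.node 23 (WT.leaf [2, 7, 2, 7]) (WT.leaf [2, 3, 2, 3, 2, 3])) (WT.node 25 (WT.leaf [2, 7, 1, 1]) (WT.node 26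 (WT.leaf [2, 7, 5, 4, 5, 4, 5, 4, 5, 4]) (WT.leaf [3, 5, 3, 5])))) (WT.node 30 (WT.node 28 (WT.leaf [3, 6, 3, 6]) (WT.node 29 (WT.leaf [3, 2, 3, 2, 3, 2]) (WT.leaf [3, 7, 3, 7]))) (WT.node 31 (WT.leaf [3, 0, 3, 4, 0, 4, 0, 3, 4, 0, 4]) (WT.node 32 (WT.leaf [3, 4, 0, 4, 0, 3, 4, 0, 4, 3, 0]) (WT.leaf [3, 4, 0, 4, 3, 0, 3, 4, 0, 4, 0]))))) (WT.node 39 (WT.node 36 (WT.node 34 (WT.leaf [3, 4, 3, 4, 3, 4]) (WT.node 35 (WT.leaf [3, 4, 5, 0, 3, 4, 5, 0, 3, 4, 5, 0, 3, 4, 5, 0, 3, 4, 5, 0]) (WT.leaf [4, 5, 0, 5, 0, 4, 1, 5, 1, 5]))) (WT.node 37 (WT.leaf [4, 6, 4, 6]) (WT.node 38 (WT.leaf [4, 7, 4, 7]) (WT.leaf [4, 3, 4, 3, 4, 3])))) (WT.node 42 (WT.node 40 (WT.leaf [4, 1, 4, 5, 4, 0, 4, 0, 5, 1]) (WT.node 41 (WT.leaf [4, 0, 4, 3, 0, 3, 4, 0, 4, 0, 3]) (WT.leaf [4, 0,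 3, 4, 0, 4, 3, 0, 3, 4, 0]))) (WT.node 43 (WT.leaf [4, 2, 4, 2]) (WT.node 44 (WT.leaf [4, 3, 0, 3, 4, 0, 4, 0, 3, 4, 0]) (WT.leaf [4, 0, 4, 0, 3, 4, 0, 4, 3, 0, 3]))))))) (WT.node 67 (WT.node 56 (WT.node 50 (WT.node 47 (WT.node 46 (WT.leaf [4, 5, 4, 0, 4, 0, 5, 1, 4, 1]) (WT.leaf [4, 0, 5, 1, 4, 1, 4, 5, 4, 0])) (WT.node 48 (WT.leaf [4, 5, 4, 5, 4, 5, 4, 2, 7, 5]) (WT.node 49 (WT.leaf [4, 0, 4, 0, 5, 1, 4, 1, 4, 5]) (WT.leaf [4, 5, 0, 3, 4, 5, 0, 3, 4, 5, 0, 3, 4, 5, 0, 3, 4, 5, 0, 3])))) (WT.node 53 (WT.node 51 (WT.leaf [4, 5, 4, 5, 4, 5, 4, 5, 4, 5, 4, 5, 4, 5, 4, 5]) (WT.node 52 (WT.leaf [4, 5, 4, 5, 4, 2, 7, 5, 4, 5]) (WT.leaf [4, 1, 5, 1, 5, 4, 5, 0, 5, 0]))) (WT.node 54 (WT.leaf [4, 2, 7, 5, 4, 5, 4, 5, 4, 5]) (WT.node 55 (WT.leaf [4, 5, 4, 2, 7, 5, 4,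 5, 4, 5]) (WT.leaf [5, 1, 4, 1, 4, 5, 4, 0, 4, 0]))))) (WT.node 61 (WT.node 58 (WT.node 57 (WT.leaf [5, 7, 5, 7]) (WT.leaf [5, 3, 5, 3])) (WT.node 59 (WT.leaf [5, 2, 5, 2]) (WT.node 60 (WT.leaf [5, 4, 0, 4, 0, 5, 1, 4, 1, 4]) (WT.leaf [5, 0, 6, 5, 0, 5, 6, 0, 6, 5, 0])))) (WT.node 64 (WT.node 62 (WT.leaf [5, 0, 5, 6, 0, 6, 5, 0, 5, 0, 6]) (WT.node 63 (WT.leaf [5, 0, 4, 1, 5, 1, 5, 4, 5, 0]) (WT.leaf [5, 6, 0, 6, 5, 0, 5, 0, 6, 5, 0]))) (WT.node 65 (WT.leaf [5, 6, 5, 6, 5, 6]) (WT.node 66 (WT.leaf [5, 1, 5, 4, 5, 0, 5, 0, 4, 1]) (WT.leaf [5, 4, 5, 4, 5, 4, 2, 7, 5, 4])))))) (WT.node 78 (WT.node 72 (WT.node 69 (WT.node 68 (WT.leaf [5, 4, 5, 4, 5, 4, 5, 4, 5, 4, 5, 4, 5, 4, 5, 4]) (WT.leaf [5, 0, 5, 0, 4, 1, 5, 1, 5, 4])) (WT.node 70 (WT.leaf [5, 4, 5, 4, 2, 7,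 5, 4, 5, 4]) (WT.node 71 (WT.leaf [5, 4, 5, 0, 5, 0, 4, 1, 5, 1]) (WT.leaf [5, 0, 3, 4, 5, 0, 3, 4, 5, 0, 3, 4, 5, 0, 3, 4, 5, 0, 3, 4])))) (WT.node 75 (WT.node 73 (WT.leaf [5, 0, 5, 0, 6, 5, 0, 5, 6, 0, 6]) (WT.node 74 (WT.leaf [5, 4, 2, 7, 5, 4, 5, 4, 5, 4]) (WT.leaf [5, 4, 5, 4, 5, 4, 5, 4, 2, 7]))) (WT.node 76 (WT.leaf [6, 5, 6, 5, 6, 5]) (WT.node 77 (WT.leaf [6, 7, 6, 7, 6, 7]) (WT.leaf [6, 5, 0, 5, 0, 6, 5, 0, 5, 6, 0]))))) (WT.node 84 (WT.node 81 (WT.node 79 (WT.leaf [6, 0, 6, 5, 0, 5, 0, 6, 5, 0, 5]) (WT.node 80 (WT.leaf [6, 3, 6, 3]) (WT.leaf [6, 4, 6, 4]))) (WT.node 82 (WT.leaf [6, 2, 6, 2]) (WT.node 83 (WT.leaf [6, 5, 0, 5, 6, 0, 6, 5, 0, 5, 0]) (WT.leaf [7, 1, 1, 2])))) (WT.node 87 (WT.node 85 (WT.leaf [7, 3, 7, 3]) (WT.node 86 (WT.leaf [7, 4, 7,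 4]) (WT.leaf [7, 5, 7, 5]))) (WT.node 88 (WT.leaf [7, 2, 7, 2]) (WT.node 89 (WT.leaf [7, 6, 7, 6, 7, 6]) (WT.leaf [7, 5, 4, 5, 4, 5, 4, 5, 4, 2]))))))))

/-- The sources of the rotated relators: relator and rotation. -/
def rotSrc : List (ℕ × ℕ) := [(41, 9), (42, 9), (41, 3), (38, 7), (39, 7), (42, 3), (41, 6), (41, 0), (42, 6), (39, 9), (40, 3), (42, 0), (38, 9), (36, 3), (36, 2), (38, 3), (39, 3), (38, 1), (39, 1), (2, 2), (3, 2), (4, 2), (5, 2), (1, 4), (36, 0), (37, 0), (9, 2), (10, 2), (1, 1), (11, 2), (41, 5), (41, 7), (41, 1), (8, 2), (40, 4), (38, 5), (16, 2), (17, 2), (8, 1), (39, 2), (41, 2), (41, 10), (2, 1), (41, 4), (41, 8), (39, 4), (39, 8), (37, 3), (39, 6), (40, 1), (15, 2), (37, 5), (38, 0), (37, 9), (37, 7), (39, 0), (23, 2), (9, 3), (3, 1),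 (39, 5), (42, 10), (42, 2), (38, 8), (42, 4), (22, 2), (38, 2), (37, 4), (15, 1), (38, 6), (37, 6), (38, 4), (40, 2), (42, 8), (37, 8), (37, 2), (22, 1), (29, 2), (42, 7), (42, 5), (10, 3), (16, 1), (4, 1), (42, 1), (36, 1), (11, 1), (17, 1), (23, 1), (5, 1), (29, 1), (37, 1)]

/-- The relators, as words of columns. -/
def relWords : List (List ℕ) := [[2, 2], [2, 3, 2, 3, 2, 3], [2, 4, 2, 4], [2, 5, 2, 5], [2, 6, 2, 6], [2, 7, 2, 7], [3, 2, 3, 2, 3, 2], [3, 3], [3, 4, 3, 4, 3, 4], [3, 5, 3, 5], [3, 6, 3, 6], [3, 7, 3, 7], [4, 2, 4, 2], [4, 3, 4, 3, 4, 3], [4, 4], [4, 5, 4, 5, 4, 5, 4, 5, 4, 5, 4, 5, 4, 5, 4, 5], [4, 6, 4, 6], [4, 7, 4, 7], [5, 2, 5, 2], [5, 3, 5, 3], [5, 4, 5, 4, 5, 4, 5, 4, 5, 4, 5, 4, 5, 4, 5, 4], [5, 5], [5, 6, 5, 6, 5, 6], [5, 7, 5, 7], [6,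 2, 6, 2], [6, 3, 6, 3], [6, 4, 6, 4], [6, 5, 6, 5, 6, 5], [6, 6], [6, 7, 6, 7, 6, 7], [7, 2, 7, 2], [7, 3, 7, 3], [7, 4, 7, 4], [7, 5, 7, 5], [7, 6, 7, 6, 7, 6], [7, 7], [2, 7, 1, 1], [2, 7, 5, 4, 5, 4, 5, 4, 5, 4], [4, 1, 5, 1, 5, 4, 5, 0, 5, 0], [5, 1, 4, 1, 4, 5, 4, 0, 4, 0], [3, 4, 5, 0, 3, 4, 5, 0, 3, 4, 5, 0, 3, 4, 5, 0, 3, 4, 5, 0], [0, 3, 4, 0, 4, 3, 0, 3, 4, 0, 4], [0, 6, 5, 0, 5, 6, 0, 6, 5, 0, 5]]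

/-- The words checked on the permutation model. -/
def mwords : List (List ℕ) := [[2, 3, 2, 3, 2, 3], [2, 4, 2, 4], [2, 5, 2, 5], [2, 6, 2, 6], [2, 7, 2, 7], [3, 4, 3, 4, 3, 4], [3, 5, 3, 5], [3, 6, 3, 6], [3, 7, 3, 7], [4, 5, 4, 5, 4, 5, 4, 5, 4, 5, 4, 5, 4, 5, 4, 5], [4, 6, 4, 6], [4, 7, 4, 7], [5, 6, 5, 6, 5, 6], [5, 7, 5, 7], [6, 7, 6, 7, 6, 7], [2, 7, 1, 1], [2, 7, 5, 4, 5, 4, 5, 4, 5, 4], [4, 1, 5, 1, 5, 4, 5, 0, 5, 0], [5, 1, 4, 1, 4, 5, 4, 0, 4, 0], [3, 4, 5, 0, 3, 4, 5, 0, 3, 4, 5, 0, 3, 4, 5, 0, 3, 4, 5, 0], [0, 3, 4, 0, 4, 3, 0, 3, 4, 0, 4], [0, 6, 5, 0, 5, 6, 0, 6, 5, 0, 5]]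

/-- The table. -/
noncomputable def tab : Tab where
  k := 8
  inv := fun c => (bif Nat.beq c 0 then 1 else (bif Nat.beq c 1 then 0 else (bif Nat.beq c 2 then 2 else (bif Nat.beq c 3 then 3 else (bif Nat.beq c 4 then 4 else (bif Nat.beq c 5 then 5 else (bif Nat.beq c 6 then 6 else (bif Nat.beq c 7 then 7 else c))))))))
  N := 231594
  n := 122760
  Tmax := 1512565
  wn := 18
  mn := 0x3ffff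
  subs := [[2], [3], [4], [5], [6], [7]]
  rot := fun i => rotT.getF i
  ent := fun c i => bget2 (BT.node 4096 (BT.node 2048 (BT.node 1024 (BT.node 452 entT_0 entT_1) (BT.node 1476 entT_2 entT_3)) (BT.node 3072 (BT.node 2500 entT_4 entT_5) (BT.node 3524 entT_6 entT_7))) (BT.node 6144 (BT.node 5120 (BT.node 4548 entT_8 entT_9) (BT.node 5572 entT_10 entT_11)) (BT.node 7168 (BT.node 6596 entT_12 entT_13) (BT.node 7620 entT_14 entT_15)))) 10 8 39 0x7fffffffff 255 c i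
  cer := fun c i => bget2 (BT.node 2048 (BT.node 1024 (BT.node 512 cerT_0 cerT_1) (BT.node 1536 cerT_2 cerT_3)) (BT.node 3072 (BT.node 2560 cerT_4 cerT_5) (BT.node 3584 cerT_6 cerT_7))) 9 9 21 0x1fffff 511 c i
  tau := fun c i => bget2 (BT.node 1024 (BT.node 512 tauT_0 tauT_1) (BT.node 1536 tauT_2 tauT_3)) 8 9 17 0x1ffff 511 c i
  lk := fun i => bget (BT.node 452 lkT_0 lkT_1) 8 39 0x7fffffffff 255 i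
  lc := fun i => bget (BT.node 452 lcT_0 lcT_1) 8 41 0x1ffffffffff 255 i
  pn := fun i => bget pnT_0 9 21 0x1fffff 511 i
  cls := fun i => bget clsT_0 9 17 0x1ffff 511 i
  rep := fun i => bget repT_0 9 18 0x3ffff 511 i

end Cfsg.Agent.Helper9.TCData.X1692
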