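import Cfsg.Agent.Lib.Helper9.TCData.X1692.Main

set_option autoImplicit false
set_option maxRecDepth 1000000

namespace Cfsg.Agent.Helper9.TCData.X1692
open Cfsg.Agent.Helper9.TC2

theorem e0_0 : allRange 0 3850 (fun u => chkE tab 0 u) = true := by decide +kernel

theorem e0_1 : allRange 3850 3561 (fun u => chkE tab 0 u) = true := by decide +kernel

theorem e0_2 : allRange 7411 3364 (fun u => chkE tab 0 u) = true := by decide +kernel

theorem e0_3 : allRange 10775 3005 (fun u => chkE tab 0 u) = true := by decide +kernel

theorem e0_4 : allRange 13780 3474 (fun u => chkE tab 0 u) = true := by decide +kernel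

theorem e0_5 : allRange 17254 3288 (fun u => chkE tab 0 u) = true := by decide +kernel

theorem e0_6 : allRange 20542 3888 (fun u => chkE tab 0 u) = true := by decide +kernel

theorem e0_7 : allRange 24430 2587 (fun u => chkE tab 0 u) = true := by decide +kernel

theorem e0_8 : allRange 27017 3007 (fun u => chkE tab 0 u) = true := by decide +kernel

theorem e0_9 : allRange 30024 3332 (fun u => chkE tab 0 u) = true := by decide +kernel


end Cfsg.Agent.Helper9.TCData.X1692
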