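import Cfsg.Agent.Lib.Helper9.TCData.X1692.Main

set_option autoImplicit false
set_option maxRecDepth 1000000

namespace Cfsg.Agent.Helper9.TCData.X1692
open Cfsg.Agent.Helper9.TC2

theorem m1_70 : allRange 55510 793 (fun u => chkM1 tab u) = true := by decide +kernel

theorem m1_71 : allRange 56303 793 (fun u => chkM1 tab u) = true := by decide +kernel

theorem m1_72 : allRange 57096 793 (fun u => chkM1 tab u) = true := by decide +kernel

theorem m1_73 : allRange 57889 793 (fun u => chkM1 tab u) = true := by decide +kernel

theorem m1_74 : allRange 58682 793 (fun u => chkM1 tab u) = true := by decide +kernel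

theorem m1_75 : allRange 59475 793 (fun u => chkM1 tab u) = true := by decide +kernel

theorem m1_76 : allRange 60268 793 (fun u => chkM1 tab u) = true := by decide +kernel

theorem m1_77 : allRange 61061 793 (fun u => chkM1 tab u) = true := by decide +kernel

theorem m1_78 : allRange 61854 793 (fun u => chkM1 tab u) = true := by decide +kernel

theorem m1_79 : allRange 62647 793 (fun u => chkM1 tab u) = true := by decide +kernel


end Cfsg.Agent.Helper9.TCData.X1692
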