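import Cfsg.Agent.Lib.Helper9.TCData.X1692.Main

set_option autoImplicit false
set_option maxRecDepth 1000000

namespace Cfsg.Agent.Helper9.TCData.X1692
open Cfsg.Agent.Helper9.TC2

theorem m2_35 : allRange 3010 86 (fun u => chkFix tab mwords u) = true := by decide +kernel

theorem m2_36 : allRange 3096 86 (fun u => chkFix tab mwords u) = true := by decide +kernel

theorem m2_37 : allRange 3182 86 (fun u => chkFix tab mwords u) = true := by decide +kernel

theorem m2_38 : allRange 3268 86 (fun u => chkFix tab mwords u) = true := by decide +kernel

theorem m2_39 : allRange 3354 86 (fun u => chkFix tab mwords u) = true := by decide +kernel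

theorem m2_40 : allRange 3440 86 (fun u => chkFix tab mwords u) = true := by decide +kernel

theorem m2_41 : allRange 3526 86 (fun u => chkFix tab mwords u) = true := by decide +kernel

theorem m2_42 : allRange 3612 86 (fun u => chkFix tab mwords u) = true := by decide +kernel

theorem m2_43 : allRange 3698 86 (fun u => chkFix tab mwords u) = true := by decide +kernel

theorem m2_44 : allRange 3784 86 (fun u => chkFix tab mwords u) = true := by decide +kernel


end Cfsg.Agent.Helper9.TCData.X1692
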