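import Cfsg.Agent.Lib.Helper9.TCData.X1692.Main

set_option autoImplicit false
set_option maxRecDepth 1000000

namespace Cfsg.Agent.Helper9.TCData.X1692
open Cfsg.Agent.Helper9.TC2

theorem m2_275 : allRange 23650 86 (fun u => chkFix tab mwords u) = true := by decide +kernel

theorem m2_276 : allRange 23736 86 (fun u => chkFix tab mwords u) = true := by decide +kernel

theorem m2_277 : allRange 23822 86 (fun u => chkFix tab mwords u) = true := by decide +kernel

theorem m2_278 : allRange 23908 86 (fun u => chkFix tab mwords u) = true := by decide +kernel

theorem m2_279 : allRange 23994 86 (fun u => chkFix tab mwords u) = true := by decide +kernel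

theorem m2_280 : allRange 24080 86 (fun u => chkFix tab mwords u) = true := by decide +kernel

theorem m2_281 : allRange 24166 86 (fun u => chkFix tab mwords u) = true := by decide +kernel

theorem m2_282 : allRange 24252 86 (fun u => chkFix tab mwords u) = true := by decide +kernel

theorem m2_283 : allRange 24338 86 (fun u => chkFix tab mwords u) = true := by decide +kernel

theorem m2_284 : allRange 24424 86 (fun u => chkFix tab mwords u) = true := by decide +kernel


end Cfsg.Agent.Helper9.TCData.X1692
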