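import Cfsg.Agent.Lib.Helper9.TCData.X1692.Main

set_option autoImplicit false
set_option maxRecDepth 1000000

namespace Cfsg.Agent.Helper9.TCData.X1692
open Cfsg.Agent.Helper9.TC2

theorem m2_515 : allRange 44290 86 (fun u => chkFix tab mwords u) = true := by decide +kernel

theorem m2_516 : allRange 44376 86 (fun u => chkFix tab mwords u) = true := by decide +kernel

theorem m2_517 : allRange 44462 86 (fun u => chkFix tab mwords u) = true := by decide +kernel

theorem m2_518 : allRange 44548 86 (fun u => chkFix tab mwords u) = true := by decide +kernel

theorem m2_519 : allRange 44634 86 (fun u => chkFix tab mwords u) = true := by decide +kernel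

theorem m2_520 : allRange 44720 86 (fun u => chkFix tab mwords u) = true := by decide +kernel

theorem m2_521 : allRange 44806 86 (fun u => chkFix tab mwords u) = true := by decide +kernel

theorem m2_522 : allRange 44892 86 (fun u => chkFix tab mwords u) = true := by decide +kernel

theorem m2_523 : allRange 44978 86 (fun u => chkFix tab mwords u) = true := by decide +kernel

theorem m2_524 : allRange 45064 86 (fun u => chkFix tab mwords u) = true := by decide +kernel


end Cfsg.Agent.Helper9.TCData.X1692
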