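import Cfsg.Agent.Lib.Helper9.TCData.X1692.Main

set_option autoImplicit false
set_option maxRecDepth 1000000

namespace Cfsg.Agent.Helper9.TCData.X1692
open Cfsg.Agent.Helper9.TC2

theorem m2_635 : allRange 54610 86 (fun u => chkFix tab mwords u) = true := by decide +kernel

theorem m2_636 : allRange 54696 86 (fun u => chkFix tab mwords u) = true := by decide +kernel

theorem m2_637 : allRange 54782 86 (fun u => chkFix tab mwords u) = true := by decide +kernel

theorem m2_638 : allRange 54868 86 (fun u => chkFix tab mwords u) = true := by decide +kernel

theorem m2_639 : allRange 54954 86 (fun u => chkFix tab mwords u) = true := by decide +kernel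

theorem m2_640 : allRange 55040 86 (fun u => chkFix tab mwords u) = true := by decide +kernel

theorem m2_641 : allRange 55126 86 (fun u => chkFix tab mwords u) = true := by decide +kernel

theorem m2_642 : allRange 55212 86 (fun u => chkFix tab mwords u) = true := by decide +kernel

theorem m2_643 : allRange 55298 86 (fun u => chkFix tab mwords u) = true := by decide +kernel

theorem m2_644 : allRange 55384 86 (fun u => chkFix tab mwords u) = true := by decide +kernel


end Cfsg.Agent.Helper9.TCData.X1692
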