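import Cfsg.Agent.Lib.Helper9.TCData.X1692.Main

set_option autoImplicit false
set_option maxRecDepth 1000000

namespace Cfsg.Agent.Helper9.TCData.X1692
open Cfsg.Agent.Helper9.TC2

theorem m2_875 : allRange 75250 86 (fun u => chkFix tab mwords u) = true := by decide +kernel

theorem m2_876 : allRange 75336 86 (fun u => chkFix tab mwords u) = true := by decide +kernel

theorem m2_877 : allRange 75422 86 (fun u => chkFix tab mwords u) = true := by decide +kernel

theorem m2_878 : allRange 75508 86 (fun u => chkFix tab mwords u) = true := by decide +kernel

theorem m2_879 : allRange 75594 86 (fun u => chkFix tab mwords u) = true := by decide +kernel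

theorem m2_880 : allRange 75680 86 (fun u => chkFix tab mwords u) = true := by decide +kernel

theorem m2_881 : allRange 75766 86 (fun u => chkFix tab mwords u) = true := by decide +kernel

theorem m2_882 : allRange 75852 86 (fun u => chkFix tab mwords u) = true := by decide +kernel

theorem m2_883 : allRange 75938 86 (fun u => chkFix tab mwords u) = true := by decide +kernel

theorem m2_884 : allRange 76024 86 (fun u => chkFix tab mwords u) = true := by decide +kernel


end Cfsg.Agent.Helper9.TCData.X1692
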