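import Cfsg.Agent.Lib.Helper9.TCData.X1692.Main

set_option autoImplicit false
set_option maxRecDepth 1000000

namespace Cfsg.Agent.Helper9.TCData.X1692
open Cfsg.Agent.Helper9.TC2

theorem m2_995 : allRange 85570 86 (fun u => chkFix tab mwords u) = true := by decide +kernel

theorem m2_996 : allRange 85656 86 (fun u => chkFix tab mwords u) = true := by decide +kernel

theorem m2_997 : allRange 85742 86 (fun u => chkFix tab mwords u) = true := by decide +kernel

theorem m2_998 : allRange 85828 86 (fun u => chkFix tab mwords u) = true := by decide +kernel

theorem m2_999 : allRange 85914 86 (fun u => chkFix tab mwords u) = true := by decide +kernel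

theorem m2_1000 : allRange 86000 86 (fun u => chkFix tab mwords u) = true := by decide +kernel

theorem m2_1001 : allRange 86086 86 (fun u => chkFix tab mwords u) = true := by decide +kernel

theorem m2_1002 : allRange 86172 86 (fun u => chkFix tab mwords u) = true := by decide +kernel

theorem m2_1003 : allRange 86258 86 (fun u => chkFix tab mwords u) = true := by decide +kernel

theorem m2_1004 : allRange 86344 86 (fun u => chkFix tab mwords u) = true := by decide +kernel


end Cfsg.Agent.Helper9.TCData.X1692
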