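import Cfsg.Agent.Lib.Helper9.TCData.X1692.Main

set_option autoImplicit false
set_option maxRecDepth 1000000

namespace Cfsg.Agent.Helper9.TCData.X1692
open Cfsg.Agent.Helper9.TC2

theorem e3_12 : allRange 38932 3463 (fun u => chkE tab 3 u) = true := by decide +kernel

theorem e3_13 : allRange 42395 2952 (fun u => chkE tab 3 u) = true := by decide +kernel

theorem e3_14 : allRange 45347 2881 (fun u => chkE tab 3 u) = true := by decide +kernel

theorem e3_15 : allRange 48228 2810 (fun u => chkE tab 3 u) = true := by decide +kernel

theorem e3_16 : allRange 51038 2962 (fun u => chkE tab 3 u) = true := by decide +kernel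

theorem e3_17 : allRange 54000 3342 (fun u => chkE tab 3 u) = true := by decide +kernel

theorem e3_18 : allRange 57342 3599 (fun u => chkE tab 3 u) = true := by decide +kernel

theorem e3_19 : allRange 60941 3035 (fun u => chkE tab 3 u) = true := by decide +kernel

theorem e3_20 : allRange 63976 3108 (fun u => chkE tab 3 u) = true := by decide +kernel

theorem e3_21 : allRange 67084 3352 (fun u => chkE tab 3 u) = true := by decide +kernel


end Cfsg.Agent.Helper9.TCData.X1692
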