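import Cfsg.Agent.Lib.Helper9.TCData.X1692.Main

set_option autoImplicit false
set_option maxRecDepth 1000000

namespace Cfsg.Agent.Helper9.TCData.X1692
open Cfsg.Agent.Helper9.TC2

theorem m2_1115 : allRange 95890 86 (fun u => chkFix tab mwords u) = true := by decide +kernel

theorem m2_1116 : allRange 95976 86 (fun u => chkFix tab mwords u) = true := by decide +kernel

theorem m2_1117 : allRange 96062 86 (fun u => chkFix tab mwords u) = true := by decide +kernel

theorem m2_1118 : allRange 96148 86 (fun u => chkFix tab mwords u) = true := by decide +kernel

theorem m2_1119 : allRange 96234 86 (fun u => chkFix tab mwords u) = true := by decide +kernel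

theorem m2_1120 : allRange 96320 86 (fun u => chkFix tab mwords u) = true := by decide +kernel

theorem m2_1121 : allRange 96406 86 (fun u => chkFix tab mwords u) = true := by decide +kernel

theorem m2_1122 : allRange 96492 86 (fun u => chkFix tab mwords u) = true := by decide +kernel

theorem m2_1123 : allRange 96578 86 (fun u => chkFix tab mwords u) = true := by decide +kernel

theorem m2_1124 : allRange 96664 86 (fun u => chkFix tab mwords u) = true := by decide +kernel


end Cfsg.Agent.Helper9.TCData.X1692
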