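import Cfsg.Agent.Lib.Helper9.TCData.X1692.Main

set_option autoImplicit false
set_option maxRecDepth 1000000

namespace Cfsg.Agent.Helper9.TCData.X1692
open Cfsg.Agent.Helper9.TC2

theorem m2_1235 : allRange 106210 86 (fun u => chkFix tab mwords u) = true := by decide +kernel

theorem m2_1236 : allRange 106296 86 (fun u => chkFix tab mwords u) = true := by decide +kernel

theorem m2_1237 : allRange 106382 86 (fun u => chkFix tab mwords u) = true := by decide +kernel

theorem m2_1238 : allRange 106468 86 (fun u => chkFix tab mwords u) = true := by decide +kernel

theorem m2_1239 : allRange 106554 86 (fun u => chkFix tab mwords u) = true := by decide +kernel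

theorem m2_1240 : allRange 106640 86 (fun u => chkFix tab mwords u) = true := by decide +kernel

theorem m2_1241 : allRange 106726 86 (fun u => chkFix tab mwords u) = true := by decide +kernel

theorem m2_1242 : allRange 106812 86 (fun u => chkFix tab mwords u) = true := by decide +kernel

theorem m2_1243 : allRange 106898 86 (fun u => chkFix tab mwords u) = true := by decide +kernel

theorem m2_1244 : allRange 106984 86 (fun u => chkFix tab mwords u) = true := by decide +kernel


end Cfsg.Agent.Helper9.TCData.X1692
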