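import Cfsg.Agent.Lib.Helper9.TCData.X1692.Main

set_option autoImplicit false
set_option maxRecDepth 1000000

namespace Cfsg.Agent.Helper9.TCData.X1692
open Cfsg.Agent.Helper9.TC2

theorem e4_67 : allRange 213655 2107 (fun u => chkE tab 4 u) = true := by decide +kernel

theorem e4_68 : allRange 215762 2200 (fun u => chkE tab 4 u) = true := by decide +kernel

theorem e4_69 : allRange 217962 2312 (fun u => chkE tab 4 u) = true := by decide +kernel

theorem e4_70 : allRange 220274 2271 (fun u => chkE tab 4 u) = true := by decide +kernel

theorem e4_71 : allRange 222545 2420 (fun u => chkE tab 4 u) = true := by decide +kernel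

theorem e4_72 : allRange 224965 2678 (fun u => chkE tab 4 u) = true := by decide +kernel

theorem e4_73 : allRange 227643 3015 (fun u => chkE tab 4 u) = true := by decide +kernel

theorem e4_74 : allRange 230658 936 (fun u => chkE tab 4 u) = true := by decide +kernel

theorem e5_0 : allRange 0 4098 (fun u => chkE tab 5 u) = true := by decide +kernel

theorem e5_1 : allRange 4098 3995 (fun u => chkE tab 5 u) = true := by decide +kernel


end Cfsg.Agent.Helper9.TCData.X1692
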