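import Cfsg.Agent.Lib.Helper9.TCData.X1692.Main

set_option autoImplicit false
set_option maxRecDepth 1000000

namespace Cfsg.Agent.Helper9.TCData.X1692
open Cfsg.Agent.Helper9.TC2

theorem e6_44 : allRange 202328 2561 (fun u => chkE tab 6 u) = true := by decide +kernel

theorem e6_45 : allRange 204889 2560 (fun u => chkE tab 6 u) = true := by decide +kernel

theorem e6_46 : allRange 207449 2692 (fun u => chkE tab 6 u) = true := by decide +kernel

theorem e6_47 : allRange 210141 2689 (fun u => chkE tab 6 u) = true := by decide +kernel

theorem e6_48 : allRange 212830 2705 (fun u => chkE tab 6 u) = true := by decide +kernel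

theorem e6_49 : allRange 215535 2657 (fun u => chkE tab 6 u) = true := by decide +kernel

theorem e6_50 : allRange 218192 2836 (fun u => chkE tab 6 u) = true := by decide +kernel

theorem e6_51 : allRange 221028 2904 (fun u => chkE tab 6 u) = true := by decide +kernel

theorem e6_52 : allRange 223932 3081 (fun u => chkE tab 6 u) = true := by decide +kernel

theorem e6_53 : allRange 227013 3493 (fun u => chkE tab 6 u) = true := by decide +kernel


end Cfsg.Agent.Helper9.TCData.X1692
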