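import Cfsg.Agent.Lib.Helper9.TCData.X1692.Main

set_option autoImplicit false
set_option maxRecDepth 1000000

namespace Cfsg.Agent.Helper9.TCData.X1692
open Cfsg.Agent.Helper9.TC2

theorem f_200 : allRange 61600 308 (fun u => chkFin tab u) = true := by decide +kernel

theorem f_201 : allRange 61908 308 (fun u => chkFin tab u) = true := by decide +kernel

theorem f_202 : allRange 62216 308 (fun u => chkFin tab u) = true := by decide +kernel

theorem f_203 : allRange 62524 308 (fun u => chkFin tab u) = true := by decide +kernel

theorem f_204 : allRange 62832 308 (fun u => chkFin tab u) = true := by decide +kernel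

theorem f_205 : allRange 63140 308 (fun u => chkFin tab u) = true := by decide +kernel

theorem f_206 : allRange 63448 308 (fun u => chkFin tab u) = true := by decide +kernel

theorem f_207 : allRange 63756 308 (fun u => chkFin tab u) = true := by decide +kernel

theorem f_208 : allRange 64064 308 (fun u => chkFin tab u) = true := by decide +kernel

theorem f_209 : allRange 64372 308 (fun u => chkFin tab u) = true := by decide +kernel


end Cfsg.Agent.Helper9.TCData.X1692
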